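import Mathlib

/-!
# Node Q: the facts on the known group `K` which are used

`K` simple, `U` a Sylow 2-subgroup of `K`. For every known `K` (not listed, not covered by node NI) ONE of
`NoThree K`, `KBig U`, `KTwo U V`, `KZ K` is needed.
-/

set_option autoImplicit false

namespace Cfsg.Agent.OddHalf.Quat

open Subgroup

variable {K : Type*} [Group K]

/-- `Out(K)` has no element of order 3 -/
def NoThree (K : Type*) [Group K] : Prop :=
  ∀ α : MulAut K, α * α * α ∈ (MulAut.conj : K →* MulAut K).range → α ∈ (MulAut.conj : K →* MulAut K).range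

/-- the involutions in the centre of `U`, and `1` -/
def XZ (U : Subgroup K) : Set K := {x | x ∈ U ∧ x * x = 1 ∧ ∀ u ∈ U, u * x = x * u}

/-- groups of characteristic 2 over fields of order at least 4 -/
structure KBig (U : Subgroup K) : Prop where
  /-- `N_K(U)` fixes no involution of `Z(U)` -/
  mv : ∀ w ∈ XZ U, w ≠ 1 → ∃ r ∈ normalizer (U : Set K), r * w ≠ w * r
  /-- a 2-automorphism normalising `U` and not centralising `Ω₁(Z(U))` centralises no subgroup of `U` of index `≤ 4` -/
  act : ∀ α : MulAut K, IsPGroup 2 (zpowers α) → (∀ u ∈ U, α u ∈ U) → (∃ x ∈ XZ U, α x ≠ x) →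
    ∀ C : Subgroup K, C ≤ U → (∀ u ∈ C, α u = u) → 4 < C.relIndex U

/-- the twisted groups over the field of order 2: `U_3k(2)`, `³D₄(2)`, `²E₆(2)` -/
structure KTwo (U V : Subgroup K) : Prop where
  le : V ≤ U
  sq : ∀ x ∈ V, x * x = 1
  card : Nat.card V ≤ 16
  /-- `V` is normalised by every automorphism which normalises `U` -/
  inv : ∀ α : MulAut K, (∀ u ∈ U, α u ∈ U) → ∀ x ∈ V, α x ∈ V
  /-- `Z(U)` has exactly one involution `w`, `w ∈ V`, and `N_K(V)` does not centralise `w` -/
  w : ∃ w ∈ V, w ≠ 1 ∧ (∀ x ∈ XZ U, x = 1 ∨ x = w) ∧ ∃ r : K, (∀ x ∈ V, r * x * r⁻¹ ∈ V) ∧ r * w ≠ w * r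
  /-- `4` does not divide `|Out(K)|` -/
  out : ¬ 4 ∣ (MulAut.conj : K →* MulAut K).range.index
  big : 512 < Nat.card U

/-- `L₂(q)`, `q` odd: every involution of `K` commutes with an element `x` of order prime to `6` whose centralizer in
`Aut(K)` contains no quaternion group of order 8 -/
def KZ (K : Type*) [Group K] : Prop :=
  ∀ z : K, orderOf z = 2 → ∃ x : K, x * z = z * x ∧ Nat.Coprime (orderOf x) 6 ∧
    ∀ Q : Subgroup (MulAut K), (∀ α ∈ Q, α x = x) → ¬ Nonempty (Q ≃* QuaternionGroup 2)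

end Cfsg.Agent.OddHalf.Quat
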