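import Cfsg.Agent.StdRank2.HexOut
import Cfsg.Agent.OddHalf.Quat.KF

/-!
# Node Q: `G₂(q)` and `³D₄(q)`, `q` even

For a hexagonal system `HexTwo σ x` in a finite group `K` with `AA σ x = ⊤` and a Sylow 2-subgroup `P`:
`exists_sylow`: after conjugation `P = UU σ x`; then `Ω₁(Z(P)) = X₄`, `N_K(P) = P H`, transitive on `X₄#` with abelian
image.
-/

set_option autoImplicit false
set_option maxHeartbeats 400000

namespace Cfsg.Agent.OddHalf.Quat.RowHex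

open Subgroup Cfsg.Agent.StdRank2.Hex Cfsg.Agent.StdRank2.Hex.HexTwo

variable {E : Type*} [Field E] {σ : E ≃+* E} {K : Type*} [Group K] {x : ZMod 12 → E → K}

/-- every Sylow 2-subgroup is `UU` of a conjugate system -/
theorem exists_sylow [Finite E] [Finite K] (h : HexTwo σ x) (htop : AA σ x = ⊤) (P : Sylow 2 K) :
    ∃ y : ZMod 12 → E → K, HexTwo σ y ∧ AA σ y = ⊤ ∧ (P : Subgroup K) = UU σ y := by
  obtain ⟨p, -, hp⟩ := h.sylow_conj (S := ⊤) le_top (by rw [htop]) P.isPGroup' le_top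
  have h1 : (P : Subgroup K) ≤ UU σ (cj p⁻¹ x) := fun y hy => by
    rw [UU, mem_gen_cj, inv_inv]
    exact hp y hy
  refine ⟨cj p⁻¹ x, h.conj p⁻¹, ?_, ?_⟩
  · refine eq_top_iff.2 fun y _ => ?_
    rw [AA, mem_gen_cj, inv_inv]
    have : p * y * p⁻¹ ∈ AA σ x := by rw [htop]; exact mem_top _
    exact this
  · exact (P.3 (h.conj p⁻¹).isPGroup_U h1).symm

variable (h : HexTwo σ x)
include h

theorem XZ_eq : XZ (UU σ x) = (gen σ x {4} : Set K) := by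
  ext y
  constructor
  · rintro ⟨h1, -, h3⟩
    exact h.mem_X4_of_U h1 fun v hv => (h3 v hv).symm
  · intro hy
    obtain ⟨t, ht, rfl⟩ := h.mem_gen_singleton.1 hy
    refine ⟨x_mem_gen (show (4 - 1 : ZMod 12).val < 6 by decide) ht, h.x_sq ht, fun u hu => ?_⟩
    exact (h.comm_gen_long (by decide) ht (gen_mono (fun l hl => by
      have : ∀ l : ZMod 12, (l - 1).val < 6 → (l - (4 - 3)).val < 7 := by decide
      exact this l hl) hu)).symm

theorem mem_normalizer_H [Finite E] {t : K} (ht : t ∈ h.H) : t ∈ normalizer (UU σ x : Set K) := by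
  rw [mem_normalizer_iff]
  intro y
  refine ⟨fun hy => h.H_conj_gen ht _ hy, fun hy => ?_⟩
  have h1 : t⁻¹ * (t * y * t⁻¹) * t⁻¹⁻¹ ∈ UU σ x := h.H_conj_gen (h.H.inv_mem ht) _ hy
  have h2 : t⁻¹ * (t * y * t⁻¹) * t⁻¹⁻¹ = y := by group
  rwa [h2] at h1

theorem trans [Finite E] {y z : K} (hy : y ∈ XZ (UU σ x)) (hz : z ∈ XZ (UU σ x)) (hy1 : y ≠ 1) (hz1 : z ≠ 1) :
    ∃ r ∈ normalizer (UU σ x : Set K), r * y * r⁻¹ = z := by
  rw [XZ_eq h] at hy hz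
  obtain ⟨a, ha, rfl⟩ := h.mem_gen_singleton.1 hy
  obtain ⟨b, hb, rfl⟩ := h.mem_gen_singleton.1 hz
  have ha0 : a ≠ 0 := fun e => hy1 (by rw [e, h.x_zero])
  have hb0 : b ≠ 0 := fun e => hz1 (by rw [e, h.x_zero])
  obtain ⟨s, hs⟩ := h.exists_sqrt (b * a⁻¹)
  have hs0 : s ≠ 0 := by
    rintro rfl
    rw [zero_mul] at hs
    exact mul_ne_zero hb0 (inv_ne_zero ha0) hs.symm
  have hsf : σ s = s := h.sqrt_fix hs (by
    rw [map_mul, map_inv₀, ha (by decide), hb (by decide)])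
  refine ⟨hh x 4 s, mem_normalizer_H h (h.hh_mem_H 4 hs0 (ok_of_fix 4 hsf)), ?_⟩
  rw [h.tor 4 4 hs0 (ok_of_fix 4 hsf) ha, sub_self, ch_zero_right, pow_two, hs, mul_assoc, inv_mul_cancel₀ ha0, mul_one]

theorem comm_XZ [Finite E] [Finite K] (htop : AA σ x = ⊤) {r s y : K} (hr : r ∈ normalizer (UU σ x : Set K))
    (hs : s ∈ normalizer (UU σ x : Set K)) (hy : y ∈ XZ (UU σ x)) :
    (r * s) * y * (r * s)⁻¹ = (s * r) * y * (s * r)⁻¹ := by
  rw [XZ_eq h] at hy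
  obtain ⟨a, ha, rfl⟩ := h.mem_gen_singleton.1 hy
  have key : ∀ g ∈ normalizer (UU σ x : Set K), ∃ c : E, Ok σ 4 c ∧ ∀ a, Ok σ 4 a → g * x 4 a * g⁻¹ = x 4 (c * a) := by
    intro g hg
    obtain ⟨u, hu, t, ht, rfl⟩ := h.mem_normalizer_U (g := g) (by rw [htop]; exact mem_top _)
      (fun u hu => (mem_normalizer_iff.1 hg u).1 hu)
    obtain ⟨c, -, hc, hc'⟩ := h.H_diag ht 4
    refine ⟨c, hc, fun a ha => ?_⟩
    have h1 : Commute (x 4 (c * a)) u := h.comm_gen_long (by decide) (hc.mul ha) (gen_mono (fun l hl => by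
      have : ∀ l : ZMod 12, (l - 1).val < 6 → (l - (4 - 3)).val < 7 := by decide
      exact this l hl) hu)
    rw [mul_inv_rev, show u * t * x 4 a * (t⁻¹ * u⁻¹) = u * (t * x 4 a * t⁻¹) * u⁻¹ by group, hc' a ha, ← h1.eq]
    group
  obtain ⟨c, hc, hc'⟩ := key r hr
  obtain ⟨d, hd, hd'⟩ := key s hs
  rw [mul_inv_rev, mul_inv_rev, show r * s * x 4 a * (s⁻¹ * r⁻¹) = r * (s * x 4 a * s⁻¹) * r⁻¹ by group,
    show s * r * x 4 a * (r⁻¹ * s⁻¹) = s * (r * x 4 a * r⁻¹) * s⁻¹ by group, hd' a ha, hc' a ha,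
    hc' _ (hd.mul ha), hd' _ (hc.mul ha)]
  congr 1
  ring

theorem card_XZ [Finite E] : Nat.card (XZ (UU σ x)) = Nat.card {a : E // σ a = a} := by
  rw [XZ_eq h]
  refine Nat.card_congr (Equiv.ofBijective (fun a : {a : E // σ a = a} =>
    (⟨x 4 a.1, x_mem_gen (Set.mem_singleton _) (ok_of_fix 4 a.2)⟩ : gen σ x {4})) ⟨?_, ?_⟩).symm
  · rintro ⟨a, ha⟩ ⟨b, hb⟩ e
    exact Subtype.ext ((h.x_inj (ok_of_fix 4 ha) (ok_of_fix 4 hb)).1 (congrArg Subtype.val e))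
  · rintro ⟨y, hy⟩
    obtain ⟨t, ht, rfl⟩ := h.mem_gen_singleton.1 hy
    exact ⟨⟨t, ht (by decide)⟩, rfl⟩

end Cfsg.Agent.OddHalf.Quat.RowHex
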