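import Cfsg.Agent.OddHalf.Quat.NotOne
import Cfsg.Agent.Cit.Nil.ExtProd
import Cfsg.Agent.S0506
import Cfsg.Agent.S0507
import Cfsg.Agent.S0523
import Cfsg.Agent.S1173
import Cfsg.Agent.S1742

/-!
# Node Q: the listed statements used for `|Om(S)| = 1`

It imports S0506, S0507, S0523, S1173, S1742: only the last file of the assembly should import it.
-/

set_option autoImplicit false

namespace Cfsg.Agent.OddHalf.Quat.PlugOne

open Subgroup Cfsg Cfsg.Agent.Cit

universe u

/-- **the external inputs of THEOREM N1** -/
theorem oneExt : OneExt.{u} where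
  p1173 := fun _ _ _ ho S T hT => S1173.result ho S T hT
  p1171 := fun _ _ _ => OneF.h1171
  p0506 := fun h S hS => S0506.result h S hS
  p0507 := fun _ _ _ _ S hS => S0507.result S hS
  p0523 := fun _ _ _ _ S hS => S0523.result S hS
  p1742 := fun _ _ _ _ _ _ _ hF S P h => S1742.result hF S P h

end Cfsg.Agent.OddHalf.Quat.PlugOne
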