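import Cfsg.Agent.OddHalf.Quat.GoodOdd
import Cfsg.Agent.OddHalf.NI3.K.OrthU
import Cfsg.Agent.OddHalf.NI3.Bad.Use

/-!
# Node Q: the row `PΩ₈⁺(3)` from THEOREM NIB (`NI3.Bad.NoU`)
-/

set_option autoImplicit false

namespace Cfsg.Agent.OddHalf.Quat

open Subgroup Cfsg Cfsg.Agent.OddHalf.Iface

universe u

theorem rowO83 (h : NI3.Bad.NoU.{u}) : RowO83.{u} := by
  intro G _ C K S _ h8
  obtain ⟨t, ht, hK⟩ := S.comp
  exact h G C t K ht hK (NI3.K.OrthU.o8p h8)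

end Cfsg.Agent.OddHalf.Quat
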