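import Cfsg.Agent.OddHalf.Quat.TwoGroup
import Cfsg.Agent.S0520

/-!
# Node Q, step (0): `C(K) ∩ C(z)` is a 2-group

`isPGroup_of_classical` : a subgroup `J ∋ z` of 2-rank one, normal in `C(z)`, `O(C(z)) = 1`, is a 2-group if `z` is no
classical involution.
-/

set_option autoImplicit false

namespace Cfsg.Agent.OddHalf.Quat

open Subgroup Cfsg Cfsg.Agent.OddHalf.Iface

universe u

/-- The classical alternative of S1310. -/
abbrev Classical (J : Type*) [Group J] : Prop :=
  (∃ (F : Type) (_ : Field F) (_ : Fintype F), Odd (Fintype.card F) ∧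
    Nonempty (J ⧸ oddCore J ≃* Matrix.SpecialLinearGroup (Fin 2) F)) ∨
  IsNonsplitDoubleCover (J ⧸ oddCore J) ↥(alternatingGroup (Fin 7))

section
variable {G : Type u} [Group G] [Finite G] {z : G} {J M : Subgroup G}

theorem oddCore_of_sub (hcore : centralizerPPrimeCore 2 z = ⊥) (hM : M ≤ centralizer ({z} : Set G))
    (hs : (M.subgroupOf (centralizer ({z} : Set G))).IsSubnormal) : oddCore ↥M = ⊥ := by
  have hbal : pPrimeCore 2 ↥(centralizer ({z} : Set G)) = ⊥ := by
    have h1 := hcore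
    rw [centralizerPPrimeCore, Subgroup.map_eq_bot_iff_of_injective _ (subtype_injective _)] at h1
    exact h1
  have hO' : oddCore ↥(M.subgroupOf (centralizer ({z} : Set G))) = ⊥ := by
    have h1 := Lib.PComponents.map_pPrimeCore_le_of_isSubnormal (p := 2) hs
    rw [hbal, le_bot_iff, Subgroup.map_eq_bot_iff_of_injective _ (subtype_injective _)] at h1
    exact h1
  have h1 := Lib.Cores.map_equiv_pPrimeCore (subgroupOfEquivOfLe hM) 2
  rw [show pPrimeCore 2 ↥(M.subgroupOf (centralizer ({z} : Set G))) = ⊥ from hO', Subgroup.map_bot] at h1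
  exact h1.symm

theorem sub_of_sub (hJ : J ≤ centralizer ({z} : Set G)) (hJs : (J.subgroupOf (centralizer ({z} : Set G))).IsSubnormal)
    {L : Subgroup ↥J} (hL : L.IsSubnormal) :
    ((L.map J.subtype).subgroupOf (centralizer ({z} : Set G))).IsSubnormal := by
  set C := centralizer ({z} : Set G) with hC
  have hle : (L.map J.subtype).subgroupOf C ≤ J.subgroupOf C := by
    intro x hx
    rw [mem_subgroupOf] at hx ⊢
    obtain ⟨y, -, hy⟩ := hx
    rw [← hy]
    exact y.2
  refine IsSubnormal.trans hle ?_ hJs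
  have h1 : ((L.map J.subtype).subgroupOf C).subgroupOf (J.subgroupOf C) =
      L.comap (subgroupOfEquivOfLe hJ).toMonoidHom := by
    ext x
    rw [mem_subgroupOf, mem_subgroupOf, mem_comap]
    constructor
    · rintro ⟨y, hy, hyx⟩
      have : y = subgroupOfEquivOfLe hJ x := Subtype.ext hyx
      rw [this] at hy
      exact hy
    · intro h
      exact ⟨_, h, rfl⟩
  rw [h1]
  exact hL.comap _

/-- In a group of 2-rank one a central involution is the only one. -/
theorem eq_of_rank_one {z t : G} (hz : orderOf z = 2) (hzJ : z ∈ J) (hJ : J ≤ centralizer ({z} : Set G))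
    (hrk : PRankLE 2 1 ↥J) (ht : t ∈ J) (ht2 : orderOf t = 2) : t = z := by
  by_contra htz
  have ht1 : t ≠ 1 := by
    rintro rfl
    rw [orderOf_one] at ht2
    omega
  have hz1 : z ≠ 1 := by
    rintro rfl
    rw [orderOf_one] at hz
    omega
  have htt : t ^ 2 = 1 := by rw [← ht2]; exact pow_orderOf_eq_one t
  have hzz : z ^ 2 = 1 := by rw [← hz]; exact pow_orderOf_eq_one z
  obtain ⟨W, hW, -⟩ := Cfsg.Agent.S0502.exists_klein (a := (⟨t, ht⟩ : ↥J)) (b := ⟨z, hzJ⟩)
    (Subtype.ext htt) (Subtype.ext hzz) (fun h => ht1 (congrArg Subtype.val h)) (fun h => hz1 (congrArg Subtype.val h))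
    (fun h => htz (congrArg Subtype.val h)) (Subtype.ext (mem_centralizer_singleton_iff.mp (hJ ht)))
  have hW' : IsKleinFour (W.map J.subtype) := Cfsg.Agent.S0520.isKleinFour_map J.subtype_injective hW
  exact Cfsg.Agent.S0520.not_rank_of_kleinFour hW' (Subgroup.map_subtype_le W) hrk

theorem isPGroup_of_classical (hGW : SylowSp4.Hyps.GW.{u}) (hz : orderOf z = 2) (hzJ : z ∈ J)
    (hJ : J ≤ centralizer ({z} : Set G)) (hJs : (J.subgroupOf (centralizer ({z} : Set G))).IsSubnormal)
    (hcore : centralizerPPrimeCore 2 z = ⊥) (hrk : PRankLE 2 1 ↥J)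
    (hcl : ∀ L : Subgroup G, SubOf z L → ¬ Classical ↥L) : IsPGroup 2 ↥J := by
  have hO : oddCore ↥J = ⊥ := oddCore_of_sub hcore hJ hJs
  have hzc : (⟨z, hzJ⟩ : ↥J) ∈ center ↥J := by
    rw [mem_center_iff]
    intro g
    exact Subtype.ext (mem_centralizer_singleton_iff.mp (hJ g.2))
  -- subnormal subgroups of `J`
  have key : ∀ L : Subgroup ↥J, L.IsSubnormal → (⟨z, hzJ⟩ : ↥J) ∈ L → ¬ Classical ↥(L.map J.subtype) ∧
      oddCore ↥(L.map J.subtype) = ⊥ := by
    intro L hL hzL
    have h1 := sub_of_sub hJ hJs hL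
    have h2 : L.map J.subtype ≤ centralizer ({z} : Set G) := (map_subtype_le L).trans hJ
    exact ⟨hcl _ ⟨h2, ⟨⟨z, hzJ⟩, hzL, rfl⟩, h1⟩, oddCore_of_sub hcore h2 h1⟩
  have hnc : ¬ HasComponent ↥J := by
    rintro ⟨L, hL, hLq⟩
    have hLO : oddCore ↥L = ⊥ := by
      have h1 := Lib.PComponents.map_pPrimeCore_le_of_isSubnormal (p := 2) hL
      rw [show pPrimeCore 2 ↥J = ⊥ from hO, le_bot_iff,
        Subgroup.map_eq_bot_iff_of_injective _ (subtype_injective _)] at h1
      exact h1
    have hLr : PRankLE 2 1 ↥L := D1.rankLE_of_injective L.subtype L.subtype_injective hrk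
    obtain ⟨⟨w, hwc, hw2⟩, -⟩ := D1.identify hGW hLq hLO hLr
    have hwz : (((w : ↥L) : ↥J) : G) = z :=
      eq_of_rank_one hz hzJ hJ hrk (w : ↥J).2 (by rw [Subgroup.orderOf_coe, Subgroup.orderOf_coe]; exact hw2)
    have hzL : (⟨z, hzJ⟩ : ↥J) ∈ L := by
      have : (⟨z, hzJ⟩ : ↥J) = (w : ↥J) := Subtype.ext hwz.symm
      rw [this]
      exact w.2
    obtain ⟨h1, h2⟩ := key L hL hzL
    apply h1
    let e0 : ↥L ≃* ↥(L.map J.subtype) := L.equivMapOfInjective _ J.subtype_injective
    have e1 : ↥(L.map J.subtype) ⧸ oddCore ↥(L.map J.subtype) ≃* ↥L :=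
      ((QuotientGroup.quotientMulEquivOfEq h2).trans QuotientGroup.quotientBot).trans e0.symm
    exact (D1.identify (K := ↥(L.map J.subtype) ⧸ oddCore ↥(L.map J.subtype)) hGW
      (Cfsg.Agent.SignalizersComponents.QsBasic.isQuasisimple_of_mulEquiv e1.symm hLq) (by
        have h1 := Lib.Cores.map_equiv_pPrimeCore e1.symm 2
        rw [show pPrimeCore 2 ↥L = ⊥ from hLO, Subgroup.map_bot] at h1
        exact h1.symm) (D1.rankLE_of_injective e1.toMonoidHom e1.injective hLr)).2
  rcases two_or_sl hO hrk hnc with h | ⟨L, hLn, hLz, ⟨e⟩⟩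
  · exact h
  exfalso
  obtain ⟨h1, h2⟩ := key L hLn.isSubnormal (hLz _ hzc (Subtype.ext (by
    change z * z = 1
    rw [← pow_two, ← hz]
    exact pow_orderOf_eq_one z)))
  apply h1
  left
  have h3 : Odd (Fintype.card (ZMod 3)) := by
    rw [ZMod.card]
    decide
  exact ⟨ZMod 3, inferInstance, inferInstance, h3,
    ⟨((QuotientGroup.quotientMulEquivOfEq h2).trans QuotientGroup.quotientBot).trans
      ((L.equivMapOfInjective _ J.subtype_injective).symm.trans e)⟩⟩

end

end Cfsg.Agent.OddHalf.Quat
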