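import Cfsg.Agent.Cit.NilComp
import Cfsg.Agent.Cit.TauMain

/-!
# Node Q: `|Q| = 8` and a 3-element of `C(z)` acts nontrivially on `Q` (THEOREM TAU)

`Base0 z Q` : `Q` is a generalised quaternion 2-group, normal in `C(z)`, `z ∈ Q`.
-/

set_option autoImplicit false

namespace Cfsg.Agent.OddHalf.Quat

open Subgroup Cfsg Cfsg.Agent.Cit

variable {G : Type*} [Group G]

/-- a normal quaternion subgroup of `C(z)` -/
structure Base0 (z : G) (Q : Subgroup G) : Prop where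
  zo : orderOf z = 2
  zQ : z ∈ Q
  two : IsPGroup 2 Q
  gq : IsGQ Q
  QC : Q ≤ centralizer {z}
  Qn : centralizer {z} ≤ normalizer (Q : Set G)

open Classical in
/-- the conjugate of `V` attached to a conjugate of `Q` -/
noncomputable def Kc0 (Q V : Subgroup G) (L : Subgroup G) : Subgroup G :=
  if h : ∃ g : G, L = cj g Q then cj h.choose V else ⊥

theorem exists_gq' {Q : Subgroup G} {n : ℕ} (e : Q ≃* QuaternionGroup (2 ^ (n + 1))) :
    ∃ c v z, GQ Q c v z n := by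
  have : NeZero (2 ^ (n + 1)) := ⟨by positivity⟩
  refine ⟨(e.symm (QuaternionGroup.a 1) : Q), (e.symm (QuaternionGroup.xa 0) : Q), _, (e.symm _).2,
    (e.symm _).2, ?_, rfl, ?_, ?_, ?_⟩
  · rw [Subgroup.orderOf_coe, MulEquiv.orderOf_eq, QuaternionGroup.orderOf_a_one]
    ring
  · rw [← Subgroup.coe_mul, ← map_mul, ← Subgroup.coe_pow, ← map_pow, QuaternionGroup.xa_mul_xa,
      QuaternionGroup.a_one_pow]
    congr 3
    push_cast
    ring
  · rw [← Subgroup.coe_mul, ← map_mul, ← Subgroup.coe_inv, ← Subgroup.coe_inv, ← map_inv, ← map_inv,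
      ← Subgroup.coe_mul, ← map_mul]
    congr 2
    rw [mul_inv_eq_iff_eq_mul, eq_inv_mul_iff_mul_eq, QuaternionGroup.xa_mul_a, QuaternionGroup.a_mul_xa]
    simp
  · intro x hx
    obtain ⟨g, hg⟩ : ∃ g, e.symm g = ⟨x, hx⟩ := ⟨e ⟨x, hx⟩, by simp⟩
    have hx' : x = ((e.symm g : Q) : G) := by rw [hg]
    rcases g with i | i
    · left
      refine ⟨i.val, ?_⟩
      rw [hx', ← Subgroup.coe_pow, ← map_pow, QuaternionGroup.a_one_pow]
      simp
    · right
      refine ⟨i.val, ?_⟩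
      rw [hx', ← Subgroup.coe_pow, ← map_pow, ← Subgroup.coe_mul, ← map_mul, QuaternionGroup.a_one_pow,
        QuaternionGroup.xa_mul_a]
      simp

theorem Kc0_cj {Q V : Subgroup G} (hN : normalizer (Q : Set G) ≤ normalizer (V : Set G)) (g : G) :
    Kc0 Q V (cj g Q) = cj g V := by
  have hex : ∃ h : G, cj g Q = cj h Q := ⟨g, rfl⟩
  have h1 : Kc0 Q V (cj g Q) = cj hex.choose V := by
    unfold Kc0
    rw [dif_pos hex]
  rw [h1]
  have h2 := hex.choose_spec
  set h := hex.choose with hh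
  have h3 : cj (g⁻¹ * h) Q = Q := by
    rw [cj_mul, ← h2, cj_inv_cj]
  have h4 := mem_normalizer_iff_cj.1 (hN (mem_normalizer_iff_cj.2 h3))
  rw [cj_mul] at h4
  have h5 := congrArg (cj g) h4
  rwa [cj_cj_inv] at h5

theorem hom_units_trivial [IsSimpleGroup G] (hna : ¬ IsMulCommutative G) (f : G →* ℤˣ) (x : G) : f x = 1 := by
  rcases (inferInstance : f.ker.Normal).eq_bot_or_eq_top with h | h
  · exfalso
    apply hna
    refine ⟨⟨fun a b => ?_⟩⟩
    have hinj : Function.Injective f := (MonoidHom.ker_eq_bot_iff f).1 h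
    apply hinj
    rw [map_mul, map_mul, mul_comm]
  · have : x ∈ f.ker := by rw [h]; trivial
    exact this

namespace Base0

variable {z : G} {Q : Subgroup G}

theorem mul_self (b : Base0 z Q) : z * z = 1 := by rw [← pow_two, ← b.zo, pow_orderOf_eq_one]

theorem ne_one (b : Base0 z Q) : z ≠ 1 := by
  rintro rfl
  have := b.zo
  rw [orderOf_one] at this
  omega

theorem eq_z (b : Base0 z Q) {t : G} (ht : t ∈ Q) (h : t * t = 1) (h1 : t ≠ 1) : t = z := by
  obtain ⟨c, v, z', n, hg⟩ := exists_gq b.gq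
  rw [hg.eq_z ht h h1, hg.eq_z b.zQ b.mul_self b.ne_one]

variable [Finite G]

theorem hyp' (b : Base0 z Q) : Hyp (cls Q) ∧ zz Q = z := by
  have : Fact (Nat.Prime 2) := ⟨Nat.prime_two⟩
  refine hyp_of_class z b.zo Q b.zQ ?_ ?_ ?_ ?_ ?_
  · have hn : (Q.subgroupOf (centralizer {z})).Normal := (normal_subgroupOf_iff_le_normalizer b.QC).2 b.Qn
    exact hn.isSubnormal
  · obtain ⟨n, ⟨e⟩⟩ := b.gq
    have ht : IsPGroup 2 (⊤ : Subgroup Q) := b.two.to_subgroup ⊤
    refine ⟨ht.toSylow (by rw [index_top]; omega), n, ⟨?_⟩⟩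
    exact Subgroup.topEquiv.trans e
  · intro t ht ht2
    refine b.eq_z ht ?_ ?_
    · rw [← pow_two, ← ht2, pow_orderOf_eq_one]
    · rintro rfl
      rw [orderOf_one] at ht2
      omega
  · intro u hu
    left
    exact mem_normalizer_iff_cj.1 (b.Qn hu)
  · intro y _ g _ _ hg
    exact b.Qn hg

theorem hyp (b : Base0 z Q) : Hyp (cls Q) := b.hyp'.1

theorem zz_eq (b : Base0 z Q) : zz Q = z := b.hyp'.2

theorem two_of_mem (b : Base0 z Q) {K : Subgroup G} (hK : K ∈ cls Q) : IsPGroup 2 K := by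
  obtain ⟨g, rfl⟩ := hK
  exact isPGroup_cj b.two

omit [Finite G] in
theorem equiv_quat (b : Base0 z Q) (h8 : Nat.card Q = 8) : Nonempty (Q ≃* QuaternionGroup 2) := by
  obtain ⟨n, ⟨e⟩⟩ := b.gq
  have h1 := Nat.card_congr e.toEquiv
  have : NeZero (2 ^ (n + 1)) := ⟨by positivity⟩
  rw [h8, Nat.card_eq_fintype_card, QuaternionGroup.card] at h1
  have h2 : 2 ^ (n + 1) = 2 := by omega
  have h3 : n = 0 := by
    have h4 : 2 ^ (n + 1) = 2 ^ 1 := by rw [h2]; norm_num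
    have := Nat.pow_right_injective (le_refl 2) h4
    omega
  subst h3
  exact ⟨e⟩


/-- **TAU**: no cyclic subgroup of order 4 of `Q` is normal in `C(z)` -/
theorem not_le_normalizer [IsSimpleGroup G] (hna : ¬ IsMulCommutative G) (b : Base0 z Q) {v : G} (hv : v ∈ Q)
    (hv4 : orderOf v = 4) : ¬ centralizer {z} ≤ normalizer (zpowers v : Set G) := by
  intro hN
  have h1 := b.hyp.normalizer_le (self_mem_cls Q)
  rw [b.zz_eq] at h1
  have hle : normalizer (Q : Set G) ≤ normalizer (zpowers v : Set G) := h1.trans hN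
  have hOO : ∀ K ∈ cls Q, OO K = ⊥ := fun K hK => OO_eq_bot_of_two (b.two_of_mem hK)
  have hU : VChoice (cls Q) (Kc0 Q (zpowers v)) := by
    refine ⟨?_, ?_, ?_, ?_, ?_⟩
    · rintro K ⟨g, rfl⟩
      rw [Kc0_cj hle]
      exact cj_mono g (zpowers_le.2 hv)
    · rintro K ⟨g, rfl⟩ h
      rw [← cj_mul, Kc0_cj hle, Kc0_cj hle, cj_mul]
    · intro K hK
      rw [hOO K hK]
      exact bot_le
    · rintro K ⟨g, rfl⟩
      rw [hOO _ ⟨g, rfl⟩, Kc0_cj hle, card_cj, Nat.card_zpowers, hv4, Subgroup.card_bot]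
    · rintro K ⟨g, rfl⟩
      rw [Kc0_cj hle]
      exact ⟨g * v * g⁻¹, conj_mem_cj (mem_zpowers v), by rw [← hv4]; exact (MulAut.conj g).orderOf_eq v⟩
  obtain ⟨f, hf⟩ := TauMain.tau b.hyp hU
  obtain ⟨c, u, z', n, hgq⟩ := exists_gq b.gq
  obtain ⟨y, hy, -, hyv⟩ := hgq.exists_inverting hv hv4
  have h2 := (hf Q (self_mem_cls Q) y hy).1 (hom_units_trivial hna f y)
  rw [Tau.mem_XX] at h2
  have h3 := h2.2 v (by
    have := Kc0_cj hle 1
    rw [cj_one, cj_one] at this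
    rw [this]
    exact mem_zpowers v)
  rw [OO_eq_bot_of_two b.two, Subgroup.mem_bot, hyv, ← mul_inv_rev, inv_eq_one] at h3
  have h4 : orderOf v ∣ 2 := orderOf_dvd_of_pow_eq_one (by rw [pow_two, h3])
  rw [hv4] at h4
  omega

/-- `|Q| = 8` -/
theorem card_eight [IsSimpleGroup G] (hna : ¬ IsMulCommutative G) (b : Base0 z Q) : Nat.card Q = 8 := by
  obtain ⟨n, ⟨e⟩⟩ := b.gq
  rcases Nat.eq_zero_or_pos n with rfl | hn
  · rw [Nat.card_congr e.toEquiv, Nat.card_eq_fintype_card]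
    simp [QuaternionGroup.card]
  exfalso
  obtain ⟨c, v, z', hgq⟩ := exists_gq' e
  have hc4 : (c ^ 2 ^ n) * (c ^ 2 ^ n) = z' := by
    rw [← pow_add, ← two_mul, ← pow_succ', hgq.z_eq]
  have ho : orderOf (c ^ 2 ^ n) = 4 := GQ.orderOf_of_sq hc4 hgq.z_mul hgq.z_ne
  refine b.not_le_normalizer hna (Q.pow_mem hgq.c_mem (2 ^ n)) ho ?_
  intro g hg
  rw [mem_normalizer_iff_cj, cj_def, MonoidHom.map_zpowers]
  -- `g c g⁻¹` is a power of `c`
  have h1 : g * c * g⁻¹ ∈ Q := (mem_normalizer_iff.1 (b.Qn hg) c).1 hgq.c_mem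
  have h2 : orderOf (g * c * g⁻¹) = 2 ^ (n + 2) := by
    rw [← hgq.ord]; exact (MulAut.conj g).orderOf_eq c
  obtain ⟨i, hi⟩ : ∃ i : ℕ, g * c * g⁻¹ = c ^ i := by
    rcases hgq.cov _ h1 with h | ⟨i, hi⟩
    · exact h
    · exfalso
      rw [hi, hgq.orderOf_out] at h2
      have h3 : 2 ^ 3 ≤ 2 ^ (n + 2) := Nat.pow_le_pow_right (by norm_num) (by omega)
      omega
  have h3 : (MulAut.conj g).toMonoidHom (c ^ 2 ^ n) = (c ^ 2 ^ n) ^ i := by
    change (MulAut.conj g) (c ^ 2 ^ n) = _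
    rw [map_pow, MulAut.conj_apply, hi, ← pow_mul, ← pow_mul, mul_comm]
  rw [h3]
  have h4 : zpowers ((c ^ 2 ^ n) ^ i) ≤ zpowers (c ^ 2 ^ n) := zpowers_le.2 (Subgroup.pow_mem _ (mem_zpowers _) i)
  refine Subgroup.eq_of_le_of_card_ge h4 ?_
  rw [Nat.card_zpowers, Nat.card_zpowers, ← h3]
  exact ((MulAut.conj g).orderOf_eq (c ^ 2 ^ n)).ge

/-- a 3-cycle, as a boolean -/
def cyc3 (a : Equiv.Perm (Fin 3)) : Bool := decide (a 0 ≠ 0) && decide (a * a * a = 1)

theorem cyc3_iff {a : Equiv.Perm (Fin 3)} : cyc3 a = true ↔ a 0 ≠ 0 ∧ a * a * a = 1 := by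
  simp [cyc3]

set_option maxRecDepth 40000 in
theorem perm_fact : ∀ a b c : Equiv.Perm (Fin 3), a 0 ≠ 0 → b 1 ≠ 1 → c 2 ≠ 2 →
    (cyc3 a || cyc3 b || cyc3 c || cyc3 (a * b) || cyc3 (a * c) || cyc3 (b * c)) = true := by
  decide

/-- a 3-element of `C(z)` acts nontrivially on `Q` -/
theorem exists_three [IsSimpleGroup G] (hna : ¬ IsMulCommutative G) (b : Base0 z Q) :
    ∃ c ∈ centralizer {z}, (∃ k : ℕ, c ^ 3 ^ k = 1) ∧ ∃ q ∈ Q, c * q ≠ q * c := by
  obtain ⟨e⟩ := b.equiv_quat (b.card_eight hna)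
  have e' : Q ≃* QuaternionGroup (2 ^ (0 + 1)) := e
  obtain ⟨c, v, z', hgq⟩ := exists_gq' e'
  have hc4 : orderOf c = 4 := by rw [hgq.ord]; norm_num
  have hcc : c * c = z' := by rw [← hgq.z_eq]; simp [pow_two]
  have hv4 := hgq.orderOf_v
  have hvc4 : orderOf (v * c) = 4 := by simpa using hgq.orderOf_out 1
  have hc4' : c ^ 4 = 1 := by rw [← hc4, pow_orderOf_eq_one]
  have hvc2 : (v * c) * (v * c) = z' := by simpa using hgq.sq_out 1
  let V : Fin 3 → Subgroup G := ![zpowers c, zpowers v, zpowers (v * c)]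
  have hgen : ∀ y ∈ Q, orderOf y = 4 → ∃ i, zpowers y = V i := by
    intro y hy hy4
    have hinv : ∀ x : G, zpowers x⁻¹ = zpowers x := fun x => by simp
    have hz' : z' = c ^ 2 := by rw [pow_two, hcc]
    rcases hgq.cov y hy with ⟨i, rfl⟩ | ⟨i, rfl⟩
    · refine ⟨0, ?_⟩
      change zpowers (c ^ i) = zpowers c
      refine Subgroup.eq_of_le_of_card_ge (zpowers_le.2 (Subgroup.pow_mem _ (mem_zpowers _) i)) ?_
      rw [Nat.card_zpowers, Nat.card_zpowers, hy4, hc4]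
    · have h1 : c ^ i = c ^ (i % 4) := by
        have := pow_mod_orderOf c i
        rw [hc4] at this
        exact this.symm
      rw [h1]
      have h2 : i % 4 < 4 := Nat.mod_lt _ (by norm_num)
      have hvz : v⁻¹ = v * c ^ 2 := by
        rw [inv_eq_iff_mul_eq_one, ← mul_assoc, hgq.v_sq, hz', ← pow_add, hc4']
      have hvcz : (v * c)⁻¹ = v * c ^ 3 := by
        rw [inv_eq_iff_mul_eq_one]
        calc v * c * (v * c ^ 3) = (v * c) * (v * c) * c ^ 2 := by group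
          _ = 1 := by rw [hvc2, hz', ← pow_add, hc4']
      interval_cases h3 : i % 4
      · exact ⟨1, by simp [V]⟩
      · exact ⟨2, by simp [V]⟩
      · refine ⟨1, ?_⟩
        rw [← hvz]
        change zpowers v⁻¹ = zpowers v
        exact hinv v
      · refine ⟨2, ?_⟩
        rw [← hvcz]
        change zpowers (v * c)⁻¹ = zpowers (v * c)
        exact hinv _
  have hrep : ∀ i, ∃ y ∈ Q, orderOf y = 4 ∧ V i = zpowers y := by
    intro i
    fin_cases i
    · exact ⟨c, hgq.c_mem, hc4, rfl⟩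
    · exact ⟨v, hgq.v_mem, hv4, rfl⟩
    · exact ⟨v * c, Q.mul_mem hgq.v_mem hgq.c_mem, hvc4, rfl⟩
  -- injectivity
  have hVinj : Function.Injective V := by
    have hz'c : ∀ x : G, x ∈ zpowers c → x * c = c * x := by
      rintro _ ⟨k, rfl⟩
      exact ((Commute.refl c).zpow_left k).eq
    have h01 : V 0 ≠ V 1 := by
      intro h
      have h1 : v ∈ zpowers c := by
        change v ∈ V 0
        rw [h]; exact mem_zpowers v
      exact hgq.not_comm (hz'c v h1)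
    have h02 : V 0 ≠ V 2 := by
      intro h
      have h1 : v * c ∈ zpowers c := by
        change v * c ∈ V 0
        rw [h]; exact mem_zpowers _
      have h2 := hz'c _ h1
      apply hgq.not_comm
      have h3 : v * c * c = c * v * c := by rw [h2, mul_assoc]
      exact mul_right_cancel h3
    have h12 : V 1 ≠ V 2 := by
      intro h
      have h1 : v * c ∈ zpowers v := by
        change v * c ∈ V 1
        rw [h]; exact mem_zpowers _
      have h2 : c ∈ zpowers v := by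
        have := (zpowers v).mul_mem ((zpowers v).inv_mem (mem_zpowers v)) h1
        rwa [inv_mul_cancel_left] at this
      obtain ⟨k, rfl⟩ := mem_zpowers_iff.1 h2
      exact hgq.not_comm (((Commute.refl v).zpow_right k).eq)
    intro i j hij
    fin_cases i <;> fin_cases j
    · rfl
    · exact absurd hij h01
    · exact absurd hij h02
    · exact absurd hij.symm h01
    · rfl
    · exact absurd hij h12
    · exact absurd hij.symm h02
    · exact absurd hij.symm h12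
    · rfl
  have hcjz : ∀ (g y : G), cj g (zpowers y) = zpowers (g * y * g⁻¹) := by
    intro g y
    rw [cj_def, MonoidHom.map_zpowers]
    rfl
  have hperm : ∀ g ∈ centralizer {z}, ∃ σ : Equiv.Perm (Fin 3), ∀ i, cj g (V i) = V (σ i) := by
    intro g hg
    have h1 : ∀ i, ∃ j, cj g (V i) = V j := by
      intro i
      obtain ⟨y, hy, hy4, hVy⟩ := hrep i
      rw [hVy, hcjz]
      exact hgen _ ((mem_normalizer_iff.1 (b.Qn hg) y).1 hy) (by
        rw [← hy4]; exact (MulAut.conj g).orderOf_eq y)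
    choose s hs using h1
    have hsinj : Function.Injective s := by
      intro i j hij
      have h2 : cj g (V i) = cj g (V j) := by rw [hs, hs, hij]
      exact hVinj (cj_inj.1 h2)
    exact ⟨Equiv.ofBijective s (Finite.injective_iff_bijective.1 hsinj), hs⟩
  have hmul : ∀ (g h : G) (σ τ : Equiv.Perm (Fin 3)), (∀ i, cj g (V i) = V (σ i)) →
      (∀ i, cj h (V i) = V (τ i)) → ∀ i, cj (g * h) (V i) = V ((σ * τ) i) := by
    intro g h σ τ h1 h2 i
    rw [cj_mul, h2, h1]; rfl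
  have hmove : ∀ i, ∃ g ∈ centralizer {z}, ∃ σ : Equiv.Perm (Fin 3), (∀ j, cj g (V j) = V (σ j)) ∧ σ i ≠ i := by
    intro i
    obtain ⟨y, hy, hy4, hVy⟩ := hrep i
    have h1 := b.not_le_normalizer hna hy hy4
    obtain ⟨g, hg, hgn⟩ := SetLike.not_le_iff_exists.1 h1
    obtain ⟨σ, hσ⟩ := hperm g hg
    refine ⟨g, hg, σ, hσ, fun h => hgn ?_⟩
    rw [mem_normalizer_iff_cj, ← hVy, hσ i, h]
  obtain ⟨g, hg, σ, hσ, hσ0, hσ3⟩ : ∃ g ∈ centralizer {z}, ∃ σ : Equiv.Perm (Fin 3),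
      (∀ j, cj g (V j) = V (σ j)) ∧ σ 0 ≠ 0 ∧ σ * σ * σ = 1 := by
    obtain ⟨g₁, hg₁, a, ha, ha0⟩ := hmove 0
    obtain ⟨g₂, hg₂, b', hb, hb1⟩ := hmove 1
    obtain ⟨g₃, hg₃, c', hc, hc2⟩ := hmove 2
    have hpf := perm_fact a b' c' ha0 hb1 hc2
    simp only [Bool.or_eq_true, cyc3_iff] at hpf
    rcases hpf with ((((h | h) | h) | h) | h) | h
    · exact ⟨g₁, hg₁, a, ha, h.1, h.2⟩
    · exact ⟨g₂, hg₂, b', hb, h.1, h.2⟩
    · exact ⟨g₃, hg₃, c', hc, h.1, h.2⟩
    · exact ⟨_, Subgroup.mul_mem _ hg₁ hg₂, _, hmul _ _ _ _ ha hb, h.1, h.2⟩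
    · exact ⟨_, Subgroup.mul_mem _ hg₁ hg₃, _, hmul _ _ _ _ ha hc, h.1, h.2⟩
    · exact ⟨_, Subgroup.mul_mem _ hg₂ hg₃, _, hmul _ _ _ _ hb hc, h.1, h.2⟩
  obtain ⟨k, m, hm, hkm⟩ := Nat.exists_eq_pow_mul_and_not_dvd (orderOf_pos g).ne' 3 (by norm_num)
  refine ⟨g ^ m, Subgroup.pow_mem _ hg m, ⟨k, ?_⟩, ?_⟩
  · rw [← pow_mul, mul_comm, ← hkm, pow_orderOf_eq_one]
  by_contra hcon
  push Not at hcon
  -- `g ^ m` and `g ^ 3` normalise `V 0`
  have h1 : cj (g ^ m) (V 0) = V 0 := by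
    change cj (g ^ m) (zpowers c) = zpowers c
    rw [hcjz, hcon c hgq.c_mem, mul_inv_cancel_right]
  have h2 : cj (g ^ 3) (V 0) = V 0 := by
    have h3 := hmul _ _ _ _ (hmul _ _ _ _ hσ hσ) hσ 0
    rw [hσ3] at h3
    have h4 : g ^ 3 = g * g * g := by rw [pow_succ, pow_two]
    rw [h4]
    exact h3
  have h3 : Nat.Coprime 3 m := (Nat.Prime.coprime_iff_not_dvd Nat.prime_three).2 hm
  have h4 : g ∈ normalizer (V 0 : Set G) := by
    have h5 : g ^ 3 ∈ normalizer (V 0 : Set G) := mem_normalizer_iff_cj.2 h2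
    have h6 : g ^ m ∈ normalizer (V 0 : Set G) := mem_normalizer_iff_cj.2 h1
    have h7 := Int.gcd_eq_gcd_ab (3 : ℤ) (m : ℤ)
    have h8 : g = (g ^ 3) ^ (Int.gcdA 3 m) * (g ^ m) ^ (Int.gcdB 3 m) := by
      rw [← zpow_natCast, ← zpow_natCast, ← zpow_mul, ← zpow_mul, ← zpow_add]
      have h9 : Int.gcd (3 : ℤ) (m : ℤ) = 1 := h3
      rw [h9] at h7
      have h10 : ((3 : ℕ) : ℤ) * Int.gcdA 3 m + (m : ℤ) * Int.gcdB 3 m = 1 := by
        push_cast
        push_cast at h7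
        exact h7.symm
      rw [h10, zpow_one]
    rw [h8]
    exact Subgroup.mul_mem _ (Subgroup.zpow_mem _ h5 _) (Subgroup.zpow_mem _ h6 _)
  have h5 := mem_normalizer_iff_cj.1 h4
  rw [hσ 0] at h5
  exact hσ0 (hVinj h5)

end Base0

end Cfsg.Agent.OddHalf.Quat
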