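import Cfsg.Agent.OddHalf.D1.RankOne
import Cfsg.Agent.LFourB.ProdAut
import Cfsg.Agent.PermutationGroups.AutQuaternion
import Cfsg.Agent.SylowG2.SLTwoThreeRecog
import Cfsg.Agent.HexGlob.CenZFour
import Cfsg.Agent.Lib.Cores
import Cfsg.Agent.OddOrderLocal.PLengthOne
import Cfsg.Agent.Classification.RankOneCore
import Cfsg.Agent.OddOrderLocal.Rank

/-!
# Node Q: groups of 2-rank one without classical subnormal subgroup

`two_or_sl` : `O(J) = 1`, 2-rank at most one, no component: `J` is a 2-group or has a normal subgroup `SL₂(3)`.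
`isPGroup_of_classical` : a subgroup `J ∋ z` of 2-rank one, normal in `C(z)`, `O(C(z)) = 1`, is a 2-group if `z` is no
classical involution.
-/

set_option autoImplicit false

namespace Cfsg.Agent.OddHalf.Quat

open Subgroup Cfsg Cfsg.Agent.OddHalf.Iface

universe u

theorem two_or_sl {J : Type*} [Group J] [Finite J] (hO : oddCore J = ⊥) (hrk : PRankLE 2 1 J)
    (hnc : ¬ HasComponent J) :
    IsPGroup 2 J ∨ ∃ L : Subgroup J, L.Normal ∧ (∀ z ∈ center J, z * z = 1 → z ∈ L) ∧
      Nonempty (L ≃* Matrix.SpecialLinearGroup (Fin 2) (ZMod 3)) := by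
  have h2p : Fact (Nat.Prime 2) := ⟨Nat.prime_two⟩
  by_cases hJ : IsPGroup 2 J
  · exact Or.inl hJ
  right
  set P := pCore 2 J with hP
  have hP2 : IsPGroup 2 P := OddOrderLocal.PLengthOne.isPGroup_pCore 2
  have hPn : P.Normal := Lib.Cores.pCore_normal 2
  have hCP : centralizer (P : Set J) ≤ P := HexGlob.CenZFour.centralizer_pCore_le hO hnc
  -- an odd prime
  obtain ⟨p, hp, hp2, hpd⟩ : ∃ p : ℕ, p.Prime ∧ p ≠ 2 ∧ p ∣ Nat.card J := by
    by_contra hcon
    push Not at hcon
    apply hJ
    obtain ⟨k, m, hm, hkm⟩ := Nat.exists_eq_pow_mul_and_not_dvd (Nat.card_pos (α := J)).ne' 2 (by norm_num)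
    have hm1 : m = 1 := by
      by_contra hm1
      obtain ⟨q, hq, hqm⟩ := Nat.exists_prime_and_dvd hm1
      refine hcon q hq ?_ ?_
      · rintro rfl
        exact hm hqm
      · rw [hkm]
        exact Dvd.dvd.mul_left hqm _
    rw [hm1, mul_one] at hkm
    exact IsPGroup.of_card hkm
  have hpp : Fact p.Prime := ⟨hp⟩
  have hodd : Odd p := hp.odd_of_ne_two hp2
  obtain ⟨c, hc⟩ := exists_prime_orderOf_dvd_card' (G := J) p hpd
  -- no element of order `p` centralises `P`
  have hnot : ∀ g : J, orderOf g = p → g ∉ centralizer (P : Set J) := by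
    intro g hg h
    have h1 := hCP h
    obtain ⟨k, hk⟩ := hP2 ⟨g, h1⟩
    have hk' : g ^ 2 ^ k = 1 := congrArg Subtype.val hk
    have h3 : p ∣ 2 ^ k := by rw [← hg]; exact orderOf_dvd_of_pow_eq_one hk'
    exact hp2 ((Nat.prime_dvd_prime_iff_eq hp Nat.prime_two).1 (hp.dvd_of_dvd_pow h3))
  have hcn : c ∈ normalizer (P : Set J) := by rw [normalizer_eq_top_iff.mpr hPn]; exact mem_top c
  set φ : MulAut P := P.normalizerMonoidHom ⟨c, hcn⟩ with hφ
  have hφp : φ ^ p = 1 := by
    rw [hφ, ← map_pow]
    have : (⟨c, hcn⟩ : normalizer (P : Set J)) ^ p = 1 := Subtype.ext (by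
      change c ^ p = 1
      rw [← hc, pow_orderOf_eq_one])
    rw [this, map_one]
  have hφ1 : φ ≠ 1 := by
    intro h
    apply hnot c hc
    rw [mem_centralizer_iff]
    intro x hx
    have h1 : φ ⟨x, hx⟩ = ⟨x, hx⟩ := by rw [h]; rfl
    have h2 : c * x * c⁻¹ = x := congrArg Subtype.val h1
    exact (mul_inv_eq_iff_eq_mul.1 h2).symm
  have hop : orderOf φ = p := orderOf_eq_prime hφp hφ1
  have hPr : PRankLE 2 1 P := OddOrderLocal.Rank.pRankLE_subgroup hrk
  obtain ⟨e⟩ : Nonempty (P ≃* QuaternionGroup 2) := by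
    have hcyc : ¬ IsCyclic P := by
      intro hcy
      have h1 : orderOf φ ∣ Nat.card (MulAut P) := orderOf_dvd_natCard _
      rw [IsCyclic.card_mulAut] at h1
      obtain ⟨k, hk⟩ := IsPGroup.iff_card.1 hP2
      rw [hk, hop] at h1
      rcases Nat.eq_zero_or_pos k with h0 | h0
      · rw [h0, pow_zero, Nat.totient_one] at h1
        exact hp.one_lt.ne' (Nat.dvd_one.1 h1)
      · rw [Nat.totient_prime_pow Nat.prime_two h0] at h1
        norm_num at h1
        exact hp2 ((Nat.prime_dvd_prime_iff_eq hp Nat.prime_two).1 (hp.dvd_of_dvd_pow h1))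
    rcases Classification.RankOneCore.cyclic_or_quaternion hP2 hPr with h | ⟨n, ⟨e⟩⟩
    · exact absurd h hcyc
    rcases Nat.lt_or_ge n 2 with hn | hn
    · interval_cases n
      · exfalso
        apply hcyc
        have h3 : IsCyclic (QuaternionGroup 1) := QuaternionGroup.quaternionGroup_one_isCyclic
        have e' : P ≃* QuaternionGroup 1 := e
        exact isCyclic_of_surjective e'.symm e'.symm.surjective
      · exact ⟨e⟩
    · exfalso
      apply hφ1
      have h1 : (MulAut.congr e φ) ^ p = 1 := by rw [← map_pow, hφp, map_one]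
      have h2 := LFourB.ProdAut.eq_one_of_odd hn _ hodd h1
      exact (MulAut.congr e).injective (by rw [h2, map_one])
  have hcard8 : Nat.card P = 8 := by
    rw [Nat.card_congr e.toEquiv, Nat.card_eq_fintype_card, QuaternionGroup.card]
  have h24 : Nat.card (MulAut P) = 24 := by
    rw [← PermutationGroups.AutQuaternion.card_mulAut]
    exact Nat.card_congr (MulAut.congr e).toEquiv
  -- `p = 3`
  have hp3 : p = 3 := by
    have h1 : orderOf φ ∣ Nat.card (MulAut P) := orderOf_dvd_natCard _
    rw [h24, hop] at h1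
    have h2 : p ∣ 2 ^ 3 * 3 := by rwa [show (2 : ℕ) ^ 3 * 3 = 24 by norm_num]
    rcases (hp.dvd_mul).1 h2 with h | h
    · exact absurd ((Nat.prime_dvd_prime_iff_eq hp Nat.prime_two).1 (hp.dvd_of_dvd_pow h)) hp2
    · exact (Nat.prime_dvd_prime_iff_eq hp Nat.prime_three).1 h
  subst hp3
  -- the order of `J`
  have hJ48 : Nat.card J ∣ 48 := by
    let ψ : J →* MulAut P := MulAut.conjNormal
    have h1 : ψ.ker = centralizer (P : Set J) := by
      ext x
      rw [MonoidHom.mem_ker, mem_centralizer_iff]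
      constructor
      · intro h y hy
        have h2 : ((ψ x ⟨y, hy⟩ : P) : J) = x * y * x⁻¹ := MulAut.conjNormal_apply _ _
        rw [h] at h2
        have h3 : y = x * y * x⁻¹ := h2
        rw [eq_mul_inv_iff_mul_eq] at h3
        exact h3
      · intro h
        ext ⟨y, hy⟩
        have h2 : ((ψ x ⟨y, hy⟩ : P) : J) = x * y * x⁻¹ := MulAut.conjNormal_apply _ _
        rw [h2, ← h y hy, mul_inv_cancel_right]
        rfl
    have h2 : Nat.card ψ.ker ∣ 2 := by
      rw [h1]
      have h3 : centralizer (P : Set J) = (center P).map P.subtype := by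
        ext x
        rw [mem_map]
        constructor
        · intro hx
          refine ⟨⟨x, hCP hx⟩, mem_center_iff.2 fun y => Subtype.ext ?_, rfl⟩
          exact mem_centralizer_iff.1 hx y y.2
        · rintro ⟨y, hy, rfl⟩
          rw [mem_centralizer_iff]
          intro w hw
          exact congrArg Subtype.val (mem_center_iff.1 hy ⟨w, hw⟩)
      rw [h3, card_map_of_injective P.subtype_injective]
      have h4 : Nat.card (center P) = Nat.card (center (QuaternionGroup 2)) :=
        Nat.card_congr (Subgroup.centerCongr e).toEquiv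
      rw [h4]
      have h5 : ∀ x : QuaternionGroup 2, x ∈ center (QuaternionGroup 2) → x = 1 ∨ x = QuaternionGroup.a 2 := by
        intro x hx
        rw [mem_center_iff] at hx
        revert x
        decide
      have h6 : center (QuaternionGroup 2) ≤ zpowers (QuaternionGroup.a 2 : QuaternionGroup 2) := by
        intro x hx
        rcases h5 x hx with rfl | rfl
        · exact one_mem _
        · exact mem_zpowers _
      have h7 := card_dvd_of_le h6
      rw [Nat.card_zpowers] at h7
      have h8 : orderOf (QuaternionGroup.a 2 : QuaternionGroup 2) ∣ 2 :=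
        orderOf_dvd_of_pow_eq_one (by decide)
      exact h7.trans h8
    have h3 : Nat.card J = Nat.card ψ.ker * ψ.ker.index := (card_mul_index _).symm
    rw [h3, index_ker]
    have h4 : Nat.card ψ.range ∣ 24 := by rw [← h24]; exact card_subgroup_dvd_card _
    exact (Nat.mul_dvd_mul h2 h4)
  -- `L = P ⟨c⟩`
  set L := P ⊔ zpowers c with hL
  have hPL : P ≤ L := le_sup_left
  have hcL : c ∈ L := (le_sup_right : zpowers c ≤ L) (mem_zpowers c)
  have hL24 : 24 ∣ Nat.card L := by
    have h1 : 8 ∣ Nat.card L := by rw [← hcard8]; exact card_dvd_of_le hPL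
    have h2 : 3 ∣ Nat.card L := by
      rw [← hc]
      have := orderOf_dvd_natCard (⟨c, hcL⟩ : L)
      rwa [Subgroup.orderOf_mk] at this
    exact (show (24 : ℕ) = 8 * 3 by norm_num) ▸ Nat.Coprime.mul_dvd_of_dvd_of_dvd (by norm_num) h1 h2
  have hLle : Nat.card L ∣ 24 := by
    have h1 : P.relIndex L ∣ 3 := by
      rw [hL, relIndex_sup_left, ← hc, ← Nat.card_zpowers]
      exact relIndex_dvd_card _ _
    have h2 : Nat.card P * P.relIndex L = Nat.card L := by
      rw [relIndex, ← card_mul_index (P.subgroupOf L), Nat.card_congr (subgroupOfEquivOfLe hPL).toEquiv]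
    rw [← h2, hcard8]
    exact (show (24 : ℕ) = 8 * 3 by norm_num) ▸ Nat.mul_dvd_mul_left 8 h1
  have hLc : Nat.card L = 24 := Nat.dvd_antisymm hLle hL24
  have hLidx : L.index ∣ 2 := by
    have h1 : Nat.card L * L.index = Nat.card J := L.card_mul_index
    rw [hLc] at h1
    rw [← h1, show (48 : ℕ) = 24 * 2 by norm_num] at hJ48
    exact Nat.dvd_of_mul_dvd_mul_left (by norm_num) hJ48
  have hLn : L.Normal := by
    rcases (Nat.dvd_prime Nat.prime_two).1 hLidx with h | h
    · exact normal_of_index_eq_one h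
    · exact normal_of_index_eq_two h
  refine ⟨L, hLn, ?_, ?_⟩
  · intro z hz hzz
    apply hPL
    apply Lib.Cores.le_pCore (N := zpowers z) ?_ ?_ (mem_zpowers z)
    · refine ⟨?_⟩
      rintro _ ⟨k, rfl⟩ g
      have h1 : g * z ^ k = z ^ k * g :=
        (show Commute g z from mem_center_iff.1 hz g).zpow_right k
      refine ⟨k, ?_⟩
      change z ^ k = g * z ^ k * g⁻¹
      rw [h1, mul_inv_cancel_right]
    · rintro ⟨_, k, rfl⟩
      refine ⟨1, Subtype.ext ?_⟩
      change (z ^ k) ^ (2 ^ 1) = 1
      rw [pow_one, ← zpow_natCast, ← zpow_mul, mul_comm, zpow_mul, zpow_natCast, pow_two, hzz, one_zpow]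
  · have hn : (P.subgroupOf L).Normal := inferInstance
    refine SylowG2.SLTwoThreeRecog.mulEquiv_of_quaternion hLc (P.subgroupOf L) hn
      ⟨(subgroupOfEquivOfLe hPL).trans e⟩ ⟨c, hcL⟩ (by rw [Subgroup.orderOf_mk]; exact hc) ?_
    intro h
    apply hnot c hc
    rw [mem_centralizer_iff] at h ⊢
    intro x hx
    exact congrArg Subtype.val (h ⟨x, hPL hx⟩ (mem_subgroupOf.2 hx))

end Cfsg.Agent.OddHalf.Quat
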