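import Cfsg.Agent.OddHalf.Quat.Std
import Cfsg.Agent.Cit.NilComp

/-!
# Node Q: the frame

`Base z Q K₁`: `Q` is a generalised quaternion 2-group, normal in `C(z)`, `z ∈ Q`; `K₁` is normal in `C(z)`,
`C(K₁) ∩ C(z) = Q`, `z ∉ K₁`, `O(K₁) = 1`.

`Base.qk` : the class of `Q` and the conjugates of `K₁` satisfy `QK`.
-/

set_option autoImplicit false

namespace Cfsg.Agent.OddHalf.Quat

open Subgroup Cfsg Cfsg.Agent.Cit

variable {G : Type*} [Group G]

/-- the frame of node Q -/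
structure Base (z : G) (Q K₁ : Subgroup G) : Prop where
  zo : orderOf z = 2
  zQ : z ∈ Q
  two : IsPGroup 2 Q
  gq : IsGQ Q
  Qn : centralizer {z} ≤ normalizer (Q : Set G)
  Kn : centralizer {z} ≤ normalizer (K₁ : Set G)
  cent : centralizer (K₁ : Set G) ⊓ centralizer {z} = Q
  ntr : z ∉ K₁
  core : OO K₁ = ⊥

namespace Base

variable {z : G} {Q K₁ : Subgroup G}

theorem QC (b : Base z Q K₁) : Q ≤ centralizer {z} := by rw [← b.cent]; exact inf_le_right

theorem QK₁ (b : Base z Q K₁) : Q ≤ centralizer (K₁ : Set G) := by rw [← b.cent]; exact inf_le_left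

theorem K₁C (b : Base z Q K₁) : K₁ ≤ centralizer {z} := by
  intro x hx
  rw [mem_centralizer_singleton_iff]
  exact (mem_centralizer_iff.1 (b.QK₁ b.zQ) x hx)

theorem comm (b : Base z Q K₁) {x y : G} (hx : x ∈ K₁) (hy : y ∈ Q) : x * y = y * x :=
  (mem_centralizer_iff.1 (b.QK₁ hy) x hx)

theorem eq_z (b : Base z Q K₁) {t : G} (ht : t ∈ Q) (h : t * t = 1) (h1 : t ≠ 1) : t = z := by
  obtain ⟨c, v, z', n, hg⟩ := exists_gq b.gq
  have hzz : z * z = 1 := by rw [← pow_two, ← b.zo, pow_orderOf_eq_one]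
  have hz1 : z ≠ 1 := by
    rintro rfl
    have := b.zo
    rw [orderOf_one] at this
    omega
  rw [hg.eq_z ht h h1, hg.eq_z b.zQ hzz hz1]

theorem mul_self (b : Base z Q K₁) : z * z = 1 := by rw [← pow_two, ← b.zo, pow_orderOf_eq_one]

theorem ne_one (b : Base z Q K₁) : z ≠ 1 := by
  rintro rfl
  have := b.zo
  rw [orderOf_one] at this
  omega

variable [Finite G]

theorem hyp' (b : Base z Q K₁) : Hyp (cls Q) ∧ zz Q = z := by
  have : Fact (Nat.Prime 2) := ⟨Nat.prime_two⟩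
  refine hyp_of_class z b.zo Q b.zQ ?_ ?_ ?_ ?_ ?_
  · have hn : (Q.subgroupOf (centralizer {z})).Normal := (normal_subgroupOf_iff_le_normalizer b.QC).2 b.Qn
    exact hn.isSubnormal
  · obtain ⟨n, ⟨e⟩⟩ := b.gq
    have ht : IsPGroup 2 (⊤ : Subgroup Q) := b.two.to_subgroup ⊤
    refine ⟨ht.toSylow (by rw [index_top]; omega), n, ⟨?_⟩⟩
    exact Subgroup.topEquiv.trans e
  · intro t ht ht2
    refine b.eq_z ht ?_ ?_
    · rw [← pow_two, ← ht2, pow_orderOf_eq_one]
    · rintro rfl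
      rw [orderOf_one] at ht2
      omega
  · intro u hu
    left
    exact mem_normalizer_iff_cj.1 (b.Qn hu)
  · intro y _ g _ _ hg
    exact b.Qn hg

theorem hyp (b : Base z Q K₁) : Hyp (cls Q) := b.hyp'.1

theorem zz_eq (b : Base z Q K₁) : zz Q = z := b.hyp'.2

theorem normalizer_le (b : Base z Q K₁) : normalizer (Q : Set G) ≤ normalizer (K₁ : Set G) := by
  have h1 := b.hyp.normalizer_le (self_mem_cls Q)
  rw [b.zz_eq] at h1
  exact h1.trans b.Kn

open Classical in
/-- the conjugate of `K₁` attached to a conjugate of `Q` -/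
noncomputable def Kc (Q K₁ : Subgroup G) (L : Subgroup G) : Subgroup G :=
  if h : ∃ g : G, L = cj g Q then cj h.choose K₁ else ⊥

theorem Kc_cj (b : Base z Q K₁) (g : G) : Kc Q K₁ (cj g Q) = cj g K₁ := by
  have hex : ∃ h : G, cj g Q = cj h Q := ⟨g, rfl⟩
  have h1 : Kc Q K₁ (cj g Q) = cj hex.choose K₁ := by
    unfold Kc
    rw [dif_pos hex]
  rw [h1]
  have h2 := hex.choose_spec
  set h := hex.choose with hh
  have h3 : cj (g⁻¹ * h) Q = Q := by
    rw [cj_mul, ← h2, cj_inv_cj]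
  have h4 := mem_normalizer_iff_cj.1 (b.normalizer_le (mem_normalizer_iff_cj.2 h3))
  rw [cj_mul] at h4
  have h5 := congrArg (cj g) h4
  rwa [cj_cj_inv] at h5

theorem Kc_self (b : Base z Q K₁) : Kc Q K₁ Q = K₁ := by
  have := b.Kc_cj 1
  rwa [cj_one, cj_one] at this

theorem Kc_conj (b : Base z Q K₁) {L : Subgroup G} (hL : L ∈ cls Q) (g : G) :
    Kc Q K₁ (cj g L) = cj g (Kc Q K₁ L) := by
  obtain ⟨h, rfl⟩ := hL
  rw [← cj_mul, b.Kc_cj, b.Kc_cj, cj_mul]

/-- the frame of a conjugate -/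
theorem conj (b : Base z Q K₁) (g : G) : Base (g * z * g⁻¹) (cj g Q) (cj g K₁) := by
  have h0 : (cj g (centralizer {z}) : Subgroup G) = centralizer {g * z * g⁻¹} := cj_centralizer g z
  refine ⟨?_, conj_mem_cj b.zQ, isPGroup_cj b.two, ?_, ?_, ?_, ?_, ?_, ?_⟩
  · rw [← b.zo]; exact (MulAut.conj g).orderOf_eq z
  · obtain ⟨n, ⟨e⟩⟩ := b.gq
    exact ⟨n, ⟨(cjEquiv g Q).symm.trans e⟩⟩
  · rw [← h0]
    intro x hx
    rw [mem_cj] at hx
    have h1 := mem_normalizer_iff_cj.1 (b.Qn hx)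
    rw [mem_normalizer_iff_cj, ← cj_mul]
    have h2 := congrArg (cj g) h1
    rw [← cj_mul] at h2
    rwa [show g * (g⁻¹ * x * g) = x * g by group] at h2
  · rw [← h0]
    intro x hx
    rw [mem_cj] at hx
    have h1 := mem_normalizer_iff_cj.1 (b.Kn hx)
    rw [mem_normalizer_iff_cj, ← cj_mul]
    have h2 := congrArg (cj g) h1
    rw [← cj_mul] at h2
    rwa [show g * (g⁻¹ * x * g) = x * g by group] at h2
  · rw [← h0]
    have h1 : centralizer ((cj g K₁ : Subgroup G) : Set G) = cj g (centralizer (K₁ : Set G)) := by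
      ext x
      rw [mem_cj, mem_centralizer_iff, mem_centralizer_iff]
      constructor
      · intro h k hk
        have h2 := h _ (conj_mem_cj (g := g) hk)
        calc k * (g⁻¹ * x * g) = g⁻¹ * ((g * k * g⁻¹) * x) * g := by group
          _ = g⁻¹ * (x * (g * k * g⁻¹)) * g := by rw [h2]
          _ = g⁻¹ * x * g * k := by group
      · intro h k hk
        have h2 := h _ (mem_cj.1 hk)
        calc k * x = g * ((g⁻¹ * k * g) * (g⁻¹ * x * g)) * g⁻¹ := by group
          _ = g * ((g⁻¹ * x * g) * (g⁻¹ * k * g)) * g⁻¹ := by rw [h2]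
          _ = x * k := by group
    rw [h1, ← cj_inf, b.cent]
  · intro h
    rw [conj_mem_cj_iff] at h
    exact b.ntr h
  · rw [OO_cj, b.core, cj_def, Subgroup.map_bot]

theorem of_mem (b : Base z Q K₁) {L : Subgroup G} (hL : L ∈ cls Q) : Base (zz L) L (Kc Q K₁ L) := by
  obtain ⟨g, rfl⟩ := hL
  have h1 := b.conj g
  have h2 : zz (cj g Q) = g * z * g⁻¹ := by rw [b.hyp.zz_cj (self_mem_cls Q), b.zz_eq]
  rw [h2, b.Kc_cj]
  exact h1

/-- the family of node Q -/
theorem qk (b : Base z Q K₁) : QK (cls Q) (Kc Q K₁) := by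
  refine ⟨b.hyp, fun K hK => (b.of_mem hK).two, ?_, ?_, ?_, fun K hK => (b.of_mem hK).ntr, ?_⟩
  · intro K hK L hL h
    obtain ⟨g, rfl⟩ := hK
    obtain ⟨k, rfl⟩ := hL
    have h1 := (b.of_mem ⟨g, rfl⟩).Qn
    rw [b.hyp.zz_cj (self_mem_cls Q), b.hyp.zz_cj (self_mem_cls Q), b.zz_eq] at h
    have h2 : k * g⁻¹ ∈ centralizer {g * z * g⁻¹} := by
      rw [mem_centralizer_singleton_iff]
      calc k * g⁻¹ * (g * z * g⁻¹) = (k * z * k⁻¹) * (k * g⁻¹) := by group
        _ = (g * z * g⁻¹) * (k * g⁻¹) := by rw [h]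
    have h3 := mem_normalizer_iff_cj.1 ((b.conj g).Qn h2)
    rw [← cj_mul] at h3
    rw [← h3]
    congr 1
    group
  · intro K hK x hx y hy
    exact (b.of_mem hK).comm hx hy
  · intro K hK g hg x hx
    have h1 := (b.of_mem hK).Kn (mem_centralizer_singleton_iff.2 hg)
    exact (mem_normalizer_iff.1 h1 x).1 hx
  · intro K hK L hL hne hc
    have bK := b.of_mem hK
    have bL := b.of_mem hL
    by_contra hz
    have hLK : L ≤ centralizer {zz K} := by
      intro y hy
      rw [mem_centralizer_singleton_iff]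
      exact (hc _ bK.zQ y hy).symm
    have h1 := b.hyp.lemma_two (fun M hM => (b.of_mem hM).two) hL (hLK.trans bK.Kn) bK.core hz
    have h2 : zz L ∈ centralizer ((Kc Q K₁ K : Subgroup G) : Set G) ⊓ centralizer {zz K} := by
      refine ⟨mem_centralizer_iff.2 fun k hk => ?_, hLK bL.zQ⟩
      exact mem_centralizer_singleton_iff.1 (h1 hk)
    rw [bK.cent] at h2
    have h3 := bK.eq_z h2 bL.mul_self bL.ne_one
    -- `K` and `L` have the same involution and commute: `K` would be abelian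
    have h4 : K = L := by
      obtain ⟨g, rfl⟩ := hK
      obtain ⟨k, rfl⟩ := hL
      rw [b.hyp.zz_cj (self_mem_cls Q), b.hyp.zz_cj (self_mem_cls Q), b.zz_eq] at h3
      have h5 : k * g⁻¹ ∈ centralizer {g * z * g⁻¹} := by
        rw [mem_centralizer_singleton_iff]
        calc k * g⁻¹ * (g * z * g⁻¹) = (k * z * k⁻¹) * (k * g⁻¹) := by group
          _ = (g * z * g⁻¹) * (k * g⁻¹) := by rw [h3]
      have h6 := mem_normalizer_iff_cj.1 ((b.conj g).Qn h5)
      rw [← cj_mul] at h6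
      rw [← h6]
      congr 1
      group
    exact hne h4

end Base

end Cfsg.Agent.OddHalf.Quat
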