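import Cfsg.Agent.OddHalf.Quat.KF
import Cfsg.Agent.Lib.NormalAbelian

/-!
# Node Q: `KBig U` from the action of `N_K(U)` on the involutions of `Z(U)`

`U` a finite 2-group, `X = XZ U` (the involutions of `Z(U)` and `1`).
* `KBig.of_trans`: `N_K(U)` is transitive on the nonidentity elements of `X`, acts on `X` as an abelian group,
  `|X| > 2`, `|U| > 64`;
* `KBig.of_three`: `X ≤ [U,U,U]` and no involution of `X` is central in `N_K(U)`.
-/

set_option autoImplicit false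

namespace Cfsg.Agent.OddHalf.Quat

open Subgroup
open scoped commutatorElement

variable {K : Type*} [Group K]

/-- a subgroup of index `≤ 4` of a finite 2-group has a core of index `≤ 8` -/
theorem exists_core [Finite K] {U C : Subgroup K} (hU : IsPGroup 2 U) (hC : C.relIndex U ≤ 4) :
    ∃ N : Subgroup U, N.Normal ∧ N ≤ C.subgroupOf U ∧ N.index ≤ 8 := by
  refine ⟨(C.subgroupOf U).normalCore, inferInstance, normalCore_le _, ?_⟩
  have h : (C.subgroupOf U).normalCore.index ∣ (C.subgroupOf U).index.factorial := by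
    rw [normalCore_eq_ker, index_ker, index_eq_card, ← Nat.card_perm]
    exact card_subgroup_dvd_card (MulAction.toPermHom U (U ⧸ C.subgroupOf U)).range
  have h4 : (C.subgroupOf U).index ≤ 4 := hC
  have h24 : (C.subgroupOf U).normalCore.index ∣ 24 := h.trans (Nat.factorial_dvd_factorial h4)
  obtain ⟨n, hn⟩ := hU.index (C.subgroupOf U).normalCore
  rw [hn] at h24 ⊢
  have hn3 : n ≤ 3 := by
    by_contra hcon
    have h16 : 2 ^ 4 ∣ 24 := (pow_dvd_pow 2 (by omega)).trans h24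
    revert h16; decide
  calc 2 ^ n ≤ 2 ^ 3 := Nat.pow_le_pow_right (by norm_num) hn3
    _ = 8 := by norm_num

theorem mem_XZ_conj {U : Subgroup K} {r x : K} (hr : r ∈ normalizer (U : Set K)) (hx : x ∈ XZ U) :
    r * x * r⁻¹ ∈ XZ U := by
  obtain ⟨h1, h2, h3⟩ := hx
  refine ⟨(mem_normalizer_iff.mp hr x).mp h1, ?_, fun u hu => ?_⟩
  · calc r * x * r⁻¹ * (r * x * r⁻¹) = r * (x * x) * r⁻¹ := by group
      _ = 1 := by rw [h2]; group
  · have hu' : r⁻¹ * u * r ∈ U := by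
      have := (mem_normalizer_iff.mp (inv_mem hr) u).mp hu
      rwa [inv_inv] at this
    have h := h3 _ hu'
    calc u * (r * x * r⁻¹) = r * ((r⁻¹ * u * r) * x) * r⁻¹ := by group
      _ = r * (x * (r⁻¹ * u * r)) * r⁻¹ := by rw [h]
      _ = r * x * r⁻¹ * u := by group

theorem image_eq [Finite K] {U : Subgroup K} {α : MulAut K} (hα : ∀ u ∈ U, α u ∈ U) :
    U.map α.toMonoidHom = U := by
  apply Subgroup.eq_of_le_of_card_ge
  · rintro _ ⟨u, hu, rfl⟩; exact hα u hu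
  · rw [Nat.card_congr (U.equivMapOfInjective α.toMonoidHom α.injective).toEquiv]

theorem inv_mem_of [Finite K] {U : Subgroup K} {α : MulAut K} (hα : ∀ u ∈ U, α u ∈ U) {u : K} (hu : u ∈ U) :
    ∃ v ∈ U, α v = u := by
  have h := image_eq hα
  rw [← h] at hu
  obtain ⟨v, hv, e⟩ := hu
  exact ⟨v, hv, e⟩

theorem mem_XZ_aut [Finite K] {U : Subgroup K} {α : MulAut K} (hα : ∀ u ∈ U, α u ∈ U) {x : K} (hx : x ∈ XZ U) :
    α x ∈ XZ U := by
  obtain ⟨h1, h2, h3⟩ := hx
  refine ⟨hα x h1, by rw [← map_mul, h2, map_one], fun u hu => ?_⟩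
  obtain ⟨v, hv, rfl⟩ := inv_mem_of hα hu
  rw [← map_mul, ← map_mul, h3 v hv]

theorem aut_mem_normalizer [Finite K] {U : Subgroup K} {α : MulAut K} (hα : ∀ u ∈ U, α u ∈ U) {r : K}
    (hr : r ∈ normalizer (U : Set K)) : α r ∈ normalizer (U : Set K) := by
  rw [mem_normalizer_iff]
  have key : ∀ h ∈ U, α r * h * (α r)⁻¹ ∈ U := by
    intro h hh
    obtain ⟨v, hv, rfl⟩ := inv_mem_of hα hh
    rw [← map_inv, ← map_mul, ← map_mul]
    exact hα _ ((mem_normalizer_iff.mp hr v).mp hv)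
  intro h
  refine ⟨key h, fun hh => ?_⟩
  obtain ⟨v, hv, e⟩ := inv_mem_of hα hh
  have h1 : r⁻¹ * v * r ∈ U := by
    have := (mem_normalizer_iff.mp (inv_mem hr) v).mp hv
    rwa [inv_inv] at this
  have h2 := hα _ h1
  rw [map_mul, map_mul, map_inv, e] at h2
  have : (α r)⁻¹ * (α r * h * (α r)⁻¹) * α r = h := by group
  rwa [this] at h2

/-- a nontrivial normal subgroup of the 2-group `U` meets `X` -/
theorem exists_XZ [Finite K] {U : Subgroup K} (hU : IsPGroup 2 U) {M : Subgroup U} (hM : M.Normal)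
    (h1 : M ≠ ⊥) : ∃ x : U, x ∈ M ∧ (x : K) ∈ XZ U ∧ (x : K) ≠ 1 := by
  have : Group.IsNilpotent U := hU.isNilpotent
  have h := Cfsg.Agent.Lib.NormalAbelian.normal_inf_center_ne_bot M h1
  have hp : IsPGroup 2 (M ⊓ center U : Subgroup U) := hU.to_subgroup _
  obtain ⟨n, hn⟩ := IsPGroup.iff_card.mp hp
  have hn0 : n ≠ 0 := by
    rintro rfl
    exact h (Subgroup.card_eq_one.mp (by simpa using hn))
  have h2 : 2 ∣ Nat.card (M ⊓ center U : Subgroup U) := by rw [hn]; exact dvd_pow_self 2 hn0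
  obtain ⟨y, hy⟩ := exists_prime_orderOf_dvd_card' 2 h2
  have hy2 : y * y = 1 := by rw [← pow_two, ← hy, pow_orderOf_eq_one]
  have hy1 : y ≠ 1 := by rintro rfl; rw [orderOf_one] at hy; exact absurd hy (by norm_num)
  refine ⟨y.1, y.2.1, ⟨y.1.2, ?_, fun u hu => ?_⟩, fun e => hy1 (Subtype.ext (Subtype.ext e))⟩
  · have := congrArg (fun z : (M ⊓ center U : Subgroup U) => ((z : U) : K)) hy2
    simpa using this
  · have := mem_center_iff.mp y.2.2 ⟨u, hu⟩
    exact congrArg Subtype.val this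

/-- the elements `b = α(r) r⁻¹` centralise an element of `X` -/
theorem exists_fixed [Finite K] {U C : Subgroup K} (hU : IsPGroup 2 U) {k : ℕ} (hk : k * k < Nat.card U)
    {α : MulAut K} (hCα : ∀ u ∈ C, α u = u)
    (hcore : ∃ N : Subgroup U, N.Normal ∧ N ≤ C.subgroupOf U ∧ N.index ≤ k)
    {r : K} (hr : r ∈ normalizer (U : Set K)) :
    ∃ x ∈ XZ U, x ≠ 1 ∧ α r * r⁻¹ * x = x * (α r * r⁻¹) := by
  obtain ⟨N, hN, hNC, hN8⟩ := hcore
  let φ : MulAut U := U.normalizerMonoidHom ⟨r, hr⟩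
  have hφ : ∀ u : U, ((φ u : U) : K) = r * u * r⁻¹ := fun u => rfl
  let N' : Subgroup U := N.map φ.toMonoidHom
  have : N'.Normal := hN.map _ φ.surjective
  have hN' : N'.index = N.index := index_map_of_bijective φ.bijective N
  have hM : (N ⊓ N').index ≤ k * k := index_inf_le.trans (by rw [hN']; exact Nat.mul_le_mul hN8 hN8)
  have hne : N ⊓ N' ≠ ⊥ := by
    intro h
    rw [h, index_bot] at hM
    omega
  obtain ⟨x, hx, hxX, hx1⟩ := exists_XZ hU (normal_inf_normal N N') hne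
  refine ⟨x, hxX, hx1, ?_⟩
  have hx' : α (x : K) = x := hCα _ (mem_subgroupOf.mp (hNC hx.1))
  obtain ⟨y, hy, hyx⟩ := hx.2
  have hy' : α (y : K) = y := hCα _ (mem_subgroupOf.mp (hNC hy))
  have e : (x : K) = r * y * r⁻¹ := by rw [← hφ y]; exact (congrArg Subtype.val hyx).symm
  have e1 : α r * y * (α r)⁻¹ = x := by
    rw [← hx', e, map_mul, map_mul, map_inv, hy']
  have e2 : r⁻¹ * x * r = y := by rw [e]; group
  calc α r * r⁻¹ * x = α r * (r⁻¹ * x * r) * r⁻¹ := by group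
    _ = α r * y * r⁻¹ := by rw [e2]
    _ = (α r * y * (α r)⁻¹) * (α r * r⁻¹) := by group
    _ = x * (α r * r⁻¹) := by rw [e1]

/-- `XZ U` as a subgroup -/
def XZs (U : Subgroup K) : Subgroup K where
  carrier := XZ U
  one_mem' := ⟨U.one_mem, one_mul 1, fun u _ => by rw [mul_one, one_mul]⟩
  mul_mem' := by
    rintro a b ⟨ha, ha2, ha3⟩ ⟨hb, hb2, hb3⟩
    refine ⟨mul_mem ha hb, ?_, fun u hu => by rw [← mul_assoc, ha3 u hu, mul_assoc, hb3 u hu, mul_assoc]⟩
    calc a * b * (a * b) = a * (b * a) * b := by group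
      _ = a * (a * b) * b := by rw [ha3 b hb]
      _ = (a * a) * (b * b) := by group
      _ = 1 := by rw [ha2, hb2, one_mul]
  inv_mem' := by
    rintro a ⟨ha, ha2, ha3⟩
    have : a⁻¹ = a := inv_eq_of_mul_eq_one_left ha2
    rw [this]; exact ⟨ha, ha2, ha3⟩

theorem mem_XZs {U : Subgroup K} {x : K} : x ∈ XZs U ↔ x ∈ XZ U := Iff.rfl

/-- a 2-automorphism of `K` leaving `U` invariant fixes an element `≠ 1` of `X` if `X ≠ 1` -/
theorem exists_fix_aut [Finite K] {U : Subgroup K} (hU : IsPGroup 2 U) (h1 : ∃ x ∈ XZ U, x ≠ 1)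
    {α : MulAut K} (h2 : IsPGroup 2 (zpowers α)) (hα : ∀ u ∈ U, α u ∈ U) : ∃ x ∈ XZ U, x ≠ 1 ∧ α x = x := by
  classical
  have := Fintype.ofFinite K
  obtain ⟨n, hn⟩ : ∃ n : ℕ, α ^ 2 ^ n = 1 := by
    obtain ⟨n, hn⟩ := h2 ⟨α, mem_zpowers α⟩
    exact ⟨n, by simpa using congrArg Subtype.val hn⟩
  let f : Function.End (XZs U) := fun x => ⟨α x, mem_XZ_aut hα x.2⟩
  have hf : ∀ k : ℕ, ∀ x : XZs U, ((f ^ k) x : K) = (α ^ k) x := by
    intro k
    induction k with
    | zero => intro x; rfl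
    | succ k ih =>
      intro x
      rw [pow_succ, pow_succ]
      change (((f ^ k) (f x) : XZs U) : K) = (α ^ k) (α x)
      rw [ih]
  have hf1 : f ^ 2 ^ n = 1 := by
    funext x
    exact Subtype.ext (by rw [hf, hn]; rfl)
  have := Fintype.ofFinite (XZs U)
  have h := Equiv.Perm.card_fixedPoints_modEq (p := 2) (n := n) hf1
  have hX2 : 2 ∣ Fintype.card (XZs U) := by
    rw [← Nat.card_eq_fintype_card]
    have hp : IsPGroup 2 (XZs U) := hU.to_le (fun x hx => hx.1)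
    obtain ⟨m, hm⟩ := IsPGroup.iff_card.mp hp
    rw [hm]
    refine dvd_pow_self 2 ?_
    rintro rfl
    obtain ⟨x, hx, hx1⟩ := h1
    have : XZs U = ⊥ := Subgroup.card_eq_one.mp (by simpa using hm)
    exact hx1 (Subgroup.mem_bot.mp (this ▸ mem_XZs.mpr hx))
  have hF2 : 2 ∣ Fintype.card (Function.fixedPoints f) := by
    have := (Nat.modEq_zero_iff_dvd.mpr hX2).symm.trans h
    exact Nat.modEq_zero_iff_dvd.mp this.symm
  have h1' : (1 : XZs U) ∈ Function.fixedPoints f := Subtype.ext (by simp [f])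
  have hlt : 1 < Fintype.card (Function.fixedPoints f) := by
    have : 0 < Fintype.card (Function.fixedPoints f) := Fintype.card_pos_iff.mpr ⟨⟨1, h1'⟩⟩
    omega
  obtain ⟨y, hy⟩ := Fintype.exists_ne_of_one_lt_card hlt ⟨1, h1'⟩
  refine ⟨y.1.1, y.1.2, fun e => hy (Subtype.ext (Subtype.ext e)), ?_⟩
  exact congrArg Subtype.val y.2

/-- the action of `N_K(U)` on `X` is transitive, abelian, `|X| > 2` -/
structure Tr (U : Subgroup K) : Prop where
  two : ∃ x ∈ XZ U, ∃ y ∈ XZ U, x ≠ 1 ∧ y ≠ 1 ∧ x ≠ y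
  tr : ∀ x ∈ XZ U, ∀ y ∈ XZ U, x ≠ 1 → y ≠ 1 → ∃ r ∈ normalizer (U : Set K), r * x * r⁻¹ = y
  ab : ∀ r ∈ normalizer (U : Set K), ∀ s ∈ normalizer (U : Set K), ∀ x ∈ XZ U,
    r * (s * x * s⁻¹) * r⁻¹ = s * (r * x * r⁻¹) * s⁻¹

namespace Tr

variable {U : Subgroup K}

theorem mv (h : Tr U) : ∀ w ∈ XZ U, w ≠ 1 → ∃ r ∈ normalizer (U : Set K), r * w ≠ w * r := by
  obtain ⟨a, ha, c, hc, ha1, hc1, hac⟩ := h.two
  intro w hw hw1
  by_contra hcon
  push Not at hcon
  have key : ∀ y ∈ XZ U, y ≠ 1 → y = w := by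
    intro y hy hy1
    obtain ⟨r, hr, e⟩ := h.tr w hw y hy hw1 hy1
    rw [← e, hcon r hr]; group
  exact hac ((key a ha ha1).trans (key c hc hc1).symm)

/-- an element of `N_K(U)` which centralises an element of `X#` centralises `X` -/
theorem free (h : Tr U) {b : K} (hb : b ∈ normalizer (U : Set K)) {y : K} (hy : y ∈ XZ U) (hy1 : y ≠ 1)
    (hby : b * y = y * b) {x : K} (hx : x ∈ XZ U) : b * x = x * b := by
  rcases eq_or_ne x 1 with rfl | hx1
  · rw [mul_one, one_mul]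
  obtain ⟨s, hs, e⟩ := h.tr y hy x hx hy1 hx1
  have h := h.ab _ hb s hs y hy
  have e1 : b * y * b⁻¹ = y := by rw [hby]; group
  rw [e1, e] at h
  calc b * x = (b * x * b⁻¹) * b := by group
    _ = x * b := by rw [h]

/-- if all the elements `α(r) r⁻¹` centralise an element of `X#`, then `α` centralises `X` -/
theorem fix [Finite K] (h : Tr U) (hU : IsPGroup 2 U) {α : MulAut K} (hα2 : IsPGroup 2 (zpowers α))
    (hαU : ∀ u ∈ U, α u ∈ U)
    (hb : ∀ r ∈ normalizer (U : Set K), ∃ y ∈ XZ U, y ≠ 1 ∧ α r * r⁻¹ * y = y * (α r * r⁻¹)) {x : K}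
    (hx : x ∈ XZ U) : α x = x := by
  obtain ⟨a, ha, -, -, ha1, -, -⟩ := h.two
  obtain ⟨x0, hx0, hx01, hfix⟩ := exists_fix_aut hU ⟨a, ha, ha1⟩ hα2 hαU
  rcases eq_or_ne x 1 with rfl | hx1
  · exact map_one α
  obtain ⟨r, hr, e⟩ := h.tr x0 hx0 x hx hx01 hx1
  obtain ⟨y, hy, hy1, hby⟩ := hb r hr
  have hbm : α r * r⁻¹ ∈ normalizer (U : Set K) := mul_mem (aut_mem_normalizer hαU hr) (inv_mem hr)
  have hrx : r * x0 * r⁻¹ ∈ XZ U := mem_XZ_conj hr hx0
  have h := h.free hbm hy hy1 hby hrx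
  rw [← e, map_mul, map_mul, map_inv, hfix]
  calc α r * x0 * (α r)⁻¹ = α r * r⁻¹ * (r * x0 * r⁻¹) * (α r * r⁻¹)⁻¹ := by group
    _ = (r * x0 * r⁻¹) * (α r * r⁻¹) * (α r * r⁻¹)⁻¹ := by rw [h]
    _ = r * x0 * r⁻¹ := by group

end Tr

/-- **the main lemma** -/
theorem KBig.of_trans [Finite K] {U : Subgroup K} (hU : IsPGroup 2 U) (h64 : 64 < Nat.card U) (h : Tr U) :
    KBig U := by
  refine ⟨h.mv, fun α hα2 hαU hαX C hCU hCα => ?_⟩
  by_contra hcon
  push Not at hcon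
  obtain ⟨x, hx, hαx⟩ := hαX
  exact hαx (h.fix hU hα2 hαU (fun r hr => exists_fixed hU (k := 8) (by omega) hCα (exists_core hU hcon) hr) hx)

/-- `U` abelian (`L₂(q)`, `q ≥ 32`) -/
theorem KBig.of_comm [Finite K] {U : Subgroup K} (hU : IsPGroup 2 U) (hc : ∀ x ∈ U, ∀ y ∈ U, x * y = y * x)
    (h16 : 16 < Nat.card U) (h : Tr U) : KBig U := by
  refine ⟨h.mv, fun α hα2 hαU hαX C hCU hCα => ?_⟩
  by_contra hcon
  push Not at hcon
  obtain ⟨x, hx, hαx⟩ := hαX
  have hN : (C.subgroupOf U).Normal := by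
    refine ⟨fun n hn g => ?_⟩
    have : g * n * g⁻¹ = n := by
      have : g * n = n * g := Subtype.ext (hc _ g.2 _ n.2)
      rw [this]; group
    rwa [this]
  exact hαx (h.fix hU hα2 hαU (fun r hr => exists_fixed hU (k := 4) (by omega) hCα ⟨_, hN, le_rfl, hcon⟩ hr) hx)

theorem comm_of_card_le {P : Type*} [Group P] [Finite P] (hP : IsPGroup 2 P) (h : Nat.card P ≤ 4) :
    ∀ x y : P, x * y = y * x := by
  obtain ⟨n, hn⟩ := IsPGroup.iff_card.mp hP
  have hn2 : n ≤ 2 := by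
    by_contra hcon
    have : 2 ^ 3 ≤ 2 ^ n := Nat.pow_le_pow_right (by norm_num) (by omega)
    omega
  interval_cases n
  · have : Subsingleton P := (Nat.card_eq_one_iff_unique.mp (by simpa using hn)).1
    intro x y; exact Subsingleton.elim _ _
  · have : IsCyclic P := isCyclic_of_prime_card (p := 2) (by simpa using hn)
    exact fun x y => IsCyclic.commGroup.mul_comm x y
  · exact fun x y => (IsPGroup.commGroupOfCardEqPrimeSq (p := 2) hn).mul_comm x y

/-- a group of order `≤ 8` (a power of 2) has class `≤ 2` -/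
theorem three_eq_bot {P : Type*} [Group P] [Finite P] (hP : IsPGroup 2 P) (h : Nat.card P ≤ 8) (x y z : P) :
    ⁅⁅x, y⁆, z⁆ = 1 := by
  rcases subsingleton_or_nontrivial P with h1 | h1
  · exact Subsingleton.elim _ _
  have hZ : Nontrivial (center P) := hP.center_nontrivial
  have h2 : 2 ≤ Nat.card (center P) := Finite.one_lt_card
  have h4 : Nat.card (P ⧸ center P) ≤ 4 := by
    have := card_eq_card_quotient_mul_card_subgroup (center P)
    by_contra hcon
    push Not at hcon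
    nlinarith
  have hc := comm_of_card_le (hP.to_quotient (center P)) h4 (x : P ⧸ center P) y
  have hm : ⁅x, y⁆ ∈ center P := by
    rw [← QuotientGroup.eq_one_iff]
    change ⁅(x : P ⧸ center P), (y : P ⧸ center P)⁆ = 1
    rw [commutatorElement_eq_one_iff_mul_comm]; exact hc
  rw [commutatorElement_eq_one_iff_mul_comm]
  exact (mem_center_iff.mp hm z).symm

/-- `X ≤ [U,U,U]` -/
theorem KBig.of_three [Finite K] {U : Subgroup K} (hU : IsPGroup 2 U)
    (h3 : ∀ x ∈ XZ U, x ∈ ⁅⁅U, U⁆, U⁆)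
    (mv : ∀ w ∈ XZ U, w ≠ 1 → ∃ r ∈ normalizer (U : Set K), r * w ≠ w * r) : KBig U := by
  refine ⟨mv, fun α hα2 hαU hαX C hCU hCα => ?_⟩
  by_contra hcon
  push Not at hcon
  obtain ⟨x, hx, hαx⟩ := hαX
  obtain ⟨N, hN, hNC, hN8⟩ := exists_core hU hcon
  apply hαx
  apply hCα
  have hq : IsPGroup 2 (U ⧸ N) := hU.to_quotient N
  have hle : ⁅⁅(⊤ : Subgroup U), (⊤ : Subgroup U)⁆, (⊤ : Subgroup U)⁆ ≤ N := by
    rw [commutator_le]
    have h1 : ⁅(⊤ : Subgroup U), (⊤ : Subgroup U)⁆ ≤ (center (U ⧸ N)).comap (QuotientGroup.mk' N) := by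
      rw [commutator_le]
      intro g₁ _ g₂ _
      rw [mem_comap, map_commutatorElement, mem_center_iff]
      intro c
      have := three_eq_bot hq hN8 (QuotientGroup.mk' N g₁) (QuotientGroup.mk' N g₂) c
      rw [commutatorElement_eq_one_iff_mul_comm] at this
      exact this.symm
    intro a ha b _
    have h2 := mem_center_iff.mp (mem_comap.mp (h1 ha)) (QuotientGroup.mk' N b)
    rw [← QuotientGroup.eq_one_iff]
    change QuotientGroup.mk' N ⁅a, b⁆ = 1
    rw [map_commutatorElement, commutatorElement_eq_one_iff_mul_comm]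
    exact h2.symm
  have hmap : (⁅⁅(⊤ : Subgroup U), (⊤ : Subgroup U)⁆, (⊤ : Subgroup U)⁆).map U.subtype = ⁅⁅U, U⁆, U⁆ := by
    rw [map_commutator, map_commutator, ← MonoidHom.range_eq_map, range_subtype]
  have hx3 := h3 x hx
  rw [← hmap] at hx3
  obtain ⟨u, hu, rfl⟩ := hx3
  exact mem_subgroupOf.mp (hNC (hle hu))

end Cfsg.Agent.OddHalf.Quat
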