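import Cfsg.Agent.OddHalf.Quat.Big

/-!
# Node Q: `KBig U` for `|U| = 64`, `X = Z(U)` of order 4, `U` semi-extraspecial (`L₃(4)`, `U₃(4)`)
-/

set_option autoImplicit false

namespace Cfsg.Agent.OddHalf.Quat

open Subgroup
open scoped commutatorElement

section Abs

variable {P : Type*} [Group P]

theorem cm_right {X : Subgroup P} (hX : X ≤ center P) (com : ∀ u v : P, ⁅u, v⁆ ∈ X) (u v w : P) :
    ⁅u, v * w⁆ = ⁅u, v⁆ * ⁅u, w⁆ := by
  have h1 := mem_center_iff.mp (hX (com u w)) v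
  calc ⁅u, v * w⁆ = ⁅u, v⁆ * (v * ⁅u, w⁆ * v⁻¹) := by simp only [commutatorElement_def]; group
    _ = ⁅u, v⁆ * ⁅u, w⁆ := by rw [h1]; group

theorem cm_left {X : Subgroup P} (hX : X ≤ center P) (com : ∀ u v : P, ⁅u, v⁆ ∈ X) (u v w : P) :
    ⁅u * v, w⁆ = ⁅u, w⁆ * ⁅v, w⁆ := by
  have h1 := mem_center_iff.mp (hX (com v w)) u
  have h2 := mem_center_iff.mp (hX (com v w)) ⁅u, w⁆
  calc ⁅u * v, w⁆ = (u * ⁅v, w⁆ * u⁻¹) * ⁅u, w⁆ := by simp only [commutatorElement_def]; group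
    _ = ⁅v, w⁆ * ⁅u, w⁆ := by rw [h1]; group
    _ = ⁅u, w⁆ * ⁅v, w⁆ := h2.symm

/-- `v ↦ [u, v]` -/
def cphi {X : Subgroup P} (hX : X ≤ center P) (com : ∀ u v : P, ⁅u, v⁆ ∈ X) (u : P) : P →* X where
  toFun v := ⟨⁅u, v⁆, com u v⟩
  map_one' := Subtype.ext (by simp)
  map_mul' v w := Subtype.ext (cm_right hX com u v w)

theorem semi_aux [Finite P] (X : Subgroup P) (hXc : X ≤ center P) (hX : Nat.card X = 4) (hP : Nat.card P = 64)
    (com : ∀ u v : P, ⁅u, v⁆ ∈ X) (sur : ∀ u : P, u ∉ X → ∀ x ∈ X, ∃ v, ⁅u, v⁆ = x) (C : Subgroup P)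
    (hC : 16 ≤ Nat.card C) (hF : Nat.card (X ⊓ C : Subgroup P) ≤ 2) : False := by
  classical
  have hXn : X.Normal := ⟨fun n hn g => by
    have := mem_center_iff.mp (hXc hn) g
    rw [this]; simpa using hn⟩
  set D := C ⊔ X with hD
  have h1 : X.relIndex D = X.relIndex C := relIndex_sup_right C X
  have h2 : Nat.card D = X.relIndex D * Nat.card X := by
    rw [relIndex, ← Nat.card_congr (subgroupOfEquivOfLe (le_sup_right : X ≤ D)).toEquiv]
    rw [mul_comm]; exact (card_mul_index _).symm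
  have h3 : Nat.card C = X.relIndex C * Nat.card (X ⊓ C : Subgroup P) := by
    rw [← inf_relIndex_right, relIndex, ← Nat.card_congr (subgroupOfEquivOfLe (inf_le_right : X ⊓ C ≤ C)).toEquiv]
    rw [mul_comm]; exact (card_mul_index _).symm
  have hcard : Nat.card D * Nat.card (X ⊓ C : Subgroup P) = 4 * Nat.card C := by
    rw [h2, h3, h1, hX]; ring
  -- `K_u`
  let F : Subgroup X := (X ⊓ C).subgroupOf X
  have hFc : Nat.card F = Nat.card (X ⊓ C : Subgroup P) :=
    Nat.card_congr (subgroupOfEquivOfLe inf_le_left).toEquiv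
  have hFi : Nat.card F * F.index = 4 := by rw [card_mul_index, hX]
  have hDK : ∀ u ∈ C, D ≤ F.comap (cphi hXc com u) := by
    intro u hu
    refine sup_le ?_ ?_
    · intro v hv
      rw [mem_comap, mem_subgroupOf]
      refine ⟨com u v, ?_⟩
      exact C.mul_mem (C.mul_mem (C.mul_mem hu hv) (C.inv_mem hu)) (C.inv_mem hv)
    · intro v hv
      have : ⁅u, v⁆ = 1 := commutatorElement_eq_one_iff_mul_comm.mpr (mem_center_iff.mp (hXc hv) u)
      rw [mem_comap, mem_subgroupOf]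
      change ⁅u, v⁆ ∈ X ⊓ C
      rw [this]; exact one_mem _
  have hKi : ∀ u, u ∉ X → Nat.card (F.comap (cphi hXc com u)) = 16 * Nat.card F := by
    intro u hu
    have hs : Function.Surjective (cphi hXc com u) := by
      rintro ⟨x, hx⟩
      obtain ⟨v, e⟩ := sur u hu x hx
      exact ⟨v, Subtype.ext e⟩
    have h4 := card_mul_index (F.comap (cphi hXc com u))
    rw [index_comap_of_surjective _ hs, hP] at h4
    have h5 : 0 < F.index := Nat.pos_of_ne_zero index_ne_zero_of_finite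
    have h6 : Nat.card (F.comap (cphi hXc com u)) * F.index = 16 * Nat.card F * F.index := by
      rw [h4, mul_assoc, hFi]; rfl
    exact Nat.eq_of_mul_eq_mul_right h5 h6
  have hF0 : 0 < Nat.card F := Nat.card_pos
  rw [← hFc] at hcard hF
  -- an element of `C` outside `X` and outside a given coset of `X`
  have hex : ∀ w : P, ∃ u ∈ C, u ∉ X ∧ w⁻¹ * u ∉ X := by
    intro w
    by_contra hcon
    push Not at hcon
    let f : C → Bool × X := fun c =>
      if h : (c : P) ∈ X then (true, ⟨c, h⟩) else (false, ⟨w⁻¹ * c, hcon c c.2 h⟩)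
    have hf : Function.Injective f := by
      intro a b hab
      by_cases ha : (a : P) ∈ X <;> by_cases hb : (b : P) ∈ X <;> simp [f, ha, hb] at hab
      · exact hab
      · exact hab
    have := Nat.card_le_card_of_injective f hf
    rw [Nat.card_prod, hX, Nat.card_eq_fintype_card (α := Bool), Fintype.card_bool] at this
    omega
  obtain ⟨u₁, hu₁, hu₁X, -⟩ := hex 1
  have hle : Nat.card D ≤ 16 * Nat.card F := by
    rw [← hKi u₁ hu₁X]; exact Nat.le_of_dvd Nat.card_pos (card_dvd_of_le (hDK u₁ hu₁))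
  have hF2 : Nat.card F = 2 := by
    by_contra hne
    have h1 : Nat.card F = 1 := by omega
    rw [h1] at hcard hle
    omega
  rw [hF2] at hcard hle hFi hKi
  have hDc : Nat.card D = 32 := by omega
  have hFi2 : F.index = 2 := by omega
  have hDe : ∀ u ∈ C, u ∉ X → D = F.comap (cphi hXc com u) := fun u hu huX =>
    Subgroup.eq_of_le_of_card_ge (hDK u hu) (by rw [hKi u huX, hDc])
  obtain ⟨v, hv⟩ : ∃ v, v ∉ D := by
    by_contra hcon
    push Not at hcon
    have : D = ⊤ := eq_top_iff.mpr fun v _ => hcon v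
    rw [this, card_top, hP] at hDc
    omega
  obtain ⟨u₂, hu₂, hu₂X, hu₁₂⟩ := hex u₁
  have hn : ∀ u ∈ C, u ∉ X → cphi hXc com u v ∉ F := by
    intro u hu huX hh
    apply hv
    rw [hDe u hu huX]; exact hh
  have e : cphi hXc com (u₁⁻¹ * u₂) v = (cphi hXc com u₁ v)⁻¹ * cphi hXc com u₂ v := by
    apply Subtype.ext
    change ⁅u₁⁻¹ * u₂, v⁆ = ⁅u₁, v⁆⁻¹ * ⁅u₂, v⁆
    rw [cm_left hXc com]
    congr 1
    rw [eq_inv_iff_mul_eq_one, ← cm_left hXc com, inv_mul_cancel, commutatorElement_one_left]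
  have h5 := hn (u₁⁻¹ * u₂) (mul_mem (inv_mem hu₁) hu₂) hu₁₂
  rw [e, mul_mem_iff_of_index_two hFi2, inv_mem_iff] at h5
  exact h5 (iff_of_false (hn u₁ hu₁ hu₁X) (hn u₂ hu₂ hu₂X))

end Abs

variable {K : Type*} [Group K]

/-- `U` is semi-extraspecial with centre `X` -/
structure Semi (U : Subgroup K) : Prop where
  com : ∀ u ∈ U, ∀ v ∈ U, ⁅u, v⁆ ∈ XZ U
  sur : ∀ u ∈ U, u ∉ XZ U → ∀ x ∈ XZ U, ∃ v ∈ U, ⁅u, v⁆ = x

/-- `|U| = 64`, `|X| = 4` -/
theorem KBig.of_semi [Finite K] {U : Subgroup K} (h : Tr U) (hs : Semi U)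
    (hX : Nat.card (XZs U) = 4) (hc : Nat.card U = 64) : KBig U := by
  refine ⟨h.mv, fun α hα2 hαU hαX C hCU hCα => ?_⟩
  by_contra hcon
  push Not at hcon
  obtain ⟨x, hx, hαx⟩ := hαX
  have hXU : XZs U ≤ U := fun x hx => hx.1
  have hxC : x ∉ C := fun hh => hαx (hCα x hh)
  have hX' : Nat.card ((XZs U).subgroupOf U) = 4 := by
    rw [← hX]; exact Nat.card_congr (subgroupOfEquivOfLe hXU).toEquiv
  refine semi_aux ((XZs U).subgroupOf U) ?_ hX' hc ?_ ?_ (C.subgroupOf U) ?_ ?_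
  · intro y hy
    rw [mem_center_iff]
    intro u
    exact Subtype.ext ((mem_subgroupOf.mp hy).2.2 u u.2)
  · intro u v
    exact mem_subgroupOf.mpr (hs.com u u.2 v v.2)
  · intro u hu y hy
    obtain ⟨v, hv, e⟩ := hs.sur u u.2 (fun hh => hu (mem_subgroupOf.mpr hh)) y (mem_subgroupOf.mp hy)
    exact ⟨⟨v, hv⟩, Subtype.ext e⟩
  · have h1 := card_mul_index (C.subgroupOf U)
    rw [hc] at h1
    have h2 : (C.subgroupOf U).index ≤ 4 := hcon
    nlinarith
  · have h1 : Nat.card ((XZs U).subgroupOf U ⊓ C.subgroupOf U : Subgroup U) ∣ 4 := by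
      rw [← hX']; exact card_dvd_of_le inf_le_left
    have h2 : Nat.card ((XZs U).subgroupOf U ⊓ C.subgroupOf U : Subgroup U) ≠ 4 := by
      intro h3
      have h4 : (XZs U).subgroupOf U ⊓ C.subgroupOf U = (XZs U).subgroupOf U :=
        Subgroup.eq_of_le_of_card_ge inf_le_left (by rw [h3, hX'])
      have h5 : (⟨x, hx.1⟩ : U) ∈ (XZs U).subgroupOf U ⊓ C.subgroupOf U := by rw [h4]; exact hx
      exact hxC h5.2
    have h3 := Nat.le_of_dvd (by norm_num) h1
    interval_cases (Nat.card ((XZs U).subgroupOf U ⊓ C.subgroupOf U : Subgroup U)) <;> revert h1 h2 <;> decide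

end Cfsg.Agent.OddHalf.Quat
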