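import Cfsg.Agent.OddHalf.Quat.BigOdd
import Cfsg.Agent.OddHalf.Quat.BigSemi

/-!
# Node Q: `Tr U` from a root subgroup `R` and a 2-group `Q ≥ R` with `C_K(Q) ≤ R`

No description of a Sylow 2-subgroup is needed: for every Sylow 2-subgroup `U ≥ Q` the set `XZ U` is `R`.
-/

set_option autoImplicit false

namespace Cfsg.Agent.OddHalf.Quat

open Subgroup
open scoped commutatorElement

variable {K : Type*} [Group K]

/-- `R` = long root subgroup, `Q` = the 2-radical of its normaliser -/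
structure Loc (R Q : Subgroup K) : Prop where
  /-- `R` is elementary abelian of order `≥ 4` -/
  sq : ∀ x ∈ R, x * x = 1
  two : ∃ x ∈ R, ∃ y ∈ R, x ≠ 1 ∧ y ≠ 1 ∧ x ≠ y
  le : R ≤ Q
  /-- `Q` is a 2-group -/
  pgr : IsPGroup 2 Q
  cent : ∀ g : K, (∀ x ∈ Q, g * x = x * g) → g ∈ R
  ti : ∀ g : K, ∀ x ∈ R, x ≠ 1 → g * x * g⁻¹ ∈ R → ∀ y ∈ R, g * y * g⁻¹ ∈ R
  tr : ∀ x ∈ R, ∀ y ∈ R, x ≠ 1 → y ≠ 1 → ∃ g : K, g * x * g⁻¹ = y
  ab : ∀ g h : K, (∀ y ∈ R, g * y * g⁻¹ ∈ R) → (∀ y ∈ R, h * y * h⁻¹ ∈ R) → ∀ y ∈ R,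
    g * (h * y * h⁻¹) * g⁻¹ = h * (g * y * g⁻¹) * h⁻¹

namespace Loc

variable {R Q U : Subgroup K}

/-- an element which centralises one element of `R#` centralises `R` -/
theorem free (h : Loc R Q) {g : K} {x : K} (hx : x ∈ R) (hx1 : x ≠ 1) (hg : g * x = x * g) {y : K} (hy : y ∈ R) :
    g * y = y * g := by
  rcases eq_or_ne y 1 with rfl | hy1
  · rw [mul_one, one_mul]
  obtain ⟨s, e⟩ := h.tr x hx y hy hx1 hy1
  have e1 : g * x * g⁻¹ = x := by rw [hg]; group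
  have hgR := h.ti g x hx hx1 (by rw [e1]; exact hx)
  have hsR := h.ti s x hx hx1 (by rw [e]; exact hy)
  have h1 := h.ab g s hgR hsR x hx
  rw [e1, e] at h1
  calc g * y = (g * y * g⁻¹) * g := by group
    _ = y * g := by rw [h1]

theorem central [Finite K] (h : Loc R Q) (hU : IsPGroup 2 U) (hQU : Q ≤ U) :
    (∀ z ∈ XZ U, z ∈ R) ∧ ∀ y ∈ R, ∀ u ∈ U, u * y = y * u := by
  have h1 : ∀ z ∈ XZ U, z ∈ R := fun z hz => h.cent z (fun x hx => (hz.2.2 x (hQU hx)).symm)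
  obtain ⟨a, ha, -, -, ha1, -, -⟩ := h.two
  have hne : (⊤ : Subgroup U) ≠ ⊥ := by
    intro hh
    have : (⟨a, hQU (h.le ha)⟩ : U) ∈ (⊤ : Subgroup U) := mem_top _
    rw [hh, mem_bot] at this
    exact ha1 (congrArg Subtype.val this)
  obtain ⟨x₀, -, hx₀, hx₀1⟩ := exists_XZ hU (inferInstance : (⊤ : Subgroup U).Normal) hne
  exact ⟨h1, fun y hy u hu => h.free (h1 x₀ hx₀) hx₀1 (hx₀.2.2 u hu) hy⟩

theorem mem_iff [Finite K] (h : Loc R Q) (hU : IsPGroup 2 U) (hQU : Q ≤ U) (x : K) : x ∈ XZ U ↔ x ∈ R :=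
  ⟨(h.central hU hQU).1 x, fun hx => ⟨hQU (h.le hx), h.sq x hx, (h.central hU hQU).2 x hx⟩⟩

theorem XZs_eq [Finite K] (h : Loc R Q) (hU : IsPGroup 2 U) (hQU : Q ≤ U) : XZs U = R :=
  Subgroup.ext fun x => h.mem_iff hU hQU x

/-- **`Tr U` for every Sylow 2-subgroup `U ≥ Q`** -/
theorem toTr [Finite K] (h : Loc R Q) (U : Sylow 2 K) (hQU : Q ≤ (U : Subgroup K)) : Tr (U : Subgroup K) := by
  have hU : IsPGroup 2 (U : Subgroup K) := U.isPGroup'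
  have hm := h.mem_iff hU hQU
  have hN : ∀ r ∈ normalizer ((U : Subgroup K) : Set K), ∀ y ∈ R, r * y * r⁻¹ ∈ R := fun r hr y hy =>
    (hm _).mp (mem_XZ_conj hr ((hm y).mpr hy))
  refine ⟨?_, ?_, ?_⟩
  · obtain ⟨x, hx, y, hy, h1, h2, h3⟩ := h.two
    exact ⟨x, (hm x).mpr hx, y, (hm y).mpr hy, h1, h2, h3⟩
  · intro x hx y hy hx1 hy1
    have hxR := (hm x).mp hx
    have hyR := (hm y).mp hy
    obtain ⟨g, e⟩ := h.tr x hxR y hyR hx1 hy1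
    have hc : ∀ z ∈ R, z ∈ centralizer ((U : Subgroup K) : Set K) := fun z hz =>
      mem_centralizer_iff.mpr fun u hu => (h.central hU hQU).2 z hz u hu
    obtain ⟨n, hn, e'⟩ := U.conj_eq_normalizer_conj_of_mem_centralizer x g⁻¹ (hc x hxR)
      (by rw [inv_inv, e]; exact hc y hyR)
    rw [inv_inv, e] at e'
    exact ⟨n⁻¹, inv_mem hn, by rw [inv_inv]; exact e'.symm⟩
  · intro r hr s hs x hx
    exact h.ab r s (hN r hr) (hN s hs) x ((hm x).mp hx)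

end Loc

/-- `Tr U` if the involutions of `Z(U)` form the subgroup `R` -/
theorem Tr.of_center [Finite K] (U : Sylow 2 K) {R : Subgroup K} (hm : ∀ x, x ∈ XZ (U : Subgroup K) ↔ x ∈ R)
    (two : ∃ x ∈ R, ∃ y ∈ R, x ≠ 1 ∧ y ≠ 1 ∧ x ≠ y)
    (tr : ∀ x ∈ R, ∀ y ∈ R, x ≠ 1 → y ≠ 1 → ∃ g : K, g * x * g⁻¹ = y)
    (ab : ∀ g h : K, (∀ y ∈ R, g * y * g⁻¹ ∈ R) → (∀ y ∈ R, h * y * h⁻¹ ∈ R) → ∀ y ∈ R,
      g * (h * y * h⁻¹) * g⁻¹ = h * (g * y * g⁻¹) * h⁻¹) : Tr (U : Subgroup K) := by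
  have hN : ∀ r ∈ normalizer ((U : Subgroup K) : Set K), ∀ y ∈ R, r * y * r⁻¹ ∈ R := fun r hr y hy =>
    (hm _).mp (mem_XZ_conj hr ((hm y).mpr hy))
  refine ⟨?_, ?_, ?_⟩
  · obtain ⟨x, hx, y, hy, h1, h2, h3⟩ := two
    exact ⟨x, (hm x).mpr hx, y, (hm y).mpr hy, h1, h2, h3⟩
  · intro x hx y hy hx1 hy1
    obtain ⟨g, e⟩ := tr x ((hm x).mp hx) y ((hm y).mp hy) hx1 hy1
    have hc : ∀ z ∈ XZ (U : Subgroup K), z ∈ centralizer ((U : Subgroup K) : Set K) := fun z hz =>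
      mem_centralizer_iff.mpr fun u hu => hz.2.2 u hu
    obtain ⟨n, hn, e'⟩ := U.conj_eq_normalizer_conj_of_mem_centralizer x g⁻¹ (hc x hx)
      (by rw [inv_inv, e]; exact hc y hy)
    rw [inv_inv, e] at e'
    exact ⟨n⁻¹, inv_mem hn, by rw [inv_inv]; exact e'.symm⟩
  · intro r hr s hs x hx
    exact ab r s (hN r hr) (hN s hs) x ((hm x).mp hx)

/-- there is a Sylow 2-subgroup with `KBig` if `|Q| > 64` -/
theorem exists_kbig [Finite K] {R Q : Subgroup K} (h : Loc R Q) (h64 : 64 < Nat.card Q) :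
    ∃ U : Sylow 2 K, KBig (U : Subgroup K) := by
  obtain ⟨U, hU⟩ := h.pgr.exists_le_sylow
  refine ⟨U, KBig.of_trans U.isPGroup' (lt_of_lt_of_le h64 ?_) (h.toTr U hU)⟩
  exact Nat.le_of_dvd Nat.card_pos (card_dvd_of_le hU)

/-- `|R| = 2 ^ f`, `f` odd -/
theorem exists_kbig_odd [Finite K] {R Q : Subgroup K} (h : Loc R Q) {f : ℕ} (hf : Odd f)
    (hc : Nat.card R = 2 ^ f) : ∃ U : Sylow 2 K, KBig (U : Subgroup K) := by
  obtain ⟨U, hU⟩ := h.pgr.exists_le_sylow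
  exact ⟨U, KBig.of_odd U.isPGroup' (h.toTr U hU) hf (by rw [h.XZs_eq U.isPGroup' hU, hc])⟩

/-- `Q` itself is a Sylow 2-subgroup of order 64, semi-extraspecial with centre `R` of order 4 -/
theorem exists_kbig_semi [Finite K] {R Q : Subgroup K} (h : Loc R Q) (hR : Nat.card R = 4) (hQ : Nat.card Q = 64)
    (hodd : ¬ 2 ∣ Q.index) (hcom : ∀ u ∈ Q, ∀ v ∈ Q, ⁅u, v⁆ ∈ R)
    (hsur : ∀ u ∈ Q, u ∉ R → ∀ x ∈ R, ∃ v ∈ Q, ⁅u, v⁆ = x) : ∃ U : Sylow 2 K, KBig (U : Subgroup K) := by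
  let U : Sylow 2 K := h.pgr.toSylow hodd
  have hQU : Q ≤ (U : Subgroup K) := le_rfl
  have hm := h.mem_iff U.isPGroup' hQU
  refine ⟨U, KBig.of_semi (h.toTr U hQU) ⟨fun u hu v hv => (hm _).mpr (hcom u hu v hv), fun u hu huX x hx => ?_⟩
    (by rw [h.XZs_eq U.isPGroup' hQU, hR]) hQ⟩
  exact hsur u hu (fun hh => huX ((hm u).mpr hh)) x ((hm x).mp hx)

end Cfsg.Agent.OddHalf.Quat
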