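import Cfsg.Agent.OddHalf.Quat.Big

/-!
# Node Q: transport of `KBig` along an isomorphism
-/

set_option autoImplicit false

namespace Cfsg.Agent.OddHalf.Quat

open Subgroup

section Transport

variable {K K' : Type*} [Group K] [Group K']

theorem mem_XZ_map (e : K ≃* K') {U : Subgroup K} {x : K} : e x ∈ XZ (U.map e.toMonoidHom) ↔ x ∈ XZ U := by
  have hm : ∀ y : K, e y ∈ U.map e.toMonoidHom ↔ y ∈ U := fun y => by
    constructor
    · rintro ⟨z, hz, h⟩
      have : z = y := e.injective h
      rwa [← this]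
    · exact fun h => ⟨y, h, rfl⟩
  constructor
  · rintro ⟨h1, h2, h3⟩
    refine ⟨(hm x).mp h1, e.injective (by rw [map_mul, h2, map_one]), fun u hu => e.injective ?_⟩
    rw [map_mul, map_mul]; exact h3 _ ((hm u).mpr hu)
  · rintro ⟨h1, h2, h3⟩
    refine ⟨(hm x).mpr h1, by rw [← map_mul, h2, map_one], ?_⟩
    rintro _ ⟨u, hu, rfl⟩
    change e u * e x = e x * e u
    rw [← map_mul, h3 u hu, map_mul]

/-- transport of `KBig` along an isomorphism -/
theorem KBig.map (e : K ≃* K') {U : Subgroup K} (h : KBig U) : KBig (U.map e.toMonoidHom) := by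
  have hm : ∀ y : K, e y ∈ U.map e.toMonoidHom ↔ y ∈ U := fun y => by
    constructor
    · rintro ⟨z, hz, h⟩
      have : z = y := e.injective h
      rwa [← this]
    · exact fun h => ⟨y, h, rfl⟩
  refine ⟨fun w hw hw1 => ?_, fun α hα2 hαU hαX C hCU hCα => ?_⟩
  · obtain ⟨w, rfl⟩ := e.surjective w
    obtain ⟨r, hr, hrw⟩ := h.mv w (mem_XZ_map e |>.mp hw) (by rintro rfl; exact hw1 (map_one e))
    refine ⟨e r, ?_, fun h => hrw (e.injective (by rw [map_mul, map_mul]; exact h))⟩
    rw [mem_normalizer_iff] at hr ⊢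
    intro y
    obtain ⟨y, rfl⟩ := e.surjective y
    rw [← map_inv, ← map_mul, ← map_mul]
    exact (hm y).trans ((hr y).trans (hm _).symm)
  · let β : MulAut K := (e.trans α).trans e.symm
    have hβ : ∀ y, e (β y) = α (e y) := fun y => e.apply_symm_apply _
    have hβpow : ∀ (k : ℕ) (y : K), e ((β ^ k) y) = (α ^ k) (e y) := by
      intro k
      induction k with
      | zero => intro y; rfl
      | succ k ih => intro y; rw [pow_succ, pow_succ, MulAut.mul_apply, MulAut.mul_apply, ih, hβ]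
    have hβ2 : IsPGroup 2 (zpowers β) := by
      obtain ⟨k, hk⟩ := hα2 ⟨α, mem_zpowers α⟩
      have hk' : α ^ 2 ^ k = 1 := by simpa using congrArg Subtype.val hk
      have hb : β ^ 2 ^ k = 1 := by
        ext y
        apply e.injective
        rw [hβpow, hk']; rfl
      rintro ⟨γ, hγ⟩
      obtain ⟨m, rfl⟩ := hγ
      refine ⟨k, Subtype.ext ?_⟩
      change (β ^ m) ^ 2 ^ k = 1
      rw [← zpow_natCast, ← zpow_mul, mul_comm, zpow_mul, zpow_natCast, hb, one_zpow]
    have hCm : ∀ y : K, y ∈ C.comap e.toMonoidHom ↔ e y ∈ C := fun y => Iff.rfl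
    have h4 := h.act β hβ2 (fun u hu => (hm _).mp (by rw [hβ]; exact hαU _ ((hm u).mpr hu))) (by
        obtain ⟨x, hx, hαx⟩ := hαX
        obtain ⟨x, rfl⟩ := e.surjective x
        exact ⟨x, (mem_XZ_map e).mp hx, fun hh => hαx (by rw [← hβ, hh])⟩)
      (C.comap e.toMonoidHom) (fun y hy => (hm y).mp (hCU hy))
      (fun y hy => e.injective (by rw [hβ]; exact hCα _ hy))
    have : (C.comap e.toMonoidHom).relIndex U = C.relIndex (U.map e.toMonoidHom) := by
      rw [relIndex_comap]
    rwa [this] at h4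

theorem exists_kbig_of_equiv (e : K ≃* K') (h : ∃ U : Sylow 2 K, KBig (U : Subgroup K)) :
    ∃ U : Sylow 2 K', KBig (U : Subgroup K') := by
  obtain ⟨U, hU⟩ := h
  refine ⟨(U.comapOfInjective e.symm.toMonoidHom e.symm.injective (fun x _ => ⟨e x, e.symm_apply_apply x⟩)), ?_⟩
  have : ((U.comapOfInjective e.symm.toMonoidHom e.symm.injective (fun x _ => ⟨e x, e.symm_apply_apply x⟩) :
      Sylow 2 K') : Subgroup K') = (U : Subgroup K).map e.toMonoidHom := by
    ext y
    constructor
    · intro hy; exact ⟨e.symm y, hy, e.apply_symm_apply y⟩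
    · rintro ⟨x, hx, rfl⟩
      change e.symm (e x) ∈ (U : Subgroup K)
      rw [e.symm_apply_apply]; exact hx
  rw [this]
  exact hU.map e

end Transport

end Cfsg.Agent.OddHalf.Quat
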