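import Cfsg.Agent.OddHalf.Quat.Big

/-!
# Node Q: `KBig U` for `|X| = 2 ^ f`, `f` odd

`X = XZ U`. No 2-automorphism of `K` leaving `U` invariant moves an element of `X`: an involution `β` of `X` has
`|C_X(β)|² ≥ |X|`, and `|C_X(β)| - 1` divides `|X| - 1`.
-/

set_option autoImplicit false

namespace Cfsg.Agent.OddHalf.Quat

open Subgroup
open scoped commutatorElement

variable {K : Type*} [Group K]

/-- orbit formula -/
theorem card_conj (A : Subgroup K) (x : K) :
    Nat.card {y : K // ∃ r ∈ A, r * x * r⁻¹ = y} = (centralizer ({x} : Set K)).relIndex A := by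
  let f : A → {y : K // ∃ r ∈ A, r * x * r⁻¹ = y} := fun r => ⟨r * x * r⁻¹, r, r.2, rfl⟩
  have hf : Function.Surjective f := by
    rintro ⟨_, r, hr, rfl⟩; exact ⟨⟨r, hr⟩, rfl⟩
  let C := (centralizer ({x} : Set K)).subgroupOf A
  have hiff : ∀ r s : A, (r : A ⧸ C) = (s : A ⧸ C) ↔ f r = f s := by
    intro r s
    rw [QuotientGroup.eq, mem_subgroupOf, mem_centralizer_singleton_iff, Subtype.ext_iff]
    simp only [coe_mul, coe_inv, f]
    constructor
    · intro h
      calc (r : K) * x * (r : K)⁻¹ = s * (((s : K)⁻¹ * r) * x * ((s : K)⁻¹ * r)⁻¹) * (s : K)⁻¹ := by group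
        _ = s * x * (s : K)⁻¹ := by
          have h' : ((r : K)⁻¹ * s) * x = x * ((r : K)⁻¹ * s) := h
          have : (s : K)⁻¹ * r * x * ((s : K)⁻¹ * r)⁻¹ = x := by
            calc (s : K)⁻¹ * r * x * ((s : K)⁻¹ * r)⁻¹ = ((r : K)⁻¹ * s)⁻¹ * (x * ((r : K)⁻¹ * s)) := by group
              _ = x := by rw [← h']; group
          rw [this]
    · intro h
      calc (r : K)⁻¹ * s * x = (r : K)⁻¹ * (s * x * (s : K)⁻¹) * s := by group
        _ = (r : K)⁻¹ * (r * x * (r : K)⁻¹) * s := by rw [h]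
        _ = x * ((r : K)⁻¹ * s) := by group
  let g : A ⧸ C → {y : K // ∃ r ∈ A, r * x * r⁻¹ = y} := fun q => f q.out
  have hg : ∀ r : A, g (r : A ⧸ C) = f r := fun r => (hiff _ _).mp (Quotient.out_eq _)
  have hbij : Function.Bijective g := by
    constructor
    · intro p q hpq
      have := (hiff p.out q.out).mpr hpq
      rwa [show ((p.out : A) : A ⧸ C) = p from Quotient.out_eq p,
        show ((q.out : A) : A ⧸ C) = q from Quotient.out_eq q] at this
    · intro y
      obtain ⟨r, hr⟩ := hf y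
      exact ⟨r, by rw [hg, hr]⟩
  rw [← Nat.card_eq_of_bijective g hbij]
  rfl

/-- the subgroup of the elements `r` of `N_K(U)` such that `α(r) r⁻¹` centralises `X` -/
def Sg (U : Subgroup K) (α : MulAut K) : Subgroup K where
  carrier := {r | r ∈ normalizer (U : Set K) ∧ ∀ x ∈ XZ U, α (r * x * r⁻¹) = r * α x * r⁻¹}
  one_mem' := ⟨one_mem _, fun x _ => by simp⟩
  mul_mem' := by
    rintro r s ⟨hr, hr'⟩ ⟨hs, hs'⟩
    refine ⟨mul_mem hr hs, fun x hx => ?_⟩
    have h1 := hr' _ (mem_XZ_conj hs hx)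
    rw [hs' x hx] at h1
    calc α (r * s * x * (r * s)⁻¹) = α (r * (s * x * s⁻¹) * r⁻¹) := by congr 1; group
      _ = r * (s * α x * s⁻¹) * r⁻¹ := h1
      _ = r * s * α x * (r * s)⁻¹ := by group
  inv_mem' := by
    rintro r ⟨hr, hr'⟩
    refine ⟨inv_mem hr, fun x hx => ?_⟩
    have hx' : r⁻¹ * x * r⁻¹⁻¹ ∈ XZ U := mem_XZ_conj (inv_mem hr) hx
    have h1 := hr' _ hx'
    have e : r * (r⁻¹ * x * r⁻¹⁻¹) * r⁻¹ = x := by group
    rw [e] at h1
    rw [h1]; group

/-- the fixed points of `α` on `X` -/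
def Fx (U : Subgroup K) (α : MulAut K) : Subgroup K where
  carrier := {x | x ∈ XZ U ∧ α x = x}
  one_mem' := ⟨(XZs U).one_mem, map_one α⟩
  mul_mem' := by rintro a b ⟨ha, ha'⟩ ⟨hb, hb'⟩; exact ⟨(XZs U).mul_mem ha hb, by rw [map_mul, ha', hb']⟩
  inv_mem' := by rintro a ⟨ha, ha'⟩; exact ⟨(XZs U).inv_mem ha, by rw [map_inv, ha']⟩

theorem card_sub_one {P : Type*} [Group P] (A : Subgroup P) [Finite A] :
    Nat.card {y : P // y ∈ A ∧ y ≠ 1} = Nat.card A - 1 := by
  classical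
  have := Fintype.ofFinite A
  have e : {y : P // y ∈ A ∧ y ≠ 1} ≃ {y : A // y ≠ 1} :=
    { toFun := fun y => ⟨⟨y.1, y.2.1⟩, fun h => y.2.2 (congrArg Subtype.val h)⟩
      invFun := fun y => ⟨y.1.1, y.1.2, fun h => y.2 (Subtype.ext h)⟩
      left_inv := fun _ => rfl
      right_inv := fun _ => rfl }
  rw [Nat.card_congr e, Nat.card_eq_fintype_card, Nat.card_eq_fintype_card]
  have := Fintype.card_subtype_compl (fun y : A => y = 1)
  rw [Fintype.card_subtype_eq] at this
  exact this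

theorem Tr.card_dvd [Finite K] {U : Subgroup K} (h : Tr U) {α : MulAut K} {x₀ : K} (hx : x₀ ∈ XZ U) (hx1 : x₀ ≠ 1)
    (hαU : ∀ u ∈ U, α u ∈ U) (hfix : α x₀ = x₀) : (Nat.card (Fx U α) - 1) ∣ (Nat.card (XZs U) - 1) := by
  have hS : Sg U α ≤ normalizer (U : Set K) := fun r hr => hr.1
  -- the condition at one point is enough
  have hmem : ∀ r ∈ normalizer (U : Set K), α (r * x₀ * r⁻¹) = r * x₀ * r⁻¹ → r ∈ Sg U α := by
    intro r hr e
    refine ⟨hr, fun x hxX => ?_⟩
    have hbm : α r * r⁻¹ ∈ normalizer (U : Set K) := mul_mem (aut_mem_normalizer hαU hr) (inv_mem hr)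
    have h1 : α r * r⁻¹ * (r * x₀ * r⁻¹) = (r * x₀ * r⁻¹) * (α r * r⁻¹) := by
      rw [map_mul, map_mul, map_inv, hfix] at e
      calc α r * r⁻¹ * (r * x₀ * r⁻¹) = (α r * x₀ * (α r)⁻¹) * (α r * r⁻¹) := by group
        _ = _ := by rw [e]
    have h2 := h.free hbm (mem_XZ_conj hr hx)
      (fun hh => hx1 (by simpa using congrArg (fun z => r⁻¹ * z * r) hh |>.trans (by group : r⁻¹ * 1 * r = 1) |>
        (by intro hh'; rw [← hh']; group : r⁻¹ * (r * x₀ * r⁻¹) * r = 1 → x₀ = 1))) h1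
      (mem_XZ_conj hr (mem_XZ_aut hαU hxX))
    calc α (r * x * r⁻¹) = α r * r⁻¹ * (r * α x * r⁻¹) * (α r * r⁻¹)⁻¹ := by
          rw [map_mul, map_mul, map_inv]; group
      _ = r * α x * r⁻¹ := by rw [h2]; group
  have hC : centralizer ({x₀} : Set K) ⊓ normalizer (U : Set K) ≤ Sg U α := by
    rintro r ⟨h1, h2⟩
    refine hmem r h2 ?_
    have e : r * x₀ * r⁻¹ = x₀ := by rw [mem_centralizer_singleton_iff.mp h1]; group
    rw [e, hfix]
  have key : (centralizer ({x₀} : Set K)).relIndex (Sg U α) * (Sg U α).relIndex (normalizer (U : Set K)) =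
      (centralizer ({x₀} : Set K)).relIndex (normalizer (U : Set K)) := by
    have h1 := relIndex_mul_relIndex (centralizer ({x₀} : Set K) ⊓ normalizer (U : Set K)) (Sg U α)
      (normalizer (U : Set K)) hC hS
    rw [inf_relIndex_right] at h1
    rw [← h1]
    congr 1
    rw [← inf_relIndex_right, ← inf_relIndex_right (centralizer ({x₀} : Set K) ⊓ normalizer (U : Set K)), inf_assoc,
      inf_eq_right.mpr hS]
  have h1 : (centralizer ({x₀} : Set K)).relIndex (Sg U α) = Nat.card (Fx U α) - 1 := by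
    rw [← card_conj, ← card_sub_one]
    refine Nat.card_congr (Equiv.subtypeEquivRight fun y => ⟨?_, ?_⟩)
    · rintro ⟨r, hr, rfl⟩
      refine ⟨⟨mem_XZ_conj hr.1 hx, by rw [hr.2 x₀ hx, hfix]⟩, fun hh => hx1 ?_⟩
      have : x₀ = r⁻¹ * (r * x₀ * r⁻¹) * r := by group
      rw [this, hh]; group
    · rintro ⟨⟨hy, hy'⟩, hy1⟩
      obtain ⟨r, hr, rfl⟩ := h.tr x₀ hx y hy hx1 hy1
      exact ⟨r, hmem r hr hy', rfl⟩
  have h2 : (centralizer ({x₀} : Set K)).relIndex (normalizer (U : Set K)) = Nat.card (XZs U) - 1 := by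
    rw [← card_conj, ← card_sub_one]
    refine Nat.card_congr (Equiv.subtypeEquivRight fun y => ⟨?_, ?_⟩)
    · rintro ⟨r, hr, rfl⟩
      refine ⟨mem_XZ_conj hr hx, fun hh => hx1 ?_⟩
      have : x₀ = r⁻¹ * (r * x₀ * r⁻¹) * r := by group
      rw [this, hh]; group
    · rintro ⟨hy, hy1⟩
      exact h.tr x₀ hx y hy hx1 hy1
  rw [← h1, ← h2, ← key]
  exact dvd_mul_right _ _

/-- an involutory automorphism of the elementary abelian group `X` has at least `|X| ^ (1/2)` fixed points -/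
theorem card_le_sq [Finite K] {U : Subgroup K} {β : MulAut K} (hβU : ∀ u ∈ U, β u ∈ U)
    (h2 : ∀ x ∈ XZ U, β (β x) = x) : Nat.card (XZs U) ≤ Nat.card (Fx U β) * Nat.card (Fx U β) := by
  have hcomm : ∀ a ∈ XZ U, ∀ b ∈ XZ U, a * b = b * a := fun a ha b hb => hb.2.2 a ha.1
  let f : XZs U →* XZs U :=
    { toFun := fun x => ⟨x * β x, (XZs U).mul_mem x.2 (mem_XZ_aut hβU x.2)⟩
      map_one' := by ext; simp
      map_mul' := fun x y => by
        ext
        simp only [coe_mul, map_mul]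
        rw [mul_assoc, ← mul_assoc (y : K) (β x), hcomm y y.2 (β x) (mem_XZ_aut hβU x.2)]
        simp only [mul_assoc] }
  have h := card_eq_card_quotient_mul_card_subgroup f.ker
  have hr : Nat.card (XZs U ⧸ f.ker) = Nat.card f.range :=
    Nat.card_congr (QuotientGroup.quotientKerEquivRange f).toEquiv
  rw [hr] at h
  have h3 : Nat.card f.range ≤ Nat.card (Fx U β) := by
    refine Nat.card_le_card_of_injective (fun y => (⟨(y.1 : K), ?_⟩ : Fx U β)) ?_
    · obtain ⟨_, x, rfl⟩ := y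
      refine ⟨(f x).2, ?_⟩
      change β ((x : K) * β x) = x * β x
      rw [map_mul, h2 _ x.2, hcomm _ (mem_XZ_aut hβU x.2) _ x.2]
    · intro y z hyz
      exact Subtype.ext (Subtype.ext (congrArg (fun w : Fx U β => (w : K)) hyz))
  have h4 : Nat.card f.ker ≤ Nat.card (Fx U β) := by
    refine Nat.card_le_card_of_injective (fun y => (⟨(y.1 : K), ?_⟩ : Fx U β)) ?_
    · refine ⟨y.1.2, ?_⟩
      have h5 : (y.1 : K) * β y.1 = 1 := congrArg Subtype.val (MonoidHom.mem_ker.mp y.2)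
      have h6 : (y.1 : K) * y.1 = 1 := y.1.2.2.1
      exact mul_left_cancel (h5.trans h6.symm)
    · intro y z hyz
      exact Subtype.ext (Subtype.ext (congrArg (fun w : Fx U β => (w : K)) hyz))
  rw [h]
  exact Nat.mul_le_mul h3 h4

theorem arith {m f : ℕ} (hmf : m ≤ f) (hf : f ≤ 2 * m) (hd : (2 ^ m - 1) ∣ (2 ^ f - 1)) (hodd : Odd f) : m = f := by
  have e : 2 ^ f - 1 = 2 ^ (f - m) * (2 ^ m - 1) + (2 ^ (f - m) - 1) := by
    have h1 : 2 ^ f = 2 ^ (f - m) * 2 ^ m := by rw [← pow_add]; congr 1; omega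
    have h2 : 1 ≤ 2 ^ (f - m) := Nat.one_le_two_pow
    have h3 : 1 ≤ 2 ^ m := Nat.one_le_two_pow
    rw [h1, Nat.mul_sub, mul_one]
    have : 2 ^ (f - m) ≤ 2 ^ (f - m) * 2 ^ m := Nat.le_mul_of_pos_right _ (by omega)
    omega
  rw [e] at hd
  have hd2 : (2 ^ m - 1) ∣ (2 ^ (f - m) - 1) := (Nat.dvd_add_right (dvd_mul_left _ _)).mp hd
  rcases Nat.eq_zero_or_pos (2 ^ (f - m) - 1) with h0 | h0
  · have h2 : 2 ^ (f - m) = 1 := by
      have : 1 ≤ 2 ^ (f - m) := Nat.one_le_two_pow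
      omega
    have : f - m = 0 := by
      by_contra hne
      have := Nat.one_lt_two_pow hne
      omega
    omega
  · have hle := Nat.le_of_dvd h0 hd2
    have h3 : m ≤ f - m := by
      by_contra hcon
      push Not at hcon
      have := Nat.pow_lt_pow_right (show 1 < 2 by norm_num) hcon
      omega
    have : f = 2 * m := by omega
    rw [this] at hodd
    exact absurd hodd (by simp)

/-- no 2-automorphism moves `X` -/
theorem Tr.fix_of_odd [Finite K] {U : Subgroup K} (hU : IsPGroup 2 U) (h : Tr U) {f : ℕ} (hf : Odd f)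
    (hc : Nat.card (XZs U) = 2 ^ f) {α : MulAut K} (hα2 : IsPGroup 2 (zpowers α)) (hαU : ∀ u ∈ U, α u ∈ U) {x : K}
    (hx : x ∈ XZ U) : α x = x := by
  obtain ⟨n, hn⟩ : ∃ n : ℕ, α ^ 2 ^ n = 1 := by
    obtain ⟨n, hn⟩ := hα2 ⟨α, mem_zpowers α⟩
    exact ⟨n, by simpa using congrArg Subtype.val hn⟩
  have hpow : ∀ k : ℕ, ∀ u ∈ U, (α ^ k) u ∈ U := by
    intro k
    induction k with
    | zero => intro u hu; simpa using hu
    | succ k ih => intro u hu; rw [pow_succ, MulAut.mul_apply]; exact ih _ (hαU u hu)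
  have key : ∀ k : ℕ, k ≤ n → ∀ y ∈ XZ U, (α ^ 2 ^ (n - k)) y = y := by
    intro k
    induction k with
    | zero => intro _ y _; rw [Nat.sub_zero, hn]; rfl
    | succ k ih =>
      intro hk y hy
      have ih' := ih (by omega)
      set β := α ^ 2 ^ (n - (k + 1)) with hβ
      have hβ2 : ∀ z ∈ XZ U, β (β z) = z := by
        intro z hz
        have e : β * β = α ^ 2 ^ (n - k) := by
          rw [hβ, ← pow_add]; congr 1
          have : n - k = (n - (k + 1)) + 1 := by omega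
          rw [this, pow_succ]; ring
        rw [← MulAut.mul_apply, e]; exact ih' z hz
      have hβU : ∀ u ∈ U, β u ∈ U := hpow _
      have hβ2' : IsPGroup 2 (zpowers β) := by
        refine hα2.to_le ?_
        rw [zpowers_le, hβ]; exact pow_mem (mem_zpowers α) _
      obtain ⟨a, ha, -, -, ha1, -, -⟩ := h.two
      obtain ⟨x₀, hx₀, hx₀1, hfix⟩ := exists_fix_aut hU ⟨a, ha, ha1⟩ hβ2' hβU
      have hd := h.card_dvd hx₀ hx₀1 hβU hfix
      have hle := card_le_sq hβU hβ2
      have hFX : Fx U β ≤ XZs U := fun z hz => hz.1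
      have hpX : IsPGroup 2 (XZs U) := hU.to_le (fun x hx => hx.1)
      have hpF : IsPGroup 2 (Fx U β) := hpX.to_le hFX
      obtain ⟨m, hm⟩ := IsPGroup.iff_card.mp hpF
      rw [hm, hc] at hd
      rw [hm, hc, ← pow_add] at hle
      have h1 : f ≤ m + m := (Nat.pow_le_pow_iff_right (by norm_num)).mp hle
      have h2 : m ≤ f := by
        have := Nat.le_of_dvd Nat.card_pos (card_dvd_of_le hFX)
        rw [hm, hc] at this
        exact (Nat.pow_le_pow_iff_right (by norm_num)).mp this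
      have h3 := arith h2 (by omega) hd hf
      have h4 : Fx U β = XZs U := Subgroup.eq_of_le_of_card_ge hFX (by rw [hm, hc, h3])
      have h5 : y ∈ Fx U β := by rw [h4]; exact hy
      exact h5.2
  have := key n le_rfl x hx
  simpa using this

/-- `|X| = 2 ^ f`, `f` odd -/
theorem KBig.of_odd [Finite K] {U : Subgroup K} (hU : IsPGroup 2 U) (h : Tr U) {f : ℕ} (hf : Odd f)
    (hc : Nat.card (XZs U) = 2 ^ f) : KBig U := by
  refine ⟨h.mv, fun α hα2 hαU hαX C hCU hCα => ?_⟩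
  obtain ⟨x, hx, hαx⟩ := hαX
  exact absurd (h.fix_of_odd hU hf hc hα2 hαU hx) hαx

end Cfsg.Agent.OddHalf.Quat
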