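import Cfsg.Agent.OddHalf.Quat.Node
import Cfsg.Agent.OddHalf.Main
import Cfsg.Agent.OddHalf.D9.Cut

/-!
# Node Q: quaternion Sylow 2-subgroups of `C(K)`

`Iface.NodeQ` : if `K` is standard and `m₂(C(K)) ≤ 1` then `C(K)` has cyclic Sylow 2-subgroups (no maximality, any
centre).

`nodeQ_of` : `NodeQ` from

* `NotOne` : `|Om(S)| = 1` does not occur (THEOREM N1);
* `Simple0` : the facts on `K`, `Z(K) = 1`;
* `Even0` : `Z(K) ≠ 1`, characteristic 2 or sporadic;
* the listed statements, `U2`, `D5cover`.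
-/

set_option autoImplicit false
set_option linter.style.haveILetI false

namespace Cfsg.Agent.OddHalf.Quat

open Subgroup Cfsg Cfsg.Agent.Cit Cfsg.Agent.OddHalf.Iface

universe u

/-- `|Om(S)| = 1` does not occur -/
def NotOne : Prop :=
  ∀ (G : Type u) [Group G] [Finite G] [IsSimpleGroup G], Ctx G → ∀ (z : G) (Q : Subgroup G), Base0 z Q → ¬ One (cls Q)

/-- the facts on `K`, `Z(K) = 1` -/
def Simple0 : Prop :=
  ∀ (G : Type u) [Group G], Ctx G → ∀ K : Subgroup G, Std0 G K → center ↥K = ⊥ → ¬ Listed K → KGood ↥K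

/-- `Z(K) ≠ 1`, characteristic 2 or sporadic -/
def Even0 : Prop :=
  ∀ (G : Type u) [Group G] [Finite G] [IsSimpleGroup G], Ctx G → ∀ K : Subgroup G, Std0 G K → center ↥K ≠ ⊥ →
    LieTwo (↥K ⧸ center ↥K) ∨ IsSporadicGroup (↥K ⧸ center ↥K) → ¬ Listed K →
    ∀ (z : G) (Q : Subgroup G), Frame z Q K → ¬ One (cls Q) → False

theorem nodeQ_of (hGW : SylowSp4.Hyps.GW.{u}) (Kn : Main.Known.{u}) (d5cover : D5cover.{u}) (u2 : U2.{u})
    (h0 : NotOne.{u}) (h1 : Simple0.{u}) (h2 : Even0.{u}) : NodeQ.{u} := by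
  intro G _ C K S hr
  haveI := C.fin
  haveI := C.simple
  by_contra hc
  obtain ⟨z, Q, f⟩ := exists_frame hGW S C.bal (fun z J hz hJ => C.classical z J hz hJ) hr hc
  have hone := h0 G C z Q f.toBase0
  by_cases hl : Listed K
  · exact ListedOut.listed_false Kn.rows Kn.forms C S hl
  by_cases hz : center ↥K = ⊥
  · exact f.false_good C.na hone hz (h1 G C K S hz hl)
  by_cases ha : IsAlternating (↥K ⧸ center ↥K)
  · exact Main.altCov_false Kn d5cover C S ha hz
  by_cases ho : LieOdd (↥K ⧸ center ↥K)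
  · exact u2 G C K S ho hz ha
  rcases Known.classify S.quo_na S.known with h | h | h | h
  · exact ha h
  · exact ho h
  · exact h2 G C K S hz (Or.inl ⟨h, ha, ho⟩) hl z Q f hone
  · exact h2 G C K S hz (Or.inr h) hl z Q f hone

end Cfsg.Agent.OddHalf.Quat
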