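import Cfsg.Agent.OddHalf.Quat.Tau0
import Cfsg.Agent.OddHalf.Quat.KF

/-!
# Node Q: standard groups with even centre

`Base0.false_three` : no `K ⊴ C(z)` with `C(K) ∩ C(z) = Q` and `NoThree K` (no hypothesis on the centre of `K`, nor on
`Om(S)`).
`Base0.false_sz` : `K` contains `z`, `Out(K)` has odd order and `K` has no quaternion subgroup which avoids the centre.
-/

set_option autoImplicit false

namespace Cfsg.Agent.OddHalf.Quat

open Subgroup Cfsg Cfsg.Agent.Cit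

variable {G : Type*} [Group G]

theorem sq_of_central {Q : Subgroup G} {c v z : G} {n : ℕ} (h : GQ Q c v z n) {x : G} (hx : x ∈ Q)
    (hc : ∀ q ∈ Q, x * q = q * x) : x * x = 1 := by
  rcases h.cov x hx with ⟨i, rfl⟩ | ⟨i, rfl⟩
  · have h1 := hc v h.v_mem
    rw [h.conj_pow] at h1
    have h2 := mul_right_cancel h1
    calc c ^ i * c ^ i = c ^ i * (c ^ i)⁻¹ := by rw [← h2]
      _ = 1 := mul_inv_cancel _
  · exfalso
    have h1 := hc c h.c_mem
    apply h.not_comm
    have h2 : v * c * c ^ i = c * v * c ^ i := by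
      calc v * c * c ^ i = v * (c * c ^ i) := by group
        _ = v * (c ^ i * c) := by rw [← pow_succ', ← pow_succ]
        _ = v * c ^ i * c := by group
        _ = c * v * c ^ i := by rw [h1]; group
    exact mul_right_cancel h2

namespace Base0

variable {z : G} {Q K : Subgroup G} [Finite G]

theorem false_three [IsSimpleGroup G] (hna : ¬ IsMulCommutative G) (b : Base0 z Q)
    (hKn : centralizer {z} ≤ normalizer (K : Set G)) (hKz : K ≤ centralizer {z})
    (hC : centralizer (K : Set G) ⊓ centralizer {z} = Q) (hK : NoThree ↥K) : False := by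
  obtain ⟨c, hc, ⟨k, hck⟩, q, hq, hcq⟩ := b.exists_three hna
  have hcomm : ∀ {x y : G}, x ∈ K → y ∈ Q → x * y = y * x := by
    intro x y hx hy
    rw [← hC] at hy
    exact mem_centralizer_iff.1 hy.1 x hx
  set α : MulAut K := K.normalizerMonoidHom ⟨c, hKn hc⟩ with hα
  have h1 : ∀ (j : ℕ) (β : MulAut K), β ^ 3 ^ j = 1 → β ∈ (MulAut.conj : K →* MulAut K).range := by
    intro j
    induction j with
    | zero =>
      intro β hβ
      rw [pow_zero, pow_one] at hβ
      rw [hβ]; exact one_mem _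
    | succ j ih =>
      intro β hβ
      apply hK
      apply ih
      have h2 : β * β * β = β ^ 3 := by rw [pow_succ, pow_two]
      rw [h2, ← pow_mul, ← pow_succ', hβ]
  obtain ⟨⟨m, hm⟩, hmα⟩ := h1 k α (by
    have h2 : (⟨c, hKn hc⟩ : normalizer (K : Set G)) ^ 3 ^ k = 1 := Subtype.ext hck
    rw [hα, ← map_pow, h2, map_one])
  have h2 : ∀ x ∈ K, c * x * c⁻¹ = m * x * m⁻¹ := by
    intro x hx
    have h3 : (MulAut.conj (⟨m, hm⟩ : K)) ⟨x, hx⟩ = α ⟨x, hx⟩ := by rw [hmα]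
    exact (congrArg Subtype.val h3).symm
  have hp : m⁻¹ * c ∈ Q := by
    rw [← hC]
    refine ⟨mem_centralizer_iff.2 fun x hx => ?_, Subgroup.mul_mem _ (Subgroup.inv_mem _ (hKz hm)) hc⟩
    have h3 := h2 x hx
    calc x * (m⁻¹ * c) = m⁻¹ * (m * x * m⁻¹) * c := by group
      _ = m⁻¹ * (c * x * c⁻¹) * c := by rw [h3]
      _ = m⁻¹ * c * x := by group
  set p := m⁻¹ * c with hpdef
  have hcmp : c = m * p := by rw [hpdef]; group
  have hmp : Commute m p := hcomm hm hp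
  have h4 : m ^ 3 ^ k * p ^ 3 ^ k = 1 := by rw [← hmp.mul_pow, ← hcmp, hck]
  -- `p ^ 3 ^ k ∈ K` commutes with `Q`
  have h5 : p ^ 3 ^ k * q = q * p ^ 3 ^ k := by
    refine hcomm ?_ hq
    have h6 : p ^ 3 ^ k = (m ^ 3 ^ k)⁻¹ := eq_inv_of_mul_eq_one_right h4
    rw [h6]
    exact K.inv_mem (K.pow_mem hm _)
  have h6 : p * q = q * p := by
    obtain ⟨j, hj⟩ := b.two ⟨p, hp⟩
    have hj' : p ^ 2 ^ j = 1 := congrArg Subtype.val hj
    have h9 : Nat.Coprime (3 ^ k) (2 ^ j) := Nat.Coprime.pow _ _ (by norm_num)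
    obtain ⟨s, hs⟩ := exists_pow_eq_self_of_coprime (x := p) (n := 3 ^ k)
      (h9.coprime_dvd_right (orderOf_dvd_of_pow_eq_one hj'))
    have h10 := ((show Commute (p ^ 3 ^ k) q from h5).pow_left s).eq
    rwa [hs] at h10
  apply hcq
  rw [hcmp, mul_assoc, h6, ← mul_assoc, hcomm hm hq, mul_assoc]

theorem eq_of_zz (b : Base0 z Q) {K L : Subgroup G} (hK : K ∈ cls Q) (hL : L ∈ cls Q) (h : zz K = zz L) :
    K = L := by
  obtain ⟨g, rfl⟩ := hK
  obtain ⟨k, rfl⟩ := hL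
  rw [b.hyp.zz_cj (self_mem_cls Q), b.hyp.zz_cj (self_mem_cls Q), b.zz_eq] at h
  have h2 : g⁻¹ * k ∈ centralizer {z} := by
    rw [mem_centralizer_singleton_iff]
    calc g⁻¹ * k * z = g⁻¹ * (k * z * k⁻¹) * k := by group
      _ = g⁻¹ * (g * z * g⁻¹) * k := by rw [h]
      _ = z * (g⁻¹ * k) := by group
  have h3 := mem_normalizer_iff_cj.1 (b.Qn h2)
  rw [cj_mul] at h3
  have h4 := congrArg (cj g) h3
  rw [cj_cj_inv] at h4
  exact h4.symm

theorem inf_eq_one (b : Base0 z Q) {L : Subgroup G} (hL : L ∈ cls Q) (hne : L ≠ Q) {x : G} (hx : x ∈ L)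
    (hxQ : x ∈ Q) : x = 1 := by
  refine b.hyp.eq_one_of_mem hL (b.two_of_mem hL) ?_ hx hxQ
  intro h
  have h1 := b.eq_z h (b.hyp.zz_mul hL) (b.hyp.zz_ne hL)
  exact hne (b.eq_of_zz hL (self_mem_cls Q) (by rw [h1, b.zz_eq]))

theorem false_sz [IsSimpleGroup G] (hna : ¬ IsMulCommutative G) (b : Base0 z Q)
    (hn : ∃ L ∈ cls Q, L ≠ Q ∧ ∀ x ∈ Q, ∀ y ∈ L, x * y = y * x)
    (hKn : centralizer {z} ≤ normalizer (K : Set G)) (hKz : K ≤ centralizer {z})
    (hC : centralizer (K : Set G) ⊓ centralizer {z} = Q) (hzK : z ∈ K)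
    (hout : ¬ 2 ∣ (MulAut.conj : K →* MulAut K).range.index)
    (hno : ∀ P : Subgroup ↥K, (∀ x ∈ P, x ∈ center ↥K → x = 1) → ¬ Nonempty (P ≃* QuaternionGroup 2)) :
    False := by
  obtain ⟨L, hL, hne, hc⟩ := hn
  have h8 := b.card_eight hna
  have hcomm : ∀ {x y : G}, x ∈ K → y ∈ Q → x * y = y * x := by
    intro x y hx hy
    rw [← hC] at hy
    exact mem_centralizer_iff.1 hy.1 x hx
  have hLz : L ≤ centralizer {z} := by
    intro y hy
    rw [mem_centralizer_singleton_iff]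
    exact (hc z b.zQ y hy).symm
  have hrn : (MulAut.conj : K →* MulAut K).range.Normal := by
    refine ⟨?_⟩
    rintro _ ⟨m, rfl⟩ g
    refine ⟨g m, ?_⟩
    ext x
    simp [MulAut.conj_apply]
  have hLK : L ≤ K := by
    intro y hy
    set α : MulAut K := K.normalizerMonoidHom ⟨y, hKn (hLz hy)⟩ with hα
    obtain ⟨j, hj⟩ := (b.two_of_mem hL) ⟨y, hy⟩
    have hj' : y ^ 2 ^ j = 1 := congrArg Subtype.val hj
    have hαj : α ^ 2 ^ j = 1 := by
      have h2 : (⟨y, hKn (hLz hy)⟩ : normalizer (K : Set G)) ^ 2 ^ j = 1 := Subtype.ext hj'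
      rw [hα, ← map_pow, h2, map_one]
    have hαr : α ∈ (MulAut.conj : K →* MulAut K).range := by
      have h3 : orderOf (QuotientGroup.mk' (MulAut.conj : K →* MulAut K).range α) ∣ 2 ^ j := by
        apply orderOf_dvd_of_pow_eq_one
        rw [← map_pow, hαj, map_one]
      have h4 : orderOf (QuotientGroup.mk' (MulAut.conj : K →* MulAut K).range α) ∣
          (MulAut.conj : K →* MulAut K).range.index := by
        rw [Subgroup.index_eq_card]
        exact orderOf_dvd_natCard _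
      have h5 : Nat.Coprime (2 ^ j) (MulAut.conj : K →* MulAut K).range.index :=
        Nat.Coprime.pow_left _ ((Nat.Prime.coprime_iff_not_dvd Nat.prime_two).2 hout)
      have h6 := orderOf_eq_one_iff.1 (Nat.eq_one_of_dvd_coprimes h5 h3 h4)
      exact (QuotientGroup.eq_one_iff α).1 h6
    obtain ⟨⟨m, hm⟩, hmα⟩ := hαr
    have h2 : ∀ x ∈ K, y * x * y⁻¹ = m * x * m⁻¹ := by
      intro x hx
      have h3 : (MulAut.conj (⟨m, hm⟩ : K)) ⟨x, hx⟩ = α ⟨x, hx⟩ := by rw [hmα]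
      exact (congrArg Subtype.val h3).symm
    have hp : m⁻¹ * y ∈ Q := by
      rw [← hC]
      refine ⟨mem_centralizer_iff.2 fun x hx => ?_, Subgroup.mul_mem _ (Subgroup.inv_mem _ (hKz hm)) (hLz hy)⟩
      have h3 := h2 x hx
      calc x * (m⁻¹ * y) = m⁻¹ * (m * x * m⁻¹) * y := by group
        _ = m⁻¹ * (y * x * y⁻¹) * y := by rw [h3]
        _ = m⁻¹ * y * x := by group
    -- `p = m⁻¹ y` commutes with `Q`
    have hpQ : ∀ q ∈ Q, m⁻¹ * y * q = q * (m⁻¹ * y) := by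
      intro q hq
      have h3 : m⁻¹ * q = q * m⁻¹ := hcomm (K.inv_mem hm) hq
      rw [mul_assoc, ← hc q hq y hy, ← mul_assoc, h3, mul_assoc]
    obtain ⟨c, v, z', n, hg⟩ := exists_gq b.gq
    have hpz : m⁻¹ * y = 1 ∨ m⁻¹ * y = z := by
      by_cases h3 : m⁻¹ * y = 1
      · exact Or.inl h3
      right
      refine b.eq_z hp ?_ h3
      exact sq_of_central hg hp hpQ
    rcases hpz with h3 | h3
    · have h4 : y = m := by rw [← inv_mul_eq_one]; rw [← inv_inv (y⁻¹ * m), mul_inv_rev, inv_inv, h3, inv_one]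
      rw [h4]; exact hm
    · have h4 : y = m * z := by rw [← h3]; group
      rw [h4]; exact K.mul_mem hm hzK
  refine hno (L.subgroupOf K) ?_ ?_
  · intro x hx hxc
    rw [mem_subgroupOf] at hx
    have h3 : (x : G) ∈ Q := by
      rw [← hC]
      refine ⟨mem_centralizer_iff.2 fun y hy => ?_, hKz x.2⟩
      exact congrArg Subtype.val (mem_center_iff.1 hxc ⟨y, hy⟩)
    exact Subtype.ext (b.inf_eq_one hL hne hx h3)
  · obtain ⟨g, rfl⟩ := hL
    obtain ⟨e⟩ := b.equiv_quat h8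
    exact ⟨((subgroupOfEquivOfLe hLK).trans (cjEquiv g Q).symm).trans e⟩

end Base0

end Cfsg.Agent.OddHalf.Quat
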