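import Cfsg.Agent.OddHalf.Quat.NoThreeTools

/-!
# Node Q, even centre: tools

* `NoThree.of_quot` : `K` perfect, `Out(K / Z(K))` without elements of order 3 implies `Out(K)` without elements of
  order 3;
* `odd_index_of_inner` : all automorphisms of 2-power order inner implies `|Out(K)|` odd;
* `NoThree.of_two` : any two automorphisms which are not inner have an inner product (`|Out(K)| ≤ 2`).
-/

set_option autoImplicit false

open scoped commutatorElement

namespace Cfsg.Agent.OddHalf.Quat

open Subgroup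

namespace EvenTools

variable {K : Type*} [Group K]

/-- the automorphism of `K / Z(K)` -/
def ind (α : MulAut K) : MulAut (K ⧸ center K) :=
  QuotientGroup.congr (center K) (center K) α (characteristic_iff_map_eq.mp inferInstance α)

theorem ind_mk (α : MulAut K) (x : K) : ind α (QuotientGroup.mk x) = QuotientGroup.mk (α x) := rfl

/-- an automorphism of a perfect group which is trivial modulo the centre is trivial -/
theorem eq_of_mod_center (hp : commutator K = ⊤) (β : MulAut K) (h : ∀ x, β x * x⁻¹ ∈ center K) : β = 1 := by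
  let f : K →* center K :=
    { toFun := fun x => ⟨β x * x⁻¹, h x⟩
      map_one' := by
        apply Subtype.ext
        simp
      map_mul' := by
        intro x y
        apply Subtype.ext
        show β (x * y) * (x * y)⁻¹ = β x * x⁻¹ * (β y * y⁻¹)
        have h1 := mem_center_iff.1 (h y) x⁻¹
        calc β (x * y) * (x * y)⁻¹ = β x * (β y * y⁻¹) * x⁻¹ := by rw [map_mul]; group
          _ = β x * (x⁻¹ * (β y * y⁻¹)) := by rw [h1, mul_assoc]
          _ = β x * x⁻¹ * (β y * y⁻¹) := by group }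
  have hf : ∀ x, f x = 1 := by
    intro x
    have h1 : x ∈ _root_.commutator K := by rw [hp]; exact mem_top x
    rw [← MonoidHom.mem_ker]
    refine (show _root_.commutator K ≤ f.ker from ?_) h1
    rw [_root_.commutator_def, Subgroup.commutator_le]
    intro a _ b _
    rw [MonoidHom.mem_ker, map_commutatorElement, commutatorElement_eq_one_iff_mul_comm]
    exact Subtype.ext ((mem_center_iff.1 (f b).2 _))
  ext x
  have h3 := congrArg Subtype.val (hf x)
  have h4 : β x * x⁻¹ = 1 := h3
  rw [MulAut.one_apply]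
  exact mul_inv_eq_one.1 h4

end EvenTools

open EvenTools in
/-- `K` perfect -/
theorem NoThree.of_quot {K : Type*} [Group K] (hp : commutator K = ⊤) (h : NoThree (K ⧸ center K)) : NoThree K := by
  intro α hα
  obtain ⟨m, hm⟩ := hα
  obtain ⟨k', hk'⟩ := h (ind α) ⟨(m : K ⧸ center K), by
    ext x'
    obtain ⟨x, rfl⟩ := QuotientGroup.mk_surjective x'
    have h1 : m * x * m⁻¹ = α (α (α x)) := by
      have := congrArg (fun f : MulAut K => f x) hm
      simpa using this
    show ((m : K ⧸ center K)) * (x : K ⧸ center K) * ((m : K ⧸ center K))⁻¹ = ind α (ind α (ind α (QuotientGroup.mk x)))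
    rw [ind_mk, ind_mk, ind_mk, ← h1]
    rfl⟩
  obtain ⟨k, rfl⟩ := QuotientGroup.mk_surjective k'
  refine ⟨k, ?_⟩
  have h2 : (MulAut.conj k)⁻¹ * α = 1 := by
    apply eq_of_mod_center hp
    intro x
    have h3 : ((k : K ⧸ center K)) * (x : K ⧸ center K) * ((k : K ⧸ center K))⁻¹ = ((α x : K) : K ⧸ center K) := by
      have := congrArg (fun f : MulAut (K ⧸ center K) => f (QuotientGroup.mk x)) hk'
      exact this
    have h4 : ((MulAut.conj k)⁻¹ * α) x = k⁻¹ * α x * k := by
      rw [MulAut.mul_apply, ← map_inv, MulAut.conj_apply, inv_inv]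
    rw [h4, ← QuotientGroup.eq_one_iff]
    show ((k : K ⧸ center K))⁻¹ * ((α x : K) : K ⧸ center K) * (k : K ⧸ center K) * (x : K ⧸ center K)⁻¹ = 1
    rw [← h3]
    group
  calc MulAut.conj k = MulAut.conj k * 1 := (mul_one _).symm
    _ = MulAut.conj k * ((MulAut.conj k)⁻¹ * α) := by rw [h2]
    _ = α := by rw [← mul_assoc, mul_inv_cancel, one_mul]

/-- any two automorphisms which are not inner have an inner product -/
theorem NoThree.of_two {K : Type*} [Group K]
    (h : ∀ α β : MulAut K, (∀ x, α ≠ MulAut.conj x) → (∀ x, β ≠ MulAut.conj x) → ∃ x : K, α * β = MulAut.conj x) :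
    NoThree K := by
  intro α hα
  by_contra hn
  have h1 : ∀ x, α ≠ MulAut.conj x := fun x hx => hn ⟨x, hx.symm⟩
  obtain ⟨x, hx⟩ := h α α h1 h1
  obtain ⟨y, hy⟩ := hα
  apply h1 (x⁻¹ * y)
  rw [map_mul, map_inv, hy, hx]
  group

/-- the quotient of two outer automorphisms is inner -/
theorem NoThree.of_mul_inv {K : Type*} [Group K]
    (h : ∀ a b : MulAut K, (∀ u, a ≠ MulAut.conj u) → (∀ u, b ≠ MulAut.conj u) → ∃ u : K, b * a⁻¹ = MulAut.conj u) :
    NoThree K := by
  apply NoThree.of_two
  intro α β hα hβ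
  obtain ⟨u, hu⟩ := h β⁻¹ α (by
    intro u hu
    apply hβ u⁻¹
    rw [map_inv, ← hu, inv_inv]) hα
  exact ⟨u, by rw [← hu, inv_inv]⟩

/-- all automorphisms of 2-power order inner: `|Out|` is odd -/
theorem EvenTools.odd_index_of_inner {X : Type*} [Group X] [Finite X]
    (h : ∀ α : MulAut X, (∃ k : ℕ, α ^ 2 ^ k = 1) → ∃ x : X, α = MulAut.conj x) :
    ¬ 2 ∣ ((MulAut.conj : X →* MulAut X).range).index := by
  intro h2
  have hn := NoThree.normal_inn (K := X)
  set N := (MulAut.conj : X →* MulAut X).range with hN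
  have : Finite (MulAut X) := Finite.of_injective (fun e : MulAut X => (e : X → X)) DFunLike.coe_injective
  have : Fact (Nat.Prime 2) := ⟨Nat.prime_two⟩
  obtain ⟨a, ha⟩ := exists_prime_orderOf_dvd_card' (G := MulAut X ⧸ N) 2 h2
  obtain ⟨α, rfl⟩ := QuotientGroup.mk_surjective a
  obtain ⟨k, m, hm, hkm⟩ := Nat.exists_eq_two_pow_mul_odd (orderOf_pos α).ne'
  have h3 : (α ^ m) ^ 2 ^ k = 1 := by
    rw [← pow_mul, mul_comm, ← hkm, pow_orderOf_eq_one]
  obtain ⟨x, hx⟩ := h _ ⟨k, h3⟩
  have h4 : ((α : MulAut X ⧸ N)) ^ m = 1 := by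
    rw [← QuotientGroup.mk_pow, QuotientGroup.eq_one_iff]
    exact ⟨x, hx.symm⟩
  have h5 := orderOf_dvd_of_pow_eq_one h4
  rw [ha] at h5
  exact (Nat.not_even_iff_odd.2 hm) (even_iff_two_dvd.2 h5)

end Cfsg.Agent.OddHalf.Quat
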