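import Cfsg.Agent.OddHalf.D9.EEight.RowFinal
import Cfsg.Agent.OddHalf.Quat.EvenTools

/-!
# Node Q, even centre: `2.Ω₈⁺(2)`

`|Out(2.Ω₈⁺(2))| = 2`.
-/

set_option autoImplicit false

namespace Cfsg.Agent.OddHalf.Quat.EvenO8

open Subgroup Cfsg Cfsg.Agent.OddHalf.D9.EEight

universe u

/-- `W(E₈)'` -/
theorem noThree_K0 : NoThree ↥det.ker := by
  apply NoThree.of_two
  intro α β hα hβ
  obtain ⟨w, hw⟩ := RowFinal.autConj α
  obtain ⟨v, hv⟩ := RowFinal.autConj β
  have key : ∀ (γ : MulAut ↥det.ker) (u : W), (∀ k : ↥det.ker, ((γ k : ↥det.ker) : W) = u * (k : W) * u⁻¹) →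
      det u = 1 → ∃ x : ↥det.ker, γ = MulAut.conj x := by
    intro γ u hu h1
    refine ⟨⟨u, h1⟩, ?_⟩
    ext k
    rw [hu k]
    rfl
  have hdw : det w = -1 := by
    rcases Int.units_eq_one_or (det w) with h | h
    · obtain ⟨x, hx⟩ := key α w hw h
      exact absurd hx (hα x)
    · exact h
  have hdv : det v = -1 := by
    rcases Int.units_eq_one_or (det v) with h | h
    · obtain ⟨x, hx⟩ := key β v hv h
      exact absurd hx (hβ x)
    · exact h
  refine key (α * β) (w * v) (fun k => ?_) (by rw [map_mul, hdw, hdv]; rfl)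
  have h1 : ((α (β k) : ↥det.ker) : W) = w * ((β k : ↥det.ker) : W) * w⁻¹ := hw (β k)
  have h2 : ((β k : ↥det.ker) : W) = v * (k : W) * v⁻¹ := hv k
  rw [MulAut.mul_apply, h1, h2]
  group

/-- **`2.Ω₈⁺(2)`** -/
theorem noThree {K : Type u} [Group K] [Finite K] (hp : commutator K = ⊤)
    (h : D9.Cut.Two (fun X _ => D9.Cut.XO82 X) K) : NoThree K := by
  obtain ⟨e⟩ := RowFinal.ident K inferInstance hp h.1 h.2
  exact NoThree.congr e noThree_K0

end Cfsg.Agent.OddHalf.Quat.EvenO8
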