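import Cfsg.Agent.OddHalf.Quat.EvenSz
import Cfsg.Agent.GH.Cov.SzCover
import Cfsg.Agent.OddHalf.D4.Cut

/-!
# Node Q, even centre: the covers of the Suzuki groups

`K` perfect, `K / Z(K)` a Suzuki group.

* `odd_out` : `|Out(K)|` is odd;
* `no_quat` : a subgroup isomorphic to `Q₈` meets the centre.
-/

set_option autoImplicit false

namespace Cfsg.Agent.OddHalf.Quat.EvenSzCov

open Subgroup Cfsg Cfsg.Agent.OddHalf.D9.Cut

universe u

theorem xsz_of (X : Type u) [Group X] (h : D4.Cut.XSz8 X) : XSz X := by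
  obtain ⟨F, i1, i2, h1, h2⟩ := h
  exact ⟨F, i1, i2, 1, le_refl 1, by rw [h1]; norm_num, h2⟩

theorem odd_out {K : Type u} [Group K] [Finite K] (hp : commutator K = ⊤) (h : XSz (K ⧸ center K)) :
    ¬ 2 ∣ (MulAut.conj : K →* MulAut K).range.index := by
  obtain ⟨F, _, _, m, hm, hF, ⟨e⟩⟩ := h
  apply EvenTools.odd_index_of_inner
  rintro α ⟨k, hk⟩
  obtain ⟨a, ha⟩ := Cfsg.Agent.GH.Cov.SzCover.exists_inner hp hm hF e α hk
  exact ⟨a, MulEquiv.ext ha⟩

theorem no_quat {K : Type u} [Group K] (h : XSz (K ⧸ center K)) (P : Subgroup K)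
    (hP : ∀ x ∈ P, x ∈ center K → x = 1) : ¬ Nonempty (P ≃* QuaternionGroup 2) := by
  rintro ⟨f⟩
  obtain ⟨F, _, _, m, hm, hF, ⟨e⟩⟩ := h
  refine EvenSz.no_quaternion hm hF e (P.map (QuotientGroup.mk' (center K))) ⟨?_⟩
  have hinj : Function.Injective ((QuotientGroup.mk' (center K)).subgroupMap P) := by
    rw [injective_iff_map_eq_one]
    intro x hx
    have h1 : QuotientGroup.mk' (center K) (x : K) = 1 := congrArg Subtype.val hx
    exact Subtype.ext (hP x x.2 ((QuotientGroup.eq_one_iff (x : K)).1 h1))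
  exact (MulEquiv.ofBijective _ ⟨hinj, (QuotientGroup.mk' (center K)).subgroupMap_surjective P⟩).symm.trans f

end Cfsg.Agent.OddHalf.Quat.EvenSzCov
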