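import Cfsg.Agent.OddHalf.Quat.KF
import Cfsg.Agent.S0813
import Cfsg.Agent.S0265

/-!
# Node Q: `NoThree` for `L₂(p^f)` with `3 ∤ f` and for `Lₙ(2)`
-/

set_option autoImplicit false

namespace Cfsg.Agent.OddHalf.Quat.NoThreeL

open Subgroup

variable {K : Type*} [Group K]

theorem normal_inn : ((MulAut.conj : K →* MulAut K).range).Normal := by
  refine ⟨?_⟩
  rintro _ ⟨g, rfl⟩ φ
  refine ⟨φ g, ?_⟩
  ext x
  show φ g * x * (φ g)⁻¹ = φ (g * φ⁻¹ x * g⁻¹)
  rw [map_mul, map_mul, map_inv]
  congr 2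
  exact (φ.apply_symm_apply x).symm

/-- enough: `3` does not divide `|Out(K)|` -/
theorem noThree_of_index (h : ¬ 3 ∣ ((MulAut.conj : K →* MulAut K).range).index) : NoThree K := by
  intro α hα
  have hn := normal_inn (K := K)
  set N := (MulAut.conj : K →* MulAut K).range with hN
  rw [← QuotientGroup.eq_one_iff (N := N)] at hα ⊢
  have h1 : ((α : MulAut K ⧸ N)) ^ 3 = 1 := by
    rw [pow_three, ← mul_assoc]
    exact hα
  have h2 : orderOf (α : MulAut K ⧸ N) ∣ 3 := orderOf_dvd_of_pow_eq_one h1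
  rcases (Nat.dvd_prime Nat.prime_three).mp h2 with h3 | h3
  · exact orderOf_eq_one_iff.mp h3
  · exfalso
    apply h
    rw [← h3, index]
    exact orderOf_dvd_natCard _

theorem noThree_of_card [Finite K] (hcen : center K = ⊥) {m : ℕ} (hm : ¬ 3 ∣ m)
    (h : Nat.card (MulAut K) = m * Nat.card K) : NoThree K := by
  apply noThree_of_index
  have h1 : Nat.card ↥((MulAut.conj : K →* MulAut K).range) = Nat.card K := by
    refine (Nat.card_congr (MonoidHom.ofInjective ?_).toEquiv).symm
    rw [← MonoidHom.ker_eq_bot_iff, eq_bot_iff]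
    intro x hx
    rw [← hcen, mem_center_iff]
    intro g
    have h2 : MulAut.conj x g = g := by
      rw [(MonoidHom.mem_ker).mp hx]
      rfl
    have h3 : x * g * x⁻¹ = g := h2
    rw [mul_inv_eq_iff_eq_mul] at h3
    exact h3.symm
  have h2 := ((MulAut.conj : K →* MulAut K).range).card_mul_index
  rw [h1, h, mul_comm m] at h2
  rwa [Nat.eq_of_mul_eq_mul_left Nat.card_pos h2]

/-- transport of the number of automorphisms -/
theorem card_mulAut_congr {L : Type*} [Group L] (e : K ≃* L) : Nat.card (MulAut K) = Nat.card (MulAut L) :=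
  Nat.card_congr (MulAut.congr e).toEquiv

theorem card_SL {F : Type*} [Field F] [Fintype F] (n : ℕ) :
    Nat.card (Matrix.SpecialLinearGroup (Fin n) F) =
      Nat.card ↥(center (Matrix.SpecialLinearGroup (Fin n) F)) *
        Nat.card (Matrix.ProjectiveSpecialLinearGroup (Fin n) F) := by
  rw [mul_comm]
  exact Subgroup.card_eq_card_quotient_mul_card_subgroup _

/-- **`L₂(p^f)`, `3 ∤ f`** -/
theorem two {F : Type*} [Field F] [Fintype F] (p f : ℕ) [Fact p.Prime] (hf : 1 ≤ f)
    (hF : Fintype.card F = p ^ f) (h4 : 4 ≤ p ^ f) (h3 : ¬ 3 ∣ f) (hcen : center K = ⊥)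
    (e : K ≃* Matrix.ProjectiveSpecialLinearGroup (Fin 2) F) : NoThree K := by
  haveI : Finite K := Finite.of_equiv _ e.symm.toEquiv
  have h1 := Cfsg.Agent.S0813.result (F := F) p f hf hF 2 le_rfl (fun _ => h4)
  rw [if_pos rfl, one_mul, Cfsg.Agent.S0265.result, card_SL, ← card_mulAut_congr e, ← Nat.card_congr e.toEquiv,
    ← mul_assoc] at h1
  refine noThree_of_card hcen ?_ h1
  intro hd
  rcases (Nat.Prime.dvd_mul Nat.prime_three).mp hd with hd | hd
  · exact h3 hd
  · have h5 : Nat.card ↥(center (Matrix.SpecialLinearGroup (Fin 2) F)) ≤ 2 := by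
      rw [Nat.card_congr (Matrix.SpecialLinearGroup.center_equiv_rootsOfUnity' (0 : Fin 2)).toEquiv,
        Fintype.card_fin]
      exact card_rootsOfUnity F _
    have h6 := Nat.le_of_dvd Nat.card_pos hd
    omega

/-- **`Lₙ(2)`, `n ≥ 3`** -/
theorem linear {F : Type*} [Field F] [Fintype F] (hF : Fintype.card F = 2) {n : ℕ} (hn : 3 ≤ n)
    (hcen : center K = ⊥) (e : K ≃* Matrix.ProjectiveSpecialLinearGroup (Fin n) F) : NoThree K := by
  haveI : Finite K := Finite.of_equiv _ e.symm.toEquiv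
  haveI : Fact (Nat.Prime 2) := ⟨Nat.prime_two⟩
  have h1 := Cfsg.Agent.S0813.result (F := F) 2 1 le_rfl (by rw [hF, pow_one]) n (by omega) (fun h => by omega)
  rw [if_neg (by omega), mul_one, Cfsg.Agent.S0265.result, card_SL, ← card_mulAut_congr e,
    ← Nat.card_congr e.toEquiv, ← mul_assoc] at h1
  refine noThree_of_card hcen ?_ h1
  have h5 : Nat.card ↥(center (Matrix.SpecialLinearGroup (Fin n) F)) = 1 := by
    rw [Nat.card_congr (Matrix.SpecialLinearGroup.center_equiv_rootsOfUnity' (⟨0, by omega⟩ : Fin n)).toEquiv]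
    classical
    have h6 : Fintype.card Fˣ = 1 := by
      rw [Fintype.card_units, hF]
    haveI : Subsingleton Fˣ := Fintype.card_le_one_iff_subsingleton.mp h6.le
    haveI : Subsingleton ↥(rootsOfUnity (Fintype.card (Fin n)) F) := inferInstance
    exact Nat.card_of_subsingleton 1
  rw [h5]
  norm_num

end Cfsg.Agent.OddHalf.Quat.NoThreeL
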