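import Mathlib
import Cfsg.Agent.OddHalf.Quat.NoThreeL
import Cfsg.Agent.KFacts.RgdRigid
import Cfsg.Agent.KFacts.RgdEx
import Cfsg.Agent.Nodes.RGDChev

/-!
# Node Q: `NoThree` for `F₄(2)`, `E₆(2)`, `E₇(2)`, `E₈(2)`

* `noThree_of_pow` : enough: every automorphism has a power prime to 3 which is inner;
* `exists_pow_inn` : root group datum with `|X_{α_i}| = 2`: `α ^ m` is inner if `σ ^ m = 1` for every diagram symmetry;
* `chev` : the Chevalley groups over the field of order 2.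
-/

set_option autoImplicit false
set_option linter.unusedSectionVars false

namespace Cfsg.Agent.OddHalf.Quat.NoThreeE

open CoxeterSystem Cfsg.Agent.ChevalleyStructure.CoxeterGeom Cfsg.Agent.Tits.Roots Cfsg.Agent.Tits.Core
  Cfsg.Agent.Tits.Exchange Cfsg.Agent.Nodes.Reps Cfsg.Agent.Nodes.BNOf Cfsg.Agent.Nodes.StabComb
  Cfsg.Agent.Nodes.Bruhat Cfsg.Agent.Nodes.OppDec Cfsg.Agent.Nodes.LeviDec Cfsg.Agent.Nodes.NormalForm
  Cfsg.Agent.KFacts.RgdOpp Cfsg.Agent.KFacts.RgdAut Cfsg.Agent.KFacts.RgdDiag Cfsg.Agent.KFacts.RgdRigid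
  Cfsg.Agent.KFacts.RgdEx

/-- enough: every automorphism has a power prime to `3` which is inner -/
theorem noThree_of_pow {K : Type*} [Group K] {m : ℕ} (hm : ¬ 3 ∣ m)
    (h : ∀ α : MulAut K, α ^ m ∈ (MulAut.conj : K →* MulAut K).range) : NoThree K := by
  intro α hα
  have h3 : α ^ 3 ∈ (MulAut.conj : K →* MulAut K).range := by
    rw [pow_three, ← mul_assoc]; exact hα
  have h4 : Nat.gcd m 3 = 1 := by
    rw [Nat.gcd_comm]
    exact (Nat.Prime.coprime_iff_not_dvd Nat.prime_three).2 hm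
  have h5 := Nat.gcd_eq_gcd_ab m 3
  rw [h4] at h5
  have h6 : α = (α ^ m) ^ (Nat.gcdA m 3) * (α ^ 3) ^ (Nat.gcdB m 3) := by
    conv_lhs => rw [← zpow_one α]
    rw [← zpow_natCast α m, ← zpow_natCast α 3, ← zpow_mul, ← zpow_mul, ← zpow_add, ← h5]
    rfl
  rw [h6]
  exact mul_mem (zpow_mem (h α) _) (zpow_mem h3 _)

/-- transport -/
theorem noThree_of_equiv {K L : Type*} [Group K] [Group L] (e : K ≃* L) (h : NoThree L) : NoThree K := by
  intro α hα
  obtain ⟨g, hg⟩ := hα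
  have h1 : (MulAut.congr e α) * (MulAut.congr e α) * (MulAut.congr e α) ∈ (MulAut.conj : L →* MulAut L).range := by
    refine ⟨e g, ?_⟩
    rw [← map_mul, ← map_mul, ← hg]
    ext x
    simp [MulAut.congr]
  obtain ⟨y, hy⟩ := h _ h1
  refine ⟨e.symm y, ?_⟩
  ext x
  have h2 := congrArg (fun β => e.symm (β (e x))) hy
  simpa [MulAut.congr] using h2

section rgd

variable {I W Y : Type*} [Fintype I] [DecidableEq I] [Group W] [Group Y] {M : CoxeterMatrix I}
  {cs : CoxeterSystem M W} {A : I → I → ℤ} {h : IsCartan M A} {p : ℕ} {T : Subgroup Y} {n : I → Y}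
  {X : (I → ℤ) → Subgroup Y}

theorem exists_syl (R : RGD cs h p T n X) [Finite W] [Finite Y] [Fact p.Prime] (hG : GG cs h T X = ⊤) :
    ∃ S : Sylow p Y, (S : Subgroup Y) = RGD.Sup X (RGD.Pos cs h) := by
  have hU : IsPGroup p (RGD.Sup X (RGD.Pos cs h)) := R.isPGroup_Upos
  obtain ⟨S, hS⟩ := hU.exists_le_sylow
  exact ⟨S, eq_U R hS (by rw [hG]; exact le_top) S.isPGroup'⟩

theorem exists_pow_inn (R : RGD cs h p T n X) [Finite W] [Finite Y] [Fact p.Prime]
    (hG1 : RGD.Sup X {x | IsRoot cs h x} = ⊤)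
    (hcard : ∀ i, ∀ x ∈ X (sr i), ∀ y ∈ X (sr i), x ≠ 1 → y ≠ 1 → x = y) {m : ℕ}
    (hM : ∀ σ : Equiv.Perm I, (∀ i j, M (σ i) (σ j) = M i j) → σ ^ m = 1) (α : MulAut Y) :
    α ^ m ∈ (MulAut.conj : Y →* MulAut Y).range := by
  have hG : GG cs h T X = ⊤ := GG_eq_top hG1
  have hn := NoThreeL.normal_inn (K := Y)
  -- make `α` fix `U`
  obtain ⟨S, hS⟩ := exists_syl R hG
  obtain ⟨g, hg⟩ := MulAction.exists_smul_eq Y (α • S) S
  have hU : Fix (MulAut.conj g * α) (RGD.Sup X (RGD.Pos cs h)) := by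
    rw [fix_iff, ← hS]
    have h1 := congrArg (fun P : Sylow p Y => (P : Subgroup Y)) hg
    have h2 : ((g • (α • S) : Sylow p Y) : Subgroup Y) =
        ((S : Subgroup Y)).map (MulAut.conj g * α).toMonoidHom := by
      ext x
      constructor
      · rintro ⟨_, ⟨y, hy, rfl⟩, rfl⟩
        exact ⟨y, hy, rfl⟩
      · rintro ⟨y, hy, rfl⟩
        exact ⟨_, ⟨y, hy, rfl⟩, rfl⟩
    rw [← h2]; exact h1
  obtain ⟨u, hu, hU', -, hUN, -, -⟩ := exists_frame R hG hU
  obtain ⟨σ, D⟩ := exists_diag R hG hU' hUN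
  set β := MulAut.conj u * (MulAut.conj g * α) with hβ
  have hσ : σ ^ m = 1 := hM σ fun i j => Diag.matrix R D i j
  have D' : Diag T X (β ^ m) 1 := by rw [← hσ]; exact D.pow m
  have h1 : β ^ m = 1 := by
    apply Diag.eq_one R hG1 D'
    intro i x hx
    by_cases hx1 : x = 1
    · rw [hx1, map_one]
    · apply hcard i _ ((D'.pos i x).2 hx) _ hx _ hx1
      intro h2
      exact hx1 ((β ^ m).injective (by rw [h2, map_one]))
  -- modulo inner automorphisms
  have h2 : ((α : MulAut Y) : MulAut Y ⧸ (MulAut.conj : Y →* MulAut Y).range) = (β : MulAut Y) := by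
    have e1 : ∀ y : Y, ((MulAut.conj y : MulAut Y) : MulAut Y ⧸ (MulAut.conj : Y →* MulAut Y).range) = 1 :=
      fun y => (QuotientGroup.eq_one_iff _).2 (MonoidHom.mem_range.2 ⟨y, rfl⟩)
    rw [hβ, QuotientGroup.mk_mul, QuotientGroup.mk_mul, e1, e1, one_mul, one_mul]
  rw [← QuotientGroup.eq_one_iff, QuotientGroup.mk_pow, h2, ← QuotientGroup.mk_pow, h1, QuotientGroup.mk_one]

end rgd

/-! ### diagram symmetries -/

/-- invariants with fibres of order at most 2 -/
theorem sq_eq_one_of_inv {l : ℕ} {σ : Equiv.Perm (Fin l)} (v : Fin l → ℕ) (hv : ∀ i, v (σ i) = v i)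
    (hf : ∀ i j k, v i = v j → v j = v k → i = j ∨ j = k ∨ i = k) : σ ^ 2 = 1 := by
  ext i
  rw [pow_two, Equiv.Perm.mul_apply, Equiv.Perm.one_apply]
  congr 1
  rcases hf i (σ i) (σ (σ i)) (hv i).symm (hv (σ i)).symm with h | h | h
  · rw [← h, ← h]
  · rw [← σ.injective h, ← σ.injective h]
  · exact h.symm

theorem inv_step {l : ℕ} {M : Fin l → Fin l → ℕ} {σ : Equiv.Perm (Fin l)} (hσ : ∀ i j, M (σ i) (σ j) = M i j)
    {v w : Fin l → ℕ} (hv : ∀ i, v (σ i) = v i) (h : ∀ i, w i = ∑ j, M i j * v j) (i : Fin l) : w (σ i) = w i := by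
  rw [h, h, ← Equiv.sum_comp σ]
  exact Finset.sum_congr rfl fun j _ => by rw [hσ, hv]

theorem sym_F4 (σ : Equiv.Perm (Fin 4)) (hσ : ∀ i j, CoxeterMatrix.F₄ (σ i) (σ j) = CoxeterMatrix.F₄ i j) :
    σ ^ 2 = 1 := by
  have h1 := inv_step (M := fun i j => CoxeterMatrix.F₄ i j) (σ := σ) hσ (v := fun _ => 1) (w := ![8, 10, 10, 8])
    (fun _ => rfl) (by decide +kernel)
  exact sq_eq_one_of_inv _ h1 (by decide +kernel)

theorem sym_E6 (σ : Equiv.Perm (Fin 6)) (hσ : ∀ i j, CoxeterMatrix.E₆ (σ i) (σ j) = CoxeterMatrix.E₆ i j) :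
    σ ^ 2 = 1 := by
  have h1 := inv_step (M := fun i j => CoxeterMatrix.E₆ i j) (σ := σ) hσ (v := fun _ => 1)
    (w := ![12, 12, 13, 14, 13, 12]) (fun _ => rfl) (by decide +kernel)
  have h2 := inv_step (M := fun i j => CoxeterMatrix.E₆ i j) (σ := σ) hσ h1
    (w := ![153, 154, 165, 176, 165, 153]) (by decide +kernel)
  exact sq_eq_one_of_inv _ h2 (by decide +kernel)

theorem sym_E7 (σ : Equiv.Perm (Fin 7)) (hσ : ∀ i j, CoxeterMatrix.E₇ (σ i) (σ j) = CoxeterMatrix.E₇ i j) :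
    σ ^ 2 = 1 := by
  have h1 := inv_step (M := fun i j => CoxeterMatrix.E₇ i j) (σ := σ) hσ (v := fun _ => 1)
    (w := ![14, 14, 15, 16, 15, 15, 14]) (fun _ => rfl) (by decide +kernel)
  have h2 := inv_step (M := fun i j => CoxeterMatrix.E₇ i j) (σ := σ) hσ h1
    (w := ![207, 208, 221, 234, 222, 220, 207]) (by decide +kernel)
  exact sq_eq_one_of_inv _ h2 (by decide +kernel)

theorem sym_E8 (σ : Equiv.Perm (Fin 8)) (hσ : ∀ i j, CoxeterMatrix.E₈ (σ i) (σ j) = CoxeterMatrix.E₈ i j) :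
    σ ^ 2 = 1 := by
  have h1 := inv_step (M := fun i j => CoxeterMatrix.E₈ i j) (σ := σ) hσ (v := fun _ => 1)
    (w := ![16, 16, 17, 18, 17, 17, 17, 16]) (fun _ => rfl) (by decide +kernel)
  have h2 := inv_step (M := fun i j => CoxeterMatrix.E₈ i j) (σ := σ) hσ h1
    (w := ![269, 270, 285, 300, 286, 285, 284, 269]) (by decide +kernel)
  exact sq_eq_one_of_inv _ h2 (by decide +kernel)

/-! ### the Chevalley groups over the field of order 2 -/

section chev

open Cfsg.Lie Cfsg.Agent.Nodes.RGDChev Cfsg.Agent.ChevalleyStructure Cfsg.Agent.ChevalleyStructure.Elts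

universe u

variable {D : ChevalleyDatum} {l : ℕ} {M : CoxeterMatrix (Fin l)} {F : Type u} [Field F] [Fintype F]

theorem chev (hp : IsType D l M) (hF : Fintype.card F = 2)
    (hM : ∀ σ : Equiv.Perm (Fin l), (∀ i j, M (σ i) (σ j) = M i j) → σ ^ 2 = 1) : NoThree ↥(D.group F) := by
  have h2 : Fact (Nat.Prime 2) := ⟨Nat.prime_two⟩
  have hc : CharP F 2 := charP_of_card_eq_prime_pow (f := 1) (by rw [hF, pow_one])
  have hfin := finite_W hp M.toCoxeterSystem
  classical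
  have h01 : ∀ t : F, t = 0 ∨ t = 1 := by
    intro t
    by_contra hcon
    push Not at hcon
    have h3 : ({0, 1, t} : Finset F).card = 3 := Finset.card_eq_three.2
      ⟨0, 1, t, zero_ne_one, Ne.symm hcon.1, Ne.symm hcon.2, rfl⟩
    have h4 := Finset.card_le_univ ({0, 1, t} : Finset F)
    omega
  refine noThree_of_pow (m := 2) (by norm_num) fun α =>
    exists_pow_inn (rgd (K := F) hp M.toCoxeterSystem 2) (G1_eq_top hp M.toCoxeterSystem) ?_ hM α
  intro i
  have key : ∀ x : ↥(D.group F), x ∈ (XV D l F (sr i)).subgroupOf (D.group F) → x ≠ 1 →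
      (x : GL D.Idx F) = xG hp.inList (D.simple i) 1 := by
    intro x hx hx1
    rw [Subgroup.mem_subgroupOf, XV_sr hp, mem_rootSubgroup_iff hp.inList] at hx
    obtain ⟨t, ht⟩ := hx
    rcases h01 t with rfl | rfl
    · exfalso
      apply hx1
      apply Subtype.ext
      rw [ht, xG_zero]
      rfl
    · exact ht
  intro x hx y hy hx1 hy1
  exact Subtype.ext ((key x hx hx1).trans (key y hy hy1).symm)

theorem f4 (hF : Fintype.card F = 2) {K : Type*} [Group K] (e : K ≃* ↥(chevF4.group F)) : NoThree K :=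
  noThree_of_equiv e (chev (M := CoxeterMatrix.F₄) (by simp [IsType, typeList]) hF sym_F4)

theorem e6 (hF : Fintype.card F = 2) {K : Type*} [Group K] (e : K ≃* ↥(chevE6.group F)) : NoThree K :=
  noThree_of_equiv e (chev (M := CoxeterMatrix.E₆) (by simp [IsType, typeList]) hF sym_E6)

theorem e7 (hF : Fintype.card F = 2) {K : Type*} [Group K] (e : K ≃* ↥(chevE7.group F)) : NoThree K :=
  noThree_of_equiv e (chev (M := CoxeterMatrix.E₇) (by simp [IsType, typeList]) hF sym_E7)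

theorem e8 (hF : Fintype.card F = 2) {K : Type*} [Group K] (e : K ≃* ↥(chevE8.group F)) : NoThree K :=
  noThree_of_equiv e (chev (M := CoxeterMatrix.E₈) (by simp [IsType, typeList]) hF sym_E8)

end chev

end Cfsg.Agent.OddHalf.Quat.NoThreeE
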