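import Cfsg.Agent.OddHalf.Quat.KillZ
import Cfsg.Agent.OddHalf.Quat.Tau0

/-!
# Node Q: `|Q| = 8` and a 3-element of `C(z)` acts nontrivially on `Q` (THEOREM TAU)
-/

set_option autoImplicit false

namespace Cfsg.Agent.OddHalf.Quat

open Subgroup Cfsg Cfsg.Agent.Cit

variable {G : Type*} [Group G]

namespace Base

variable {z : G} {Q K₁ : Subgroup G}

theorem base0 (b : Base z Q K₁) : Base0 z Q := ⟨b.zo, b.zQ, b.two, b.gq, b.QC, b.Qn⟩

variable [Finite G]

/-- `|Q| = 8` -/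
theorem card_eight [IsSimpleGroup G] (hna : ¬ IsMulCommutative G) (b : Base z Q K₁) : Nat.card Q = 8 :=
  b.base0.card_eight hna

/-- a 3-element of `C(z)` acts nontrivially on `Q` -/
theorem exists_three [IsSimpleGroup G] (hna : ¬ IsMulCommutative G) (b : Base z Q K₁) :
    ∃ c ∈ centralizer {z}, (∃ k : ℕ, c ^ 3 ^ k = 1) ∧ ∃ q ∈ Q, c * q ≠ q * c :=
  b.base0.exists_three hna

end Base

end Cfsg.Agent.OddHalf.Quat
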