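import Cfsg.Agent.OddHalf.Quat.KillTwo
import Cfsg.Agent.OddHalf.Quat.TauUse

/-!
# Node Q: assembly of the kills

`KGood K` : the K-fact; `Base.false` : no simple group `G` with a frame `Base z Q K₁`, `K₁` good, in which `Q` commutes
with another conjugate of `Q`.
-/

set_option autoImplicit false

namespace Cfsg.Agent.OddHalf.Quat

open Subgroup Cfsg Cfsg.Agent.Cit

/-- what node Q needs to know about the simple group `K` -/
def KGood (K : Type*) [Group K] : Prop :=
  NoThree K ∨ (∃ U : Sylow 2 K, KBig (U : Subgroup K)) ∨ (∃ U : Sylow 2 K, ∃ V, KTwo (U : Subgroup K) V) ∨ KZ K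

variable {G : Type*} [Group G]

namespace Base

variable [Finite G] {z : G} {Q K₁ : Subgroup G}

theorem exists_sylow' (b : Base z Q K₁) (U : Sylow 2 K₁) :
    ∃ S : Sylow 2 G, Q ≤ (S : Subgroup G) ∧ ((S : Subgroup G) ⊓ K₁).subgroupOf K₁ = (U : Subgroup K₁) := by
  have : Fact (Nat.Prime 2) := ⟨Nat.prime_two⟩
  have hU : Syl ((U : Subgroup K₁).map K₁.subtype) K₁ := by
    refine ⟨map_subtype_le _, U.isPGroup'.map _, ?_⟩
    rw [relIndex, subgroupOf, comap_map_eq_self_of_injective K₁.subtype_injective]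
    exact U.not_dvd_index
  obtain ⟨S, -, hQS, hS⟩ := b.exists_sylow hU
  refine ⟨S, hQS, ?_⟩
  rw [hS, subgroupOf, comap_map_eq_self_of_injective K₁.subtype_injective]

/-- **Node Q**, frame form -/
theorem false [IsSimpleGroup G] (hna : ¬ IsMulCommutative G) (b : Base z Q K₁)
    (hn : ∃ L ∈ cls Q, L ≠ Q ∧ ∀ x ∈ Q, ∀ y ∈ L, x * y = y * x) (hK : KGood ↥K₁) : False := by
  have h8 := b.card_eight hna
  rcases hK with h | ⟨U, h⟩ | ⟨U, V, h⟩ | h
  · exact b.kill_three (b.exists_three hna) h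
  · obtain ⟨S, hQS, hS⟩ := b.exists_sylow' U
    rw [← hS] at h
    exact b.kill_big h8 S hQS (b.exists_ne hn S) h
  · obtain ⟨S, hQS, hS⟩ := b.exists_sylow' U
    rw [← hS] at h
    exact b.kill_two h8 S hQS (b.exists_ne hn S) h
  · exact b.kill_z h8 hn h

end Base

end Cfsg.Agent.OddHalf.Quat
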