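import Cfsg.Agent.OddHalf.Quat.Classical
import Cfsg.Agent.OddHalf.Quat.Good
import Cfsg.Agent.OddHalf.Quat.Even
import Cfsg.Agent.OddHalf.Cyc
import Cfsg.Agent.OddHalf.Soft
import Cfsg.Agent.Cit.OneBasic

/-!
# Node Q: from a standard subgroup `K` with quaternion Sylow 2-subgroups of `C(K)` to the frame

`exists_frame` : `Frame z Q K`, `Q = C(K) ∩ C(z)`.
`Frame.false_good` : `Z(K) = 1`, `KGood K`. `Frame.false_three`, `Frame.false_sz` : `Z(K)` arbitrary.
`exists_ne_of_not_one` : if `|Om(S)| ≠ 1`, another conjugate of `Q` commutes with `Q`.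
-/

set_option autoImplicit false
set_option linter.style.haveILetI false

namespace Cfsg.Agent.OddHalf.Quat

open Subgroup Cfsg Cfsg.Agent.Cit Cfsg.Agent.OddHalf.Iface

universe u

/-- the frame of node Q -/
structure Frame {G : Type*} [Group G] (z : G) (Q K : Subgroup G) : Prop extends Base0 z Q where
  Kn : centralizer {z} ≤ normalizer (K : Set G)
  Kz : K ≤ centralizer {z}
  cent : centralizer (K : Set G) ⊓ centralizer {z} = Q
  core : OO K = ⊥

section

variable {G : Type u} [Group G] [Finite G]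

/-- **step (0)** of node Q -/
theorem exists_frame (hGW : SylowSp4.Hyps.GW.{u}) {K : Subgroup G} (S : Std0 G K)
    (hbal : ∀ t : G, orderOf t = 2 → centralizerPPrimeCore 2 t = ⊥)
    (hcl : ∀ (z : G) (J : Subgroup G), orderOf z = 2 → SubOf z J → ¬ Classical ↥J)
    (h : PRankLE 2 1 ↥(centralizer (K : Set G))) (hc : ¬ Cyc K) : ∃ z Q, Frame z Q K := by
  haveI : Fact (Nat.Prime 2) := ⟨Nat.prime_two⟩
  unfold Cyc at hc
  push Not at hc
  obtain ⟨R, hR⟩ := hc
  have hRr : PRankLE 2 1 ↥(R : Subgroup ↥(centralizer (K : Set G))) := OddOrderLocal.Rank.pRankLE_subgroup h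
  obtain ⟨n, ⟨e⟩⟩ : ∃ n : ℕ, Nonempty (↥(R : Subgroup ↥(centralizer (K : Set G))) ≃* QuaternionGroup (2 ^ (n + 1))) := by
    rcases Classification.RankOneCore.cyclic_or_quaternion R.isPGroup' hRr with h1 | ⟨n, ⟨e⟩⟩
    · exact absurd h1 hR
    obtain _ | n := n
    · exfalso
      apply hR
      have h3 : IsCyclic (QuaternionGroup 1) := QuaternionGroup.quaternionGroup_one_isCyclic
      have e' : ↥(R : Subgroup ↥(centralizer (K : Set G))) ≃* QuaternionGroup 1 := e
      exact isCyclic_of_surjective e'.symm e'.symm.surjective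
    · exact ⟨n, ⟨e⟩⟩
  have hne : (R : Subgroup ↥(centralizer (K : Set G))) ≠ ⊥ := by
    intro hb
    have h2 : Nat.card ↥(R : Subgroup ↥(centralizer (K : Set G))) = 1 := by rw [hb, Subgroup.card_bot]
    have h3 := Nat.card_congr e.toEquiv
    have : NeZero (2 ^ (n + 1)) := ⟨by positivity⟩
    rw [h2, Nat.card_eq_fintype_card, QuaternionGroup.card] at h3
    have := Nat.one_le_two_pow (n := n + 1)
    omega
  obtain ⟨z, hzR, hz1, hz2, hzc, -⟩ :=
    Classification.RankOneCore.exists_unique_involution R.isPGroup' hRr hne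
  have hzo : orderOf (z : G) = 2 := by
    rw [Subgroup.orderOf_coe]
    exact orderOf_eq_prime hz2 hz1
  have hCN : centralizer ({(z : G)} : Set G) ≤ normalizer (K : Set G) :=
    (Cfsg.Agent.S1754.result K S.std (z : G) hzo z.2).1
  have hCX : ∀ g ∈ centralizer ({(z : G)} : Set G), ∀ x ∈ centralizer (K : Set G),
      g * x * g⁻¹ ∈ centralizer (K : Set G) := by
    intro g hg x hx
    rw [mem_centralizer_iff] at hx ⊢
    intro k hk
    have h4 := Cyc.mem_normalizer.mp (inv_mem (hCN hg)) k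
    rw [inv_inv] at h4
    have h5 := hx _ (h4.mp hk)
    calc k * (g * x * g⁻¹) = g * ((g⁻¹ * k * g) * x) * g⁻¹ := by group
      _ = g * (x * (g⁻¹ * k * g)) * g⁻¹ := by rw [h5]
      _ = g * x * g⁻¹ * k := by group
  set J : Subgroup G := centralizer (K : Set G) ⊓ centralizer ({(z : G)} : Set G) with hJ
  have hJC : ∀ g ∈ centralizer ({(z : G)} : Set G), ∀ x ∈ J, g * x * g⁻¹ ∈ J := by
    intro g hg x hx
    exact ⟨hCX g hg x hx.1, Subgroup.mul_mem _ (Subgroup.mul_mem _ hg hx.2) (Subgroup.inv_mem _ hg)⟩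
  have hJN : centralizer ({(z : G)} : Set G) ≤ normalizer (J : Set G) := by
    intro g hg
    rw [Cyc.mem_normalizer]
    intro x
    refine ⟨hJC g hg x, fun hx => ?_⟩
    have h4 := hJC g⁻¹ (inv_mem hg) _ hx
    have h5 : g⁻¹ * (g * x * g⁻¹) * g⁻¹⁻¹ = x := by group
    rwa [h5] at h4
  have hzz : (z : G) ∈ centralizer ({(z : G)} : Set G) := mem_centralizer_singleton_iff.mpr rfl
  have hzJ : (z : G) ∈ J := ⟨z.2, hzz⟩
  have hnorm : (J.subgroupOf (centralizer ({(z : G)} : Set G))).Normal :=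
    Subgroup.normal_subgroupOf_of_le_normalizer hJN
  have hRJ : (R : Subgroup ↥(centralizer (K : Set G))).map (centralizer (K : Set G)).subtype ≤ J := by
    rintro _ ⟨r, hr, rfl⟩
    refine ⟨r.2, mem_centralizer_singleton_iff.mpr ?_⟩
    exact (congrArg Subtype.val (hzc r hr)).symm
  have hJr : PRankLE 2 1 ↥J := by
    refine D1.rankLE_of_injective (inclusion (inf_le_left : J ≤ centralizer (K : Set G)))
      (inclusion_injective _) h
  have hJ2 : IsPGroup 2 ↥J :=
    isPGroup_of_classical hGW hzo hzJ inf_le_right hnorm.isSubnormal (hbal _ hzo) hJr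
      (fun L hL => hcl _ L hzo hL)
  obtain ⟨T, ⟨eT⟩⟩ := Cyc.exists_sylow (X := centralizer (K : Set G)) inf_le_left R hRJ
  have hT : (T : Subgroup ↥J) = ⊤ := by
    have h1 : IsPGroup 2 (⊤ : Subgroup ↥J) := hJ2.to_subgroup ⊤
    exact (T.is_maximal' h1 le_top).symm
  have hKz : K ≤ centralizer ({(z : G)} : Set G) := by
    intro k hk
    rw [mem_centralizer_singleton_iff]
    exact mem_centralizer_iff.1 z.2 k hk
  refine ⟨z, J, ⟨⟨hzo, hzJ, hJ2, ⟨n, ⟨?_⟩⟩, inf_le_right, hJN⟩, hCN, hKz, rfl, ?_⟩⟩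
  · exact ((Subgroup.topEquiv.symm.trans (MulEquiv.subgroupCongr hT.symm)).trans eT).trans e
  · have h1 : (K.subgroupOf (centralizer ({(z : G)} : Set G))).Normal :=
      Subgroup.normal_subgroupOf_of_le_normalizer hCN
    rw [OO_def, oddCore_of_sub (hbal _ hzo) hKz h1.isSubnormal, Subgroup.map_bot]

variable {z : G} {Q K : Subgroup G}

/-- if `|Om(S)| ≠ 1`, another conjugate of `Q` commutes with `Q` -/
theorem exists_ne_of_not_one (b : Base0 z Q) (h : ¬ One (cls Q)) :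
    ∃ L ∈ cls Q, L ≠ Q ∧ ∀ x ∈ Q, ∀ y ∈ L, x * y = y * x := by
  by_contra hcon
  push Not at hcon
  apply h
  refine ⟨b.hyp, ?_⟩
  intro S hS K hK L hL
  by_contra hne
  obtain ⟨⟨g, rfl⟩, hK2⟩ := hK
  have hKS : cj g Q ≤ S := by
    have h3 := (syl_inf hS (K := cj g Q) (Om := cls Q) ⟨⟨g, rfl⟩, hK2⟩).eq_of_le inf_le_left le_rfl
      (b.two_of_mem ⟨g, rfl⟩)
    rw [← h3]
    exact inf_le_right
  have hLS : L ≤ S := by
    have h3 := (syl_inf hS hL).eq_of_le inf_le_left le_rfl (b.two_of_mem hL.1)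
    rw [← h3]
    exact inf_le_right
  obtain ⟨x, hx, y, hy, hxy⟩ := hcon (cj g⁻¹ L) (b.hyp.conj L hL.1 g⁻¹) (by
    intro h1
    apply hne
    have h2 := congrArg (cj g) h1
    rw [cj_cj_inv] at h2
    exact h2.symm)
  apply hxy
  have h4 := b.hyp.comm hS (K := cj g Q) ⟨⟨g, rfl⟩, hK2⟩ hL hne (a := g * x * g⁻¹) (b := g * y * g⁻¹)
    ⟨conj_mem_cj hx, hKS (conj_mem_cj hx)⟩ (by
      have h5 : g * y * g⁻¹ ∈ L := by
        have h6 := mem_cj.1 hy
        rwa [inv_inv] at h6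
      exact ⟨h5, hLS h5⟩)
  calc x * y = g⁻¹ * ((g * x * g⁻¹) * (g * y * g⁻¹)) * g := by group
    _ = g⁻¹ * ((g * y * g⁻¹) * (g * x * g⁻¹)) * g := by rw [h4]
    _ = y * x := by group

namespace Frame

/-- the frame for `Z(K) = 1` -/
theorem base (f : Frame z Q K) (hZ : center ↥K = ⊥) : Base z Q K := by
  refine ⟨f.zo, f.zQ, f.two, f.gq, f.Qn, f.Kn, f.cent, ?_, f.core⟩
  intro hzK
  have h1 : (⟨z, hzK⟩ : ↥K) ∈ center ↥K := by
    rw [mem_center_iff]
    intro y
    exact Subtype.ext (mem_centralizer_singleton_iff.1 (f.Kz y.2))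
  rw [hZ, mem_bot] at h1
  exact f.ne_one (congrArg Subtype.val h1)

theorem false_good [IsSimpleGroup G] (hna : ¬ IsMulCommutative G) (f : Frame z Q K) (h1 : ¬ One (cls Q))
    (hZ : center ↥K = ⊥) (hK : KGood ↥K) : False :=
  (f.base hZ).false hna (exists_ne_of_not_one f.toBase0 h1) hK

theorem false_three [IsSimpleGroup G] (hna : ¬ IsMulCommutative G) (f : Frame z Q K) (hK : NoThree ↥K) : False :=
  f.toBase0.false_three hna f.Kn f.Kz f.cent hK

/-- `Z(K) ≤ ⟨z⟩` -/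
theorem center_le (f : Frame z Q K) {x : ↥K} (hx : x ∈ center ↥K) : (x : G) = 1 ∨ (x : G) = z := by
  have hxc : ∀ y ∈ K, y * x = x * y := fun y hy => congrArg Subtype.val (mem_center_iff.1 hx ⟨y, hy⟩)
  have hxQ : (x : G) ∈ Q := by
    rw [← f.cent]
    exact ⟨mem_centralizer_iff.2 hxc, f.Kz x.2⟩
  by_cases h1 : (x : G) = 1
  · exact Or.inl h1
  right
  obtain ⟨c, v, z', n, hg⟩ := exists_gq f.gq
  refine f.eq_z hxQ (sq_of_central hg hxQ fun q hq => ?_) h1
  have h2 : q ∈ centralizer (K : Set G) := by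
    rw [← f.cent] at hq
    exact hq.1
  exact mem_centralizer_iff.1 h2 x x.2

theorem false_sz [IsSimpleGroup G] (hna : ¬ IsMulCommutative G) (f : Frame z Q K) (h1 : ¬ One (cls Q))
    (hZ : center ↥K ≠ ⊥) (hout : ¬ 2 ∣ (MulAut.conj : K →* MulAut K).range.index)
    (hno : ∀ P : Subgroup ↥K, (∀ x ∈ P, x ∈ center ↥K → x = 1) → ¬ Nonempty (P ≃* QuaternionGroup 2)) :
    False := by
  refine f.toBase0.false_sz hna (exists_ne_of_not_one f.toBase0 h1) f.Kn f.Kz f.cent ?_ hout hno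
  obtain ⟨x, hx, hx1⟩ := (Subgroup.ne_bot_iff_exists_ne_one (H := center ↥K)).1 hZ |>.elim fun a ha => (⟨a, a.2, fun h => ha (Subtype.ext h)⟩ : ∃ x ∈ center ↥K, x ≠ 1)
  rcases f.center_le hx with h | h
  · exact absurd (Subtype.ext h) hx1
  · rw [← h]; exact x.2

end Frame

end

end Cfsg.Agent.OddHalf.Quat
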