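import Cfsg.Agent.OddHalf.D9.Cut
import Cfsg.Agent.OddHalf.Quat.Node
import Cfsg.Agent.OddHalf.Quat.EvenO8
import Cfsg.Agent.OddHalf.Quat.EvenSzCov
import Cfsg.Agent.OddHalf.Quat.NoThreeE
import Cfsg.Agent.OddHalf.Quat.NoThreeSpor.M12
import Cfsg.Agent.OddHalf.Quat.NoThreeSpor.M22
import Cfsg.Agent.OddHalf.Quat.NoThreeSpor.J2
import Cfsg.Agent.OddHalf.Quat.NoThreeSpor.Suz
import Cfsg.Agent.OddHalf.Quat.NoThreeSpor.Ru
import Cfsg.Agent.OddHalf.Quat.NoThreeSpor.Co1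

/-!
# Node Q, even centre: the covers

`even_good` : `K` quasisimple with centre of order 2, quotient of Lie type in characteristic 2 or sporadic, not listed:
`2.L₃(4)`, `2.G₂(4)`, a cover of a Suzuki group, or `NoThree K`.
`Frame.false_even` : node Q for `Z(K) ≠ 1`, except for `2.L₃(4)` and `2.G₂(4)`.
-/

set_option autoImplicit false

namespace Cfsg.Agent.OddHalf.Quat

open Subgroup Cfsg Cfsg.Agent.OddHalf.Iface Cfsg.Agent.OddHalf.D9.Cut Cfsg.Agent.Cit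

universe u

theorem even_good (M : Mult.{u}) {G : Type u} [Group G] {K : Subgroup G} (hQ : QsCyc ↥K)
    (hc : Nat.card ↥(center ↥K) = 2)
    (ht : LieTwo (↥K ⧸ center ↥K) ∨ IsSporadicGroup (↥K ⧸ center ↥K)) (hl : ¬ Listed K) :
    Two (fun X _ => XL34 X) ↥K ∨ Two (fun X _ => XG24 X) ↥K ∨ NoThree ↥K ∨ XSz (↥K ⧸ center ↥K) := by
  have := hQ.1
  have hp : commutator ↥K = ⊤ := hQ.2.1.1.commutator_eq_top
  have hz : center ↥K ≠ ⊥ := by
    intro h
    rw [h, card_bot] at hc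
    exact absurd hc (by norm_num)
  have good : NoThree (↥K ⧸ center ↥K) → Two (fun X _ => XL34 X) ↥K ∨ Two (fun X _ => XG24 X) ↥K ∨ NoThree ↥K ∨
      XSz (↥K ⧸ center ↥K) := fun h => Or.inr (Or.inr (Or.inl (NoThree.of_quot hp h)))
  by_cases h2 : Exc2 (↥K ⧸ center ↥K)
  · rcases h2 with h | h | h | h | h | h | h | h | h | h | h | h | h | h
    · obtain ⟨F, i1, i2, h3, h4⟩ := h
      exact absurd (Or.inr (Or.inr (Or.inl ⟨F, i1, i2, h3, hc, h4⟩))) hl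
    · obtain ⟨F, i1, i2, h3, h4⟩ := h
      exact absurd (Or.inr (Or.inl ⟨F, i1, i2, h3, hc, h4⟩)) hl
    · exact Or.inr (Or.inr (Or.inl (EvenO8.noThree hp ⟨hc, h⟩)))
    · exact Or.inr (Or.inl ⟨hc, h⟩)
    · obtain ⟨F, i1, i2, h3, ⟨e⟩⟩ := h
      exact good (NoThreeE.f4 h3 e)
    · obtain ⟨F, i1, i2, h3, h4⟩ := h
      exact absurd (Or.inr (Or.inr (Or.inr (Or.inr (Or.inr (Or.inl ⟨F, i1, i2, h3, hc, h4⟩)))))) hl
    · exact good (NoThreeSpor.m12 h)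
    · exact good (NoThreeSpor.j2 h)
    · exact absurd (Or.inr (Or.inr (Or.inr (Or.inr (Or.inr (Or.inr (Or.inr (Or.inr (Or.inr (Or.inr (Or.inr
        (Or.inr (Or.inr (Or.inl ⟨hc, h⟩)))))))))))))) hl
    · exact good (NoThreeSpor.suz h)
    · exact good (NoThreeSpor.ru h)
    · exact absurd (Or.inr (Or.inr (Or.inr (Or.inr (Or.inl ⟨hc, h⟩))))) hl
    · exact good (NoThreeSpor.co1 h)
    · exact absurd (Or.inr (Or.inr (Or.inr (Or.inr (Or.inr (Or.inr (Or.inr (Or.inl ⟨hc, h⟩)))))))) hl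
  by_cases h4 : Exc4 (↥K ⧸ center ↥K)
  · rcases h4 with h | h
    · exact Or.inl ⟨hc, h⟩
    · exact good (NoThreeSpor.m22 h)
  by_cases hsz : XSz (↥K ⧸ center ↥K)
  · exact Or.inr (Or.inr (Or.inr hsz))
  rcases ht with ht | ht
  · exact absurd (M.lie _ hQ ht h2 h4 hsz) hz
  · exact absurd (M.spor _ hQ ht h2 h4) hz

namespace Frame

variable {G : Type u} [Group G] [Finite G] {z : G} {Q K : Subgroup G}

theorem card_center (f : Frame z Q K) (hZ : center ↥K ≠ ⊥) : Nat.card ↥(center ↥K) = 2 := by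
  obtain ⟨⟨x, hx⟩, hx1⟩ := (Subgroup.ne_bot_iff_exists_ne_one (H := center ↥K)).1 hZ
  have hx1' : (x : G) ≠ 1 := fun h => hx1 (Subtype.ext (Subtype.ext h))
  have hxz : (x : G) = z := (f.center_le hx).resolve_left hx1'
  rw [Nat.card_eq_two_iff]
  refine ⟨1, ⟨x, hx⟩, fun h => hx1 h.symm, ?_⟩
  rw [Set.eq_univ_iff_forall]
  rintro ⟨y, hy⟩
  rcases f.center_le hy with h | h
  · left
    exact Subtype.ext (Subtype.ext h)
  · right
    exact Subtype.ext (Subtype.ext (h.trans hxz.symm))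

theorem qsCyc (f : Frame z Q K) (hZ : center ↥K ≠ ⊥) (hq : IsQuasisimple ↥K) : QsCyc ↥K := by
  have h2 := f.card_center hZ
  have : Fact (Nat.Prime 2) := ⟨Nat.prime_two⟩
  exact ⟨inferInstance, hq, IsPGroup.of_card (n := 1) (by rw [h2, pow_one]), isCyclic_of_prime_card h2⟩

/-- **node Q, `Z(K) ≠ 1`** -/
theorem false_even [IsSimpleGroup G] (M : Mult.{u}) (hna : ¬ IsMulCommutative G) (f : Frame z Q K)
    (h1 : ¬ One (cls Q)) (hZ : center ↥K ≠ ⊥) (hq : IsQuasisimple ↥K)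
    (ht : LieTwo (↥K ⧸ center ↥K) ∨ IsSporadicGroup (↥K ⧸ center ↥K)) (hl : ¬ Listed K)
    (hl3 : ¬ Two (fun X _ => XL34 X) ↥K) (hg2 : ¬ Two (fun X _ => XG24 X) ↥K) : False := by
  rcases even_good M (f.qsCyc hZ hq) (f.card_center hZ) ht hl with h | h | h | h
  · exact hl3 h
  · exact hg2 h
  · exact f.false_three hna h
  · exact f.false_sz hna h1 hZ (EvenSzCov.odd_out hq.1.commutator_eq_top h) (EvenSzCov.no_quat h)

end Frame

end Cfsg.Agent.OddHalf.Quat
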