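import Cfsg.Agent.OddHalf.Table.OutSz8
import Cfsg.Agent.OddHalf.Quat.EvenTools
import Mathlib.GroupTheory.SpecificGroups.Quaternion

/-!
# Node Q, even centre: `Sz(q)`

* `no_quaternion` : `Sz(q)` has no subgroup isomorphic to `Q₈`;
* `odd_out` : `|Out(Sz(q))|` is odd.
-/

set_option autoImplicit false

namespace Cfsg.Agent.OddHalf.Quat.EvenSz

open Subgroup Cfsg.Agent.LieRecognition Cfsg.Agent.StdSz

variable {X : Type*} [Group X] {F : Type*} [Field F]

/-- elements of `T` with the same square differ by an element of square 1 -/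
theorem sq_of_sq_eq (R : ThreePrime.SzRel.Rel X F) {x y : X} (hx : x ∈ R.T) (hy : y ∈ R.T) (h : x * x = y * y) (hx1 : x * x ≠ 1) :
    x * y⁻¹ * (x * y⁻¹) = 1 := by
  obtain ⟨a, b, rfl⟩ := hx
  obtain ⟨c, e, rfl⟩ := hy
  have hy1 : R.u c e * R.u c e ≠ 1 := by rw [← h]; exact hx1
  have ha : a ≠ 0 := fun h0 => hx1 ((R.u_sq_iff a b).2 h0)
  have hc : c ≠ 0 := fun h0 => hy1 ((R.u_sq_iff c e).2 h0)
  rw [R.u_mul_self, R.u_mul_self] at h
  have h1 := (R.u_inj h).2
  have h2 : (a / c) * R.θ (a / c) = 1 := by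
    rw [map_div₀]
    have h3 : R.θ c ≠ 0 := fun h0 => hc (by
      have := congrArg R.θ h0
      rw [R.sq, map_zero] at this
      exact pow_eq_zero_iff (two_ne_zero) |>.1 this)
    field_simp
    linear_combination h1
  have h4 : R.θ (a / c) * (a / c) ^ 2 = 1 := by
    rw [← R.sq, ← map_mul, h2, map_one]
  have h5 : a / c = 1 := by linear_combination (- (a / c)) * h2 + h4
  have h6 : a = c := (div_eq_one_iff_eq hc).1 h5
  subst h6
  rw [R.u_inv, R.u_mul, R.add_self, R.u_mul_self, map_zero, mul_zero, R.u_zero]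

/-- **no subgroup `Q₈`** -/
theorem no_quaternion [Fintype F] {m : ℕ} (hm : 1 ≤ m)
    (hF : Fintype.card F = 2 ^ (2 * m + 1)) (e : X ≃* ↥(Cfsg.Lie.Sz F (2 ^ (m + 1)))) (Q : Subgroup X) :
    ¬ Nonempty (Q ≃* QuaternionGroup 2) := by
  rintro ⟨f⟩
  have := EquivMaps.charP_two hF
  have : Finite X := Finite.of_equiv _ e.symm.toEquiv
  have : Fact (Nat.Prime 2) := ⟨Nat.prime_two⟩
  let R0 : ThreePrime.SzRel.Rel ↥(Cfsg.Lie.Sz F (2 ^ (m + 1))) F :=
    ThreePrime.SzRel.ofGood (SzMatrix.good hF)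
  let R : ThreePrime.SzRel.Rel X F := R0.map e.symm
  obtain ⟨Sy, hSy⟩ := R.exists_sylow_eq hm hF
  have h2 : IsPGroup 2 Q := by
    apply IsPGroup.of_equiv _ f.symm
    apply IsPGroup.of_card (n := 3)
    rw [Nat.card_eq_fintype_card, QuaternionGroup.card]
    norm_num
  obtain ⟨P, hP⟩ := h2.exists_le_sylow
  obtain ⟨g, hg⟩ := MulAction.exists_smul_eq X P Sy
  have h3 : ∀ q : Q, g * (q : X) * g⁻¹ ∈ R.T := by
    intro q
    rw [← hSy, ← hg, Sylow.coe_subgroup_smul]
    exact Subgroup.smul_mem_pointwise_smul (q : X) (MulAut.conj g) _ (hP q.2)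
  let φ : QuaternionGroup 2 →* X := (MulAut.conj g).toMonoidHom.comp (Q.subtype.comp f.symm.toMonoidHom)
  have hφ : Function.Injective φ := (MulAut.conj g).injective.comp (Q.subtype_injective.comp f.symm.injective)
  have hφT : ∀ q, φ q ∈ R.T := fun q => h3 (f.symm q)
  have h4 := sq_of_sq_eq R (hφT (QuaternionGroup.a 1)) (hφT (QuaternionGroup.xa 0)) (by
    rw [← map_mul, ← map_mul]; rfl) (by
    rw [← map_mul, ← map_one φ]
    intro h
    exact absurd (hφ h) (by decide))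
  rw [← map_inv, ← map_mul, ← map_mul, ← map_one φ] at h4
  exact absurd (hφ h4) (by decide)

/-- **`|Out|` is odd** -/
theorem odd_out [Fintype F] {m : ℕ} (hm : 1 ≤ m)
    (hF : Fintype.card F = 2 ^ (2 * m + 1)) (e : X ≃* ↥(Cfsg.Lie.Sz F (2 ^ (m + 1)))) :
    ¬ 2 ∣ ((MulAut.conj : X →* MulAut X).range).index := by
  have : Finite X := Finite.of_equiv _ e.symm.toEquiv
  exact EvenTools.odd_index_of_inner fun α hα => Table.OutSz8.inner hm hF e α hα

end Cfsg.Agent.OddHalf.Quat.EvenSz
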