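import Cfsg.Agent.OddHalf.Quat.KF

/-!
# Node Q: `NoThree`, tools
-/

set_option autoImplicit false

namespace Cfsg.Agent.OddHalf.Quat

open Subgroup

theorem NoThree.normal_inn {K : Type*} [Group K] : ((MulAut.conj : K →* MulAut K).range).Normal := by
  refine ⟨?_⟩
  rintro _ ⟨g, rfl⟩ φ
  refine ⟨φ g, ?_⟩
  ext x
  show φ g * x * (φ g)⁻¹ = φ (g * φ⁻¹ x * g⁻¹)
  rw [map_mul, map_mul, map_inv]
  congr 2
  exact (φ.apply_symm_apply x).symm

/-- enough: `3` does not divide `|Out(K)|` -/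
theorem NoThree.of_index {K : Type*} [Group K] (h : ¬ 3 ∣ ((MulAut.conj : K →* MulAut K).range).index) :
    NoThree K := by
  intro α hα
  have hn := NoThree.normal_inn (K := K)
  set N := (MulAut.conj : K →* MulAut K).range with hN
  rw [← QuotientGroup.eq_one_iff (N := N)] at hα ⊢
  have h1 : ((α : MulAut K ⧸ N)) ^ 3 = 1 := by
    rw [pow_three, ← mul_assoc]
    exact hα
  have h2 : orderOf (α : MulAut K ⧸ N) ∣ 3 := orderOf_dvd_of_pow_eq_one h1
  rcases (Nat.dvd_prime Nat.prime_three).mp h2 with h3 | h3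
  · exact orderOf_eq_one_iff.mp h3
  · exfalso
    apply h
    rw [← h3, index]
    exact orderOf_dvd_natCard _

/-- `α ^ n` inner, `3 ∤ n` -/
theorem NoThree.of_pow_apply {K : Type*} [Group K] {n : ℕ} (hn : ¬ 3 ∣ n) {α : MulAut K}
    (h3 : α * α * α ∈ (MulAut.conj : K →* MulAut K).range)
    (h : α ^ n ∈ (MulAut.conj : K →* MulAut K).range) : α ∈ (MulAut.conj : K →* MulAut K).range := by
  have h3' : α ^ 3 ∈ (MulAut.conj : K →* MulAut K).range := by
    rw [pow_three, ← mul_assoc]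
    exact h3
  have hc : Nat.Coprime 3 n := (Nat.Prime.coprime_iff_not_dvd Nat.prime_three).mpr hn
  have h4 : α ^ ((3 : ℕ) * Nat.gcdA 3 n + n * Nat.gcdB 3 n) = α := by
    rw [← Nat.gcd_eq_gcd_ab, hc.gcd_eq_one, Nat.cast_one, zpow_one]
  rw [← h4, zpow_add, zpow_mul, zpow_mul, zpow_natCast, zpow_natCast]
  exact mul_mem (zpow_mem h3' _) (zpow_mem h _)

/-- all `α ^ n` are inner, `3 ∤ n` -/
theorem NoThree.of_pow {K : Type*} [Group K] {n : ℕ} (hn : ¬ 3 ∣ n)
    (h : ∀ α : MulAut K, α ^ n ∈ (MulAut.conj : K →* MulAut K).range) : NoThree K :=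
  fun α hα => NoThree.of_pow_apply hn hα (h α)

/-- all automorphisms are inner -/
theorem NoThree.of_inner {K : Type*} [Group K] (h : ∀ α : MulAut K, α ∈ (MulAut.conj : K →* MulAut K).range) :
    NoThree K := fun α _ => h α

/-- all automorphisms are inner -/
theorem NoThree.of_inner' {K : Type*} [Group K] (h : ∀ α : MulAut K, ∃ k : K, α = MulAut.conj k) :
    NoThree K := fun α _ => by
  obtain ⟨k, hk⟩ := h α
  exact ⟨k, hk.symm⟩

/-- `|Out(K)|` is a power of 2 -/
theorem NoThree.of_two_pow {K : Type*} [Group K] (h : ∃ n : ℕ, (MulAut.conj : K →* MulAut K).range.index = 2 ^ n) :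
    NoThree K := by
  obtain ⟨n, hn⟩ := h
  apply NoThree.of_index
  rw [hn]
  intro h3
  exact absurd (Nat.prime_three.dvd_of_dvd_pow h3) (by norm_num)

/-- `|Out(K)| ≤ 2` -/
theorem NoThree.of_le_two {K : Type*} [Group K]
    (h : (MulAut.conj : K →* MulAut K).range.index = 1 ∨ (MulAut.conj : K →* MulAut K).range.index = 2) :
    NoThree K := by
  rcases h with h | h
  · exact NoThree.of_two_pow ⟨0, by rw [h, pow_zero]⟩
  · exact NoThree.of_two_pow ⟨1, by rw [h, pow_one]⟩

/-- transport -/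
theorem NoThree.congr {K L : Type*} [Group K] [Group L] (e : K ≃* L) (h : NoThree L) : NoThree K := by
  intro α hα
  obtain ⟨k, hk⟩ := hα
  obtain ⟨l, hl⟩ := h ((e.symm.trans α).trans e) ⟨e k, by
    ext x
    have h1 : k * e.symm x * k⁻¹ = α (α (α (e.symm x))) := by
      have := congrArg (fun f : MulAut K => f (e.symm x)) hk
      simpa using this
    show e k * x * (e k)⁻¹ = e (α (e.symm (e (α (e.symm (e (α (e.symm x))))))))
    rw [e.symm_apply_apply, e.symm_apply_apply, ← h1]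
    simp⟩
  refine ⟨e.symm l, ?_⟩
  ext y
  have h1 : l * e y * l⁻¹ = e (α (e.symm (e y))) := by
    have := congrArg (fun f : MulAut L => f (e y)) hl
    simpa using this
  rw [e.symm_apply_apply] at h1
  have h2 := congrArg e.symm h1
  simpa using h2

end Cfsg.Agent.OddHalf.Quat
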