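import Cfsg.Agent.OddHalf.Quat.NoThreeL
import Cfsg.Agent.OddHalf.Quat.NoThreeTools
import Cfsg.Prelude.Def_Classical
import Cfsg.Agent.StandardComponent.AltAut
import Cfsg.Agent.S0252
import Cfsg.Agent.S0254

/-!
# Node Q: `NoThree` for the alternating groups
-/

set_option autoImplicit false

namespace Cfsg.Agent.OddHalf.Quat

open Subgroup

namespace NoThreeAlt

open Equiv

theorem of_large {m : ℕ} (hm : 5 ≤ m) : NoThree (alternatingGroup (Fin (m + 2))) := by
  apply NoThree.of_pow (n := 2) (by norm_num)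
  intro α
  obtain ⟨σ, hσ⟩ := Cfsg.Agent.StandardComponent.AltAut.exists_conj hm α
  refine ⟨⟨σ * σ, by rw [Equiv.Perm.mem_alternatingGroup, Equiv.Perm.sign_mul, Int.units_mul_self]⟩, ?_⟩
  ext x : 1
  apply Subtype.ext
  rw [pow_two, MulAut.mul_apply, hσ, hσ]
  show (σ * σ) * (x : Perm (Fin (m + 2))) * (σ * σ)⁻¹ = _
  group

theorem center_eq_bot {n : ℕ} (hn : 5 ≤ n) : center (alternatingGroup (Fin n)) = ⊥ := by
  have hs : IsSimpleGroup (alternatingGroup (Fin n)) := alternatingGroup.isSimpleGroup (by simpa using hn)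
  rcases (inferInstance : (center (alternatingGroup (Fin n))).Normal).eq_bot_or_eq_top with h | h
  · exact h
  · exfalso
    have hcomm : ∀ a b : alternatingGroup (Fin n), a * b = b * a := fun a b =>
      (mem_center_iff.mp (h ▸ mem_top b : b ∈ center (alternatingGroup (Fin n))) a)
    have h1 : IsMulCommutative (alternatingGroup (Fin n)) := ⟨⟨hcomm⟩⟩
    have h2 := IsSimpleGroup.comm_iff_isSolvable.1 hcomm
    have h3 : (Nat.card (alternatingGroup (Fin n))).Prime := by
      let _ : CommGroup (alternatingGroup (Fin n)) := { (inferInstance : Group (alternatingGroup (Fin n))) with mul_comm := hcomm }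
      exact IsSimpleGroup.prime_card
    have : Nontrivial (Fin n) := Fin.nontrivial_iff_two_le.mpr (by omega)
    have h4 : 2 * Nat.card (alternatingGroup (Fin n)) = n.factorial := by
      have := two_mul_nat_card_alternatingGroup (α := Fin n)
      rw [this, Nat.card_perm, Nat.card_fin]
    -- `60 ∣ |A_n|`
    have h5 : 120 ∣ n.factorial := Nat.factorial_dvd_factorial hn
    rw [← h4] at h5
    have h6 : 60 ∣ Nat.card (alternatingGroup (Fin n)) := by
      have : 2 * 60 ∣ 2 * Nat.card (alternatingGroup (Fin n)) := h5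
      exact Nat.dvd_of_mul_dvd_mul_left (by norm_num) this
    have h7 : 2 ∣ Nat.card (alternatingGroup (Fin n)) := (by norm_num : 2 ∣ 60).trans h6
    have h8 := (Nat.prime_dvd_prime_iff_eq Nat.prime_two h3).mp h7
    rw [← h8] at h6
    exact absurd h6 (by norm_num)

theorem five : NoThree (alternatingGroup (Fin 5)) := by
  have : Fact (Nat.Prime 2) := ⟨Nat.prime_two⟩
  let _ : Fintype (GaloisField 2 2) := Fintype.ofFinite _
  have hc : Fintype.card (GaloisField 2 2) = 2 ^ 2 := by
    rw [← Nat.card_eq_fintype_card, GaloisField.card 2 2 (by norm_num)]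
  obtain ⟨e⟩ := Cfsg.Agent.S0252.result (F := GaloisField 2 2) (by rw [hc]; norm_num)
  exact NoThreeL.two 2 2 (by norm_num) hc (by norm_num) (by norm_num) (center_eq_bot le_rfl) e.symm

theorem six : NoThree (alternatingGroup (Fin 6)) := by
  have : Fact (Nat.Prime 3) := ⟨Nat.prime_three⟩
  let _ : Fintype (GaloisField 3 2) := Fintype.ofFinite _
  have hc : Fintype.card (GaloisField 3 2) = 3 ^ 2 := by
    rw [← Nat.card_eq_fintype_card, GaloisField.card 3 2 (by norm_num)]
  obtain ⟨e⟩ := Cfsg.Agent.S0254.result (F := GaloisField 3 2) (by rw [hc]; norm_num)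
  exact NoThreeL.two 3 2 (by norm_num) hc (by norm_num) (by norm_num) (center_eq_bot (by norm_num)) e.symm

/-- **the alternating groups** -/
theorem alt {n : ℕ} (hn : 5 ≤ n) : NoThree (alternatingGroup (Fin n)) := by
  by_cases h5 : n = 5
  · subst h5; exact five
  by_cases h6 : n = 6
  · subst h6; exact six
  obtain ⟨m, rfl⟩ : ∃ m, n = m + 2 := ⟨n - 2, by omega⟩
  exact of_large (by omega)

/-- **the alternating groups** -/
theorem row {K : Type*} [Group K] (h : Cfsg.IsAlternating K) : NoThree K := by
  obtain ⟨n, hn, ⟨e⟩⟩ := h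
  exact NoThree.congr e (alt hn)

end NoThreeAlt

end Cfsg.Agent.OddHalf.Quat
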