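import Cfsg.Agent.OddHalf.Quat.Good
import Cfsg.Agent.OddHalf.Quat.NoThreeSpor.B
import Cfsg.Agent.OddHalf.Quat.NoThreeSpor.Co1
import Cfsg.Agent.OddHalf.Quat.NoThreeSpor.Co2
import Cfsg.Agent.OddHalf.Quat.NoThreeSpor.Co3
import Cfsg.Agent.OddHalf.Quat.NoThreeSpor.Fi22
import Cfsg.Agent.OddHalf.Quat.NoThreeSpor.Fi23
import Cfsg.Agent.OddHalf.Quat.NoThreeSpor.Fi24
import Cfsg.Agent.OddHalf.Quat.NoThreeSpor.HN
import Cfsg.Agent.OddHalf.Quat.NoThreeSpor.HS
import Cfsg.Agent.OddHalf.Quat.NoThreeSpor.He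
import Cfsg.Agent.OddHalf.Quat.NoThreeSpor.J1
import Cfsg.Agent.OddHalf.Quat.NoThreeSpor.J2
import Cfsg.Agent.OddHalf.Quat.NoThreeSpor.J3
import Cfsg.Agent.OddHalf.Quat.NoThreeSpor.J4
import Cfsg.Agent.OddHalf.Quat.NoThreeSpor.Ly
import Cfsg.Agent.OddHalf.Quat.NoThreeSpor.M
import Cfsg.Agent.OddHalf.Quat.NoThreeSpor.M11
import Cfsg.Agent.OddHalf.Quat.NoThreeSpor.M12
import Cfsg.Agent.OddHalf.Quat.NoThreeSpor.M22
import Cfsg.Agent.OddHalf.Quat.NoThreeSpor.M23
import Cfsg.Agent.OddHalf.Quat.NoThreeSpor.M24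
import Cfsg.Agent.OddHalf.Quat.NoThreeSpor.McL
import Cfsg.Agent.OddHalf.Quat.NoThreeSpor.ON
import Cfsg.Agent.OddHalf.Quat.NoThreeSpor.Ru
import Cfsg.Agent.OddHalf.Quat.NoThreeSpor.Suz
import Cfsg.Agent.OddHalf.Quat.NoThreeSpor.Th

/-!
# Node Q: the sporadic groups

`noThree_spor`: `NoThree K`, `K` sporadic.
-/

set_option autoImplicit false

namespace Cfsg.Agent.OddHalf.Quat

open Subgroup Cfsg

universe u

open NoThreeSpor in
/-- **Node Q: the sporadic groups** -/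
theorem noThree_spor {K : Type u} [Group K] (hS : IsSporadicGroup K) : NoThree K := by
  rcases hS with e | e | e | e | e | e | e | e | e | e | e | e | e | e | e | e | e | e | e | e |
    e | e | e | e | e | e
  · exact m11 e
  · exact m12 e
  · exact m22 e
  · exact m23 e
  · exact m24 e
  · exact j1 e
  · exact j2 e
  · exact j3 e
  · exact j4 e
  · exact co1 e
  · exact co2 e
  · exact co3 e
  · exact mcl e
  · exact hs e
  · exact suz e
  · exact he e
  · exact ru e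
  · exact on e
  · exact ly e
  · exact fi22 e
  · exact fi23 e
  · exact fi24' e
  · exact hn e
  · exact th e
  · exact b e
  · exact m e

end Cfsg.Agent.OddHalf.Quat
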