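import Cfsg.Agent.OddHalf.Quat.GoodTwo
import Cfsg.Agent.OddHalf.Quat.GoodSpor
import Cfsg.Agent.OddHalf.Quat.NoThreeAlt

/-!
# Node Q: the facts on the simple groups `K`

`good_alt`, `good_two`, `good_spor`: `KGood K` for `K` alternating, of Lie type in characteristic 2, sporadic.
`good_all`: everything except `LieOdd K`.
-/

set_option autoImplicit false

namespace Cfsg.Agent.OddHalf.Quat

open Subgroup Cfsg Cfsg.Agent.OddHalf.Iface Cfsg.Agent.OddHalf.D9.Cut

universe u

theorem good_alt {K : Type u} [Group K] (h : IsAlternating K) : KGood K := .three (NoThreeAlt.row h)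

theorem good_spor {K : Type u} [Group K] (h : IsSporadicGroup K) : KGood K :=
  .three (noThree_spor h)

/-- **Node Q: the simple groups `K`**, from the case `LieOdd K` -/
theorem good_all {G : Type u} [Group G] {K : Subgroup G} (hz : center ↥K = ⊥)
    (hc : IsAlternating ↥K ∨ LieTwo ↥K ∨ IsSporadicGroup ↥K) (hl : ¬ Listed K) : KGood ↥K := by
  rcases hc with h | h | h
  · exact good_alt h
  · exact good_two hz h hl
  · exact good_spor h

end Cfsg.Agent.OddHalf.Quat
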