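import Cfsg.Agent.OddHalf.Quat.NoThreeL
import Cfsg.Agent.OddHalf.Quat.NoThreeE
import Cfsg.Agent.S0814
import Cfsg.Agent.S0815
import Cfsg.Agent.S0816
import Cfsg.Agent.S0818

/-!
# Node Q: `NoThree` for the small groups over the field with three elements

* `lin` : `Lₙ(3)`, `n ≥ 3`; `uni` : `Uₙ(3)`, `n ≥ 3`; `sp` : `PSp₂ₘ(3)`; `odd` : `Ω₂ₘ₊₁(3)`; `minus` : `PΩ⁻₂ₘ(3)`;
* `g2` : `G₂(3)`.
-/

set_option autoImplicit false
set_option linter.unusedSectionVars false

namespace Cfsg.Agent.OddHalf.Quat.NoThreeOdd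

open Subgroup NoThreeL

variable {K : Type*} [Group K]

/-- **`Lₙ(3)`, `n ≥ 3`** -/
theorem lin {F : Type*} [Field F] [Fintype F] (hF : Fintype.card F = 3) {n : ℕ} (hn : 3 ≤ n)
    (hcen : center K = ⊥) (e : K ≃* Matrix.ProjectiveSpecialLinearGroup (Fin n) F) : NoThree K := by
  have : Finite K := Finite.of_equiv _ e.symm.toEquiv
  have : Fact (Nat.Prime 3) := ⟨Nat.prime_three⟩
  have h1 := Cfsg.Agent.S0813.result (F := F) 3 1 le_rfl (by rw [hF, pow_one]) n (by omega) (fun h => by omega)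
  rw [if_neg (by omega), mul_one, Cfsg.Agent.S0265.result, card_SL, ← card_mulAut_congr e,
    ← Nat.card_congr e.toEquiv, ← mul_assoc] at h1
  refine noThree_of_card hcen ?_ h1
  intro hd
  rcases (Nat.Prime.dvd_mul Nat.prime_three).mp hd with hd | hd
  · exact absurd hd (by norm_num)
  · -- `|Z(SL_n(3))|` divides `2`
    rw [Nat.card_congr (Matrix.SpecialLinearGroup.center_equiv_rootsOfUnity' (⟨0, by omega⟩ : Fin n)).toEquiv] at hd
    have h5 : Nat.card ↥(rootsOfUnity (Fintype.card (Fin n)) F) ∣ Nat.card Fˣ := Subgroup.card_subgroup_dvd_card _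
    classical
    have h6 : Nat.card Fˣ = 2 := by rw [Nat.card_eq_fintype_card, Fintype.card_units, hF]
    rw [h6] at h5
    exact absurd (hd.trans h5) (by norm_num)

/-- **`Uₙ(3)`, `n ≥ 3`** -/
theorem uni {F : Type*} [Field F] [Fintype F] (hF : Fintype.card F = 9) {n : ℕ} (hn : 3 ≤ n)
    (hcen : center K = ⊥) (e : K ≃* Cfsg.PSU n F 3) : NoThree K := by
  have : Finite K := Finite.of_equiv _ e.symm.toEquiv
  have : Fact (Nat.Prime 3) := ⟨Nat.prime_three⟩
  have h1 := Cfsg.Agent.S0815.result (F := F) 3 1 le_rfl (q := 3) (by norm_num) (by rw [hF]; norm_num) n hn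
    (by rintro ⟨-, h⟩; omega)
  rw [← card_mulAut_congr e, ← Nat.card_congr e.toEquiv] at h1
  refine noThree_of_card hcen ?_ h1
  intro hd
  have h2 : Nat.gcd n (3 + 1) * (2 * 1) ∣ 4 * 2 := Nat.mul_dvd_mul (Nat.gcd_dvd_right _ _) (by norm_num)
  exact absurd (hd.trans h2) (by norm_num)

/-- **`PSp₂ₘ(3)`, `m ≥ 2`** -/
theorem sp {F : Type*} [Field F] [Fintype F] (hF : Fintype.card F = 3) {m : ℕ} (hm : 2 ≤ m)
    (hcen : center K = ⊥) (e : K ≃* Cfsg.PSp m F) : NoThree K := by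
  have : Finite (Matrix (Fin m ⊕ Fin m) (Fin m ⊕ Fin m) F) := inferInstance
  have : Finite (Matrix.symplecticGroup (Fin m) F) := Subtype.finite
  have : Finite (Cfsg.PSp m F) := Quotient.finite _
  have : Finite K := Finite.of_equiv _ e.symm.toEquiv
  have : Fact (Nat.Prime 3) := ⟨Nat.prime_three⟩
  have h1 := Cfsg.Agent.S0814.result (F := F) 3 1 le_rfl (by rw [hF, pow_one]) m hm (fun _ => by norm_num)
  rw [← card_mulAut_congr e, ← Nat.card_congr e.toEquiv] at h1
  refine noThree_of_card hcen ?_ h1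
  intro hd
  rcases (Nat.Prime.dvd_mul Nat.prime_three).mp hd with hd | hd
  · rcases (Nat.Prime.dvd_mul Nat.prime_three).mp hd with hd | hd
    · split_ifs at hd <;> exact absurd hd (by norm_num)
    · exact absurd hd (by norm_num)
  · exact absurd hd (by norm_num)

/-- **`Ω₂ₘ₊₁(3)`, `m ≥ 3`** -/
theorem odd {F : Type*} [Field F] [Fintype F] (hF : Fintype.card F = 3) {m : ℕ} (hm : 3 ≤ m)
    (hcen : center K = ⊥) (e : K ≃* Cfsg.POmega F (Cfsg.quadFormOdd m F)) : NoThree K := by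
  have : Finite K := Finite.of_equiv _ e.symm.toEquiv
  have : Fact (Nat.Prime 3) := ⟨Nat.prime_three⟩
  have h1 := Cfsg.Agent.S0816.result (F := F) 3 1 le_rfl (by rw [hF, pow_one]) (by decide) m hm
  rw [← card_mulAut_congr e, ← Nat.card_congr e.toEquiv] at h1
  exact noThree_of_card hcen (m := 2 * 1) (by norm_num) h1

/-- **`PΩ⁻₂ₘ(3)`, `m ≥ 4`** -/
theorem minus {F : Type*} [Field F] [Fintype F] (hF : Fintype.card F = 3) {m : ℕ} (hm : 4 ≤ m) (a b : F)
    (hab : ∀ z₁ z₂ : F, z₁ ^ 2 + a * z₁ * z₂ + b * z₂ ^ 2 = 0 → z₁ = 0 ∧ z₂ = 0)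
    (hcen : center K = ⊥) (e : K ≃* Cfsg.POmega F (Cfsg.quadFormMinus (m - 1) F a b)) : NoThree K := by
  have : Finite K := Finite.of_equiv _ e.symm.toEquiv
  have : Fact (Nat.Prime 3) := ⟨Nat.prime_three⟩
  have h1 := Cfsg.Agent.S0818.result (F := F) 3 1 le_rfl (by rw [hF, pow_one]) m hm a b hab
  rw [if_neg (by norm_num), ← card_mulAut_congr e, ← Nat.card_congr e.toEquiv] at h1
  refine noThree_of_card hcen ?_ h1
  split_ifs <;> norm_num

/-! ### root group data with root groups of order 3 -/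

section rgd

open CoxeterSystem Cfsg.Agent.ChevalleyStructure.CoxeterGeom Cfsg.Agent.Tits.Roots Cfsg.Agent.Tits.Core
  Cfsg.Agent.Tits.Exchange Cfsg.Agent.Nodes.Reps Cfsg.Agent.Nodes.BNOf Cfsg.Agent.Nodes.StabComb
  Cfsg.Agent.Nodes.Bruhat Cfsg.Agent.Nodes.OppDec Cfsg.Agent.Nodes.LeviDec Cfsg.Agent.Nodes.NormalForm
  Cfsg.Agent.KFacts.RgdOpp Cfsg.Agent.KFacts.RgdAut Cfsg.Agent.KFacts.RgdDiag Cfsg.Agent.KFacts.RgdRigid
  Cfsg.Agent.KFacts.RgdEx NoThreeE

variable {I W Y : Type*} [Fintype I] [DecidableEq I] [Group W] [Group Y] {M : CoxeterMatrix I}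
  {cs : CoxeterSystem M W} {A : I → I → ℤ} {h : IsCartan M A} {p : ℕ} {T : Subgroup Y} {n : I → Y}
  {X : (I → ℤ) → Subgroup Y}

/-- `c` is an exponent of `Aut(X_{α_i})` -/
theorem exists_pow_inn (R : RGD cs h p T n X) [Finite W] [Finite Y] [Fact p.Prime]
    (hG1 : RGD.Sup X {x | IsRoot cs h x} = ⊤) {c : ℕ}
    (hcard : ∀ i, ∀ γ : MulAut Y, (∀ x, γ x ∈ X (sr i) ↔ x ∈ X (sr i)) → ∀ x ∈ X (sr i), (γ ^ c) x = x) {m : ℕ}
    (hM : ∀ σ : Equiv.Perm I, (∀ i j, M (σ i) (σ j) = M i j) → σ ^ m = 1) (α : MulAut Y) :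
    α ^ (m * c) ∈ (MulAut.conj : Y →* MulAut Y).range := by
  have hG : GG cs h T X = ⊤ := GG_eq_top hG1
  have hn := NoThreeL.normal_inn (K := Y)
  -- make `α` fix `U`
  obtain ⟨S, hS⟩ := exists_syl R hG
  obtain ⟨g, hg⟩ := MulAction.exists_smul_eq Y (α • S) S
  have hU : Fix (MulAut.conj g * α) (RGD.Sup X (RGD.Pos cs h)) := by
    rw [fix_iff, ← hS]
    have h1 := congrArg (fun P : Sylow p Y => (P : Subgroup Y)) hg
    have h2 : ((g • (α • S) : Sylow p Y) : Subgroup Y) =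
        ((S : Subgroup Y)).map (MulAut.conj g * α).toMonoidHom := by
      ext x
      constructor
      · rintro ⟨_, ⟨y, hy, rfl⟩, rfl⟩
        exact ⟨y, hy, rfl⟩
      · rintro ⟨y, hy, rfl⟩
        exact ⟨_, ⟨y, hy, rfl⟩, rfl⟩
    rw [← h2]; exact h1
  obtain ⟨u, hu, hU', -, hUN, -, -⟩ := exists_frame R hG hU
  obtain ⟨σ, D⟩ := exists_diag R hG hU' hUN
  set β := MulAut.conj u * (MulAut.conj g * α) with hβ
  have hσ : σ ^ m = 1 := hM σ fun i j => Diag.matrix R D i j
  have D' : Diag T X (β ^ m) 1 := by rw [← hσ]; exact D.pow m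
  have D'' : Diag T X ((β ^ m) ^ c) 1 := by
    have := D'.pow c
    rwa [one_pow] at this
  have h1 : (β ^ m) ^ c = 1 := by
    apply Diag.eq_one R hG1 D''
    intro i x hx
    exact hcard i (β ^ m) (fun x => D'.pos i x) x hx
  -- modulo inner automorphisms
  have h2 : ((α : MulAut Y) : MulAut Y ⧸ (MulAut.conj : Y →* MulAut Y).range) = (β : MulAut Y) := by
    have e1 : ∀ y : Y, ((MulAut.conj y : MulAut Y) : MulAut Y ⧸ (MulAut.conj : Y →* MulAut Y).range) = 1 :=
      fun y => (QuotientGroup.eq_one_iff _).2 (MonoidHom.mem_range.2 ⟨y, rfl⟩)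
    rw [hβ, QuotientGroup.mk_mul, QuotientGroup.mk_mul, e1, e1, one_mul, one_mul]
  rw [← QuotientGroup.eq_one_iff, QuotientGroup.mk_pow, h2, ← QuotientGroup.mk_pow, pow_mul, h1,
    QuotientGroup.mk_one]

end rgd

section chev

open Cfsg.Lie Cfsg.Agent.Nodes.RGDChev Cfsg.Agent.ChevalleyStructure Cfsg.Agent.ChevalleyStructure.Elts
  CoxeterSystem Cfsg.Agent.ChevalleyStructure.CoxeterGeom Cfsg.Agent.Tits.Roots Cfsg.Agent.Tits.Core
  Cfsg.Agent.Nodes.Reps Cfsg.Agent.KFacts.RgdEx NoThreeE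

universe u

/-- an automorphism of a subset `{1, a, a²}` squares to the identity on it -/
theorem sq_fix {Y : Type*} [Group Y] {a : Y} (ha : a * a * a = 1) {P : Y → Prop}
    (hP : ∀ x, P x → x = 1 ∨ x = a ∨ x = a * a) (γ : MulAut Y) (hγ : ∀ x, P (γ x) ↔ P x) :
    ∀ x, P x → (γ ^ 2) x = x := by
  intro x hx
  have hinv : a⁻¹ = a * a := (eq_inv_of_mul_eq_one_left ha).symm
  have hx3 : x * x * x = 1 := by
    rcases hP x hx with rfl | rfl | rfl
    · simp
    · exact ha
    · calc a * a * (a * a) * (a * a) = (a * a * a) * (a * a * a) := by group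
        _ = 1 := by rw [ha, one_mul]
  by_cases hx1 : x = 1
  · rw [hx1, map_one]
  have h2 : ∀ y, P y → y = 1 ∨ y = x ∨ y = x * x := by
    intro y hy
    rcases hP x hx with h | h | h
    · exact absurd h hx1
    · rw [h]; exact hP y hy
    · rcases hP y hy with h3 | h3 | h3
      · exact Or.inl h3
      · right; right
        rw [h, h3]
        calc a = (a * a * a) * a := by rw [ha, one_mul]
          _ = a * a * (a * a) := by group
      · right; left
        rw [h, h3]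
  have h3 : γ x = x ∨ γ x = x * x := by
    rcases h2 (γ x) ((hγ x).2 hx) with h | h | h
    · exact absurd (γ.injective (h.trans (map_one γ).symm)) hx1
    · exact Or.inl h
    · exact Or.inr h
  rw [pow_two, MulAut.mul_apply]
  rcases h3 with h | h
  · rw [h, h]
  · rw [h, map_mul, h]
    calc x * x * (x * x) = (x * x * x) * x := by group
      _ = x := by rw [hx3, one_mul]

variable {D : ChevalleyDatum} {l : ℕ} {M : CoxeterMatrix (Fin l)} {F : Type u} [Field F] [Fintype F]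

/-- the Chevalley groups over the field with three elements -/
theorem chev (hp : IsType D l M) (hF : Fintype.card F = 3)
    (hM : ∀ σ : Equiv.Perm (Fin l), (∀ i j, M (σ i) (σ j) = M i j) → σ ^ 2 = 1) : NoThree ↥(D.group F) := by
  have h3 : Fact (Nat.Prime 3) := ⟨Nat.prime_three⟩
  have hc : CharP F 3 := charP_of_card_eq_prime_pow (f := 1) (by rw [hF, pow_one])
  have hfin := finite_W hp M.toCoxeterSystem
  classical
  have h012 : ∀ t : F, t = 0 ∨ t = 1 ∨ t = 1 + 1 := by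
    intro t
    by_contra hcon
    push Not at hcon
    have h12 : (1 : F) ≠ 1 + 1 := fun h => one_ne_zero (left_eq_add.mp h)
    have h02 : (0 : F) ≠ 1 + 1 := by
      intro h
      have h5 : ((2 : ℕ) : F) = 0 := by rw [Nat.cast_two, ← one_add_one_eq_two]; exact h.symm
      have h6 := (CharP.cast_eq_zero_iff F 3 2).1 h5
      exact absurd h6 (by norm_num)
    have h4 : ({0, 1, 1 + 1, t} : Finset F).card = 4 := by
      rw [Finset.card_insert_of_notMem, Finset.card_insert_of_notMem, Finset.card_insert_of_notMem,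
        Finset.card_singleton]
      · rw [Finset.mem_singleton]; exact fun h => hcon.2.2 h.symm
      · rw [Finset.mem_insert, Finset.mem_singleton]
        push Not
        exact ⟨h12, fun h => hcon.2.1 h.symm⟩
      · rw [Finset.mem_insert, Finset.mem_insert, Finset.mem_singleton]
        push Not
        exact ⟨zero_ne_one, h02, fun h => hcon.1 h.symm⟩
    have h5 := Finset.card_le_univ ({0, 1, 1 + 1, t} : Finset F)
    omega
  refine noThree_of_pow (m := 2 * 2) (by norm_num) fun α =>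
    exists_pow_inn (rgd (K := F) hp M.toCoxeterSystem 3) (G1_eq_top hp M.toCoxeterSystem) (c := 2) ?_ hM α
  intro i γ hγ
  let a : ↥(D.group F) := ⟨xG hp.inList (D.simple i) 1, xG_mem_group hp.inList _ _⟩
  have ha : a * a * a = 1 := by
    apply Subtype.ext
    show xG hp.inList (D.simple i) (1 : F) * xG hp.inList (D.simple i) 1 * xG hp.inList (D.simple i) 1 = 1
    rw [xG_add, xG_add]
    have h5 : (1 : F) + 1 + 1 = 0 := by
      have h6 := (CharP.cast_eq_zero_iff F 3 3).2 dvd_rfl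
      rw [← h6]
      push_cast
      norm_num
    rw [h5, xG_zero]
  refine sq_fix (a := a) ha (P := fun x => x ∈ (XV D l F (sr i)).subgroupOf (D.group F)) ?_ γ hγ
  intro x hx
  have hx' : x ∈ (XV D l F (sr i)).subgroupOf (D.group F) := hx
  rw [Subgroup.mem_subgroupOf, XV_sr hp, mem_rootSubgroup_iff hp.inList] at hx'
  obtain ⟨t, ht⟩ := hx'
  rcases h012 t with rfl | rfl | rfl
  · left
    apply Subtype.ext
    rw [ht, xG_zero]
    rfl
  · right; left
    exact Subtype.ext ht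
  · right; right
    apply Subtype.ext
    rw [ht, ← xG_add]
    rfl

theorem sym_G2 (σ : Equiv.Perm (Fin 2)) (_ : ∀ i j, CoxeterMatrix.G₂ (σ i) (σ j) = CoxeterMatrix.G₂ i j) :
    σ ^ 2 = 1 := by
  have h : ∀ σ : Equiv.Perm (Fin 2), σ ^ 2 = 1 := by decide
  exact h σ

/-- **`G₂(3)`** -/
theorem g2 (hF : Fintype.card F = 3) {K : Type*} [Group K] (e : K ≃* ↥(chevG2.group F)) : NoThree K :=
  noThree_of_equiv e (chev (M := CoxeterMatrix.G₂) (by simp [IsType, typeList]) hF fun σ hσ => sym_G2 σ hσ)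

end chev

end Cfsg.Agent.OddHalf.Quat.NoThreeOdd
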