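import Cfsg.Agent.OddHalf.Quat.BigMap
import Cfsg.Agent.OddHalf.EightTorus.Auto
import Cfsg.Agent.S1152
import Cfsg.Agent.S1157
import Cfsg.Agent.S1073

/-!
# Node Q: simple groups with elementary abelian Sylow 2-subgroups of order 8; the Ree groups

`kBig_eight` : `K` simple, `U` an elementary abelian Sylow 2-subgroup of `K` of order 8: `KBig U`.
`ree` : the row `²G₂(q)`.
-/

set_option autoImplicit false

namespace Cfsg.Agent.OddHalf.Quat.RowRee

open Subgroup Cfsg Cfsg.Agent.StdL2.G23Aut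

/-- an automorphism of 2-power order which normalises `U` centralises `U` -/
theorem fix_of_two {K : Type*} [Group K] [Finite K] [IsSimpleGroup K] (hna : ∃ a b : K, a * b ≠ b * a)
    (U : Sylow 2 K) (h8 : Nat.card U = 8) (hsq : ∀ x ∈ U, x * x = 1) (α : MulAut K)
    (hα : IsPGroup 2 (zpowers α)) (hU : ∀ u ∈ (U : Subgroup K), α u ∈ (U : Subgroup K)) :
    ∀ u ∈ (U : Subgroup K), α u = u := by
  have hfin : Finite (MulAut K) := Finite.of_injective (fun e : MulAut K => (e : K → K)) DFunLike.coe_injective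
  have hcen : center K = ⊥ := by
    rcases (inferInstance : (center K).Normal).eq_bot_or_eq_top with h1 | h1
    · exact h1
    · exfalso
      obtain ⟨a, b, hab⟩ := hna
      exact hab (mem_center_iff.1 (by rw [h1]; trivial : b ∈ center K) a)
  have hinj : Function.Injective (MulAut.conj (G := K)) := by
    rw [injective_iff_map_eq_one]
    intro x hx
    have h1 : x ∈ center K := by
      rw [mem_center_iff]
      intro y
      have h2 := DFunLike.congr_fun hx y
      rw [MulAut.conj_apply, MulAut.one_apply, mul_inv_eq_iff_eq_mul] at h2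
      exact h2.symm
    rwa [hcen, mem_bot] at h1
  have hconj : ∀ (φ : MulAut K) (x : K), φ * MulAut.conj x * φ⁻¹ = MulAut.conj (φ x) := by
    intro φ x
    ext y
    simp [MulAut.mul_apply, MulAut.conj_apply]
  let I : Subgroup (MulAut K) := (MulAut.conj : K →* MulAut K).range
  let V : Subgroup (MulAut K) := (U : Subgroup K).map MulAut.conj
  let e : K ≃* I := MonoidHom.ofInjective hinj
  have hVI : V ≤ I := by
    rintro _ ⟨u, -, rfl⟩
    exact ⟨u, rfl⟩
  have hI : I.Normal := by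
    refine ⟨?_⟩
    rintro _ ⟨m, rfl⟩ g
    exact ⟨g m, (hconj g m).symm⟩
  have L : EightTorus.Auto.Loc I V (1 : MulAut K) := by
    refine ⟨?_, ?_, hVI, ?_, ⟨?_, ?_⟩, fun x _ => by rw [mul_one, one_mul], fun g _ => ?_⟩
    · haveI : Nontrivial I := e.symm.toEquiv.nontrivial
      exact IsSimpleGroup.isSimpleGroup_of_surjective e.toMonoidHom e.surjective
    · obtain ⟨a, b, hab⟩ := hna
      refine ⟨MulAut.conj a, ⟨a, rfl⟩, MulAut.conj b, ⟨b, rfl⟩, fun h => hab (hinj ?_)⟩
      rw [map_mul, map_mul, h]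
    · have h1 : V.relIndex I = (U : Subgroup K).index := by
        have h2 : I = (⊤ : Subgroup K).map MulAut.conj := by
          rw [← MonoidHom.range_eq_map]
        rw [h2, relIndex_map_map_of_injective _ _ hinj, relIndex_top_right]
      rw [h1]
      exact U.not_dvd_index
    · rw [card_map_of_injective hinj]
      exact h8
    · rintro _ ⟨u, hu, rfl⟩
      rw [← map_mul, hsq u hu, map_one]
    · rw [normalizer_eq_top]
      trivial
  obtain ⟨d, -, -, -, hP⟩ := L.main
  have hUn : ∀ n : ℕ, ∀ u ∈ (U : Subgroup K), (α ^ n) u ∈ (U : Subgroup K) := by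
    intro n
    induction n with
    | zero => intro u hu; simpa using hu
    | succ n ih =>
      intro u hu
      rw [pow_succ, MulAut.mul_apply]
      exact ih _ (hU u hu)
  have hz : zpowers α ≤ normalizer (V : Set (MulAut K)) := by
    rw [zpowers_le]
    have h1 : ∀ β ∈ zpowers α, ∀ v ∈ V, β * v * β⁻¹ ∈ V := by
      intro β hβ
      obtain ⟨n, rfl⟩ := (mem_powers_iff_mem_zpowers (x := α) (y := β)).2 hβ
      rintro _ ⟨u, hu, rfl⟩
      exact ⟨(α ^ n) u, hUn n u hu, (hconj (α ^ n) u).symm⟩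
    rw [mem_normalizer_iff]
    intro x
    refine ⟨h1 α (mem_zpowers α) x, fun hx => ?_⟩
    have h2 := h1 α⁻¹ (inv_mem (mem_zpowers α)) _ hx
    have h3 : α⁻¹ * (α * x * α⁻¹) * α⁻¹⁻¹ = x := by group
    rwa [h3] at h2
  intro u hu
  have h1 := hP (zpowers α) hα (fun x _ => by rw [mul_one, one_mul]) hz α (mem_zpowers α) (MulAut.conj u)
    ⟨u, hu, rfl⟩
  apply hinj
  rw [← hconj, h1, mul_inv_cancel_right]

/-- **simple groups with elementary abelian Sylow 2-subgroups of order 8** -/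
theorem kBig_eight {K : Type*} [Group K] [Finite K] [IsSimpleGroup K] (hna : ∃ a b : K, a * b ≠ b * a)
    (U : Sylow 2 K) (h8 : Nat.card U = 8) (hsq : ∀ x ∈ U, x * x = 1) : KBig (U : Subgroup K) := by
  have hab : ∀ x ∈ (U : Subgroup K), ∀ y ∈ (U : Subgroup K), x * y = y * x := by
    intro x hx y hy
    have h1 := hsq x hx
    have h2 := hsq y hy
    have h3 := hsq (x * y) (mul_mem hx hy)
    calc x * y = (x * y)⁻¹ := eq_inv_of_mul_eq_one_left h3
      _ = y⁻¹ * x⁻¹ := mul_inv_rev x y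
      _ = y * x := by rw [← eq_inv_of_mul_eq_one_left h1, ← eq_inv_of_mul_eq_one_left h2]
  refine ⟨?_, ?_⟩
  · intro w hw hw1
    by_contra hcon
    push Not at hcon
    apply hw1
    refine EightTorus.Auto.fixed_eq_one hna U hab hw.1 hw.2.1 fun n hn => ?_
    rw [hcon n hn, mul_inv_cancel_right]
  · intro α hα hU ⟨x, hx, hxα⟩
    exact absurd (fix_of_two hna U h8 hsq α hα hU x hx.1) hxα

/-- **Row `²G₂(q)`** -/
theorem ree {K : Type*} [Group K] (h : Lie.IsoRee K) : ∃ U : Sylow 2 K, KBig (U : Subgroup K) := by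
  obtain ⟨F, _, _, m, hm, hF, ⟨e⟩⟩ := h
  obtain ⟨a, haH, ha1, ha2⟩ := Cfsg.Agent.S1157.exists_involution hF
  obtain ⟨-, hS⟩ := Cfsg.Agent.S1152.result hF a haH ha1 ha2
  obtain ⟨Q⟩ : Nonempty (Sylow 2 ↥(Cfsg.Lie.twistedG2 F (3 ^ m))) := inferInstance
  have h1 := Cfsg.Agent.S1073.result hm hF
  have := h1.1
  refine exists_kbig_of_equiv e.symm ⟨Q, kBig_eight ?_ Q (hS Q).1 (hS Q).2⟩
  by_contra hcon
  push Not at hcon
  exact h1.2 ⟨⟨hcon⟩⟩

end Cfsg.Agent.OddHalf.Quat.RowRee
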