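import Cfsg.Agent.OddHalf.Quat.Good
import Cfsg.Agent.OddHalf.Quat.NoThreeOdd
import Cfsg.Agent.OddHalf.Quat.RowRee
import Cfsg.Agent.OddHalf.Quat.KZ
import Cfsg.Agent.OddHalf.NI.Rows
import Cfsg.Agent.OddHalf.NI3.Final

/-!
# Node Q: `K` of Lie type in odd characteristic, `Z(K) = 1`

`good_odd` : `KGood K`, from node NI (`NoBig`, `NI3.NoThree`), (F1_3) and the row `PΩ₈⁺(3)`.
-/

set_option autoImplicit false

namespace Cfsg.Agent.OddHalf.Quat

open Subgroup Cfsg Cfsg.Agent.OddHalf.Iface Cfsg.Agent.OddHalf.LieOddFam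

universe u

/-- the row `K = PΩ₈⁺(3)`, arbitrary centralizer -/
def RowO83 : Prop :=
  ∀ (G : Type u) [Group G], Ctx G → ∀ K : Subgroup G, Std0 G K → center ↥K = ⊥ →
    (∃ (F : Type) (_ : Field F) (_ : Fintype F), Fintype.card F = 3 ∧
      Nonempty (↥K ≃* POmega F (quadFormPlus 4 F))) → False

/-- `L₂(q)`, `q` odd -/
theorem good_l2 {X : Type*} [Group X] (hcen : center X = ⊥) {F : Type} [Field F] [Fintype F]
    (hF : Odd (Fintype.card F)) (h5 : 5 ≤ Fintype.card F)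
    (e : X ≃* Matrix.ProjectiveSpecialLinearGroup (Fin 2) F) : KGood X := by
  obtain ⟨p, hp⟩ := CharP.exists F
  have hpr : p.Prime := CharP.char_is_prime F p
  have : Fact p.Prime := ⟨hpr⟩
  obtain ⟨f, hf, hpf⟩ := card_pow (F := F) p
  by_cases h3 : 3 ∣ f
  · obtain ⟨k, rfl⟩ := h3
    right; right; right
    exact KZ.kz_of_equiv hF (s := p ^ k) (by rw [hpf, ← pow_mul, mul_comm]) e
  · left
    exact NoThreeL.two p f hf hpf (by omega) h3 hcen e

/-- the small groups over the field with three elements -/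
theorem good_small {X : Type*} [Group X] (hcen : center X = ⊥) (h : NI3.Small3 X)
    (h8 : ¬ ∃ (F : Type) (_ : Field F) (_ : Fintype F), Fintype.card F = 3 ∧
      Nonempty (X ≃* POmega F (quadFormPlus 4 F))) : NoThree X := by
  rcases h with ⟨F, _, _, hF, ⟨e⟩⟩ | ⟨F, _, _, hF, ⟨e⟩⟩ | ⟨F, _, _, hF, ⟨e⟩⟩ | ⟨F, _, _, hF, ⟨e⟩⟩ |
    ⟨F, _, _, hF, ⟨e⟩⟩ | ⟨F, _, _, hF, ⟨e⟩⟩ | ⟨F, _, _, hF, ⟨e⟩⟩ | h | ⟨F, _, _, b, c, hF, hbc, ⟨e⟩⟩
  · exact NoThreeOdd.lin hF (by norm_num) hcen e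
  · exact NoThreeOdd.uni hF (by norm_num) hcen e
  · exact NoThreeOdd.lin hF (by norm_num) hcen e
  · exact NoThreeOdd.uni hF (by norm_num) hcen e
  · exact NoThreeOdd.sp hF le_rfl hcen e
  · exact NoThreeOdd.g2 hF e
  · exact NoThreeOdd.odd hF le_rfl hcen e
  · exact absurd h h8
  · exact NoThreeOdd.minus (m := 4) hF le_rfl b c hbc hcen e

theorem good_odd (hB : NI.NoBig.{u}) (h3 : NI3.NoThree.{u}) (hF : NI3.F13.{u}) (h8 : RowO83.{u})
    {G : Type u} [Group G] (C : Ctx G) {K : Subgroup G} (S : Std0 G K) (hz : center ↥K = ⊥)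
    (hL : LieOdd ↥K) (ha : ¬ IsAlternating ↥K) : KGood ↥K := by
  rcases lieOdd_cases hL ha with h | h | h | ⟨q, hq, h⟩
  · obtain ⟨F, _, _, h7, ⟨e⟩⟩ := h
    exact good_l2 hz (by rw [h7]; decide) (by omega) e
  · obtain ⟨F, _, _, ho, h11, ⟨e⟩⟩ := h
    exact good_l2 hz ho (by omega) e
  · exact Or.inr (Or.inl (RowRee.ree h))
  · by_cases hq3 : q = 3
    · subst hq3
      exact Or.inl (good_small hz (NI3.Final.small_of_rk h3 hF C S hz h) fun h4 => h8 G C K S hz h4)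
    · exact (NI.Rows.d6_big hB C S hz hq (hq.ne_four hq3) h).elim

end Cfsg.Agent.OddHalf.Quat
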