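import Cfsg.Agent.OddHalf.Quat.KTwoOf
import Cfsg.Agent.TwoESix.SheetD
import Cfsg.Agent.TwoESix.FlagM

/-!
# `KTwo` for `²E₆(2)`
-/

set_option autoImplicit false
set_option linter.unusedSectionVars false
set_option linter.unusedVariables false

namespace Cfsg.Agent.OddHalf.Quat.KTwoE6

open Cfsg Cfsg.Lie
open Cfsg.Agent.ChevalleyStructure
open Cfsg.Agent.ChevalleyStructure.Elts hiding x_add x_zero x_eq_one_iff
open Cfsg.Agent.ChevalleyStructure.TwE6Basic
open Cfsg.Agent.ChevalleyStructure.TwE6BN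
open Cfsg.Agent.TwoESix
open Cfsg.Agent.TwoESix.LeviA
open Cfsg.Agent.TwoESix.LeviB
open Cfsg.Agent.TwoESix.LeviC
open Cfsg.Agent.TwoESix.LeviD
open Cfsg.Agent.TwoESix.LongPairs
open Cfsg.Agent.TwoESix.LongCard
open Cfsg.Agent.TwoESix.FlagH
open Cfsg.Agent.TwoESix.FlagI
open Cfsg.Agent.TwoESix.KeyExtra
open Cfsg.Agent.TwoESix.SheetA
open Cfsg.Agent.TwoESix.SheetD

universe u

variable {K : Type u} [Field K] [Fintype K] {φ : K →+* K} (F : Four K φ)
include F

theorem we_zero' : we F [0] * c0 F * (we F [0])⁻¹ = r0 F := by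
  have := F.charP
  have h2 := wn_conj (K := K) [0] 70 1
  have hw : wpm [0] 70 = 71 := by decide +kernel
  rw [hw] at h2
  exact Subtype.ext h2

theorem kTwo : ∃ V : Subgroup ↥(twistedE6 K 2), KTwo (SE K) V := by
  have := F.charP
  have := finite_E (K := K)
  refine kTwo_of_large (large F) (irr F) (S_two F) (R_le F) (S_cent F) (FlagM.S_cen F) (c_R F) ?_ (c0_ne F) ?_
    (c0_uni F) (c0_fix F) (we_zero F) (we_zero' F) ?_ ?_
  · exact root_sq F (xe_T F 70 (by decide +kernel))
  · intro h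
    exact x_ne (K := K) (r := 70) (s := 71) (by norm_num) (by norm_num) (by norm_num) (congrArg Subtype.val h)
  · intro h4
    have h6 := h4.trans (index_out F)
    norm_num at h6
  · rw [card_SE F]; norm_num

omit F [Fintype K] in
/-- **`KTwo` for `²E₆(2)`.** -/
theorem main [Fintype K] (hK : Fintype.card K = 4) {X : Type*} [Group X] (e : X ≃* ↥(twistedE6 K 2)) :
    ∃ (S : Sylow 2 X) (V : Subgroup X), KTwo (S : Subgroup X) V := by
  obtain ⟨_, φ', F⟩ := exists_four K hK
  have := finite_E (K := K)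
  have hp : Fact (Nat.Prime 2) := ⟨Nat.prime_two⟩
  obtain ⟨V, hV⟩ := kTwo F
  have h1 : IsPGroup 2 ((SE K).map e.symm.toMonoidHom) := (S_two F).map _
  have h2 : ¬ 2 ∣ ((SE K).map e.symm.toMonoidHom).index := by
    have h3 := Subgroup.index_map_equiv (SE K) e.symm
    have h4 : ((SE K).map e.symm.toMonoidHom).index = (SE K).index := h3
    rw [h4]
    exact S_odd F
  exact ⟨h1.toSylow h2, V.map e.symm.toMonoidHom, hV.map_equiv e.symm⟩

end Cfsg.Agent.OddHalf.Quat.KTwoE6
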