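import Cfsg.Agent.OddHalf.Quat.KTwoOf
import Cfsg.Agent.TriTwo.AFacts
import Cfsg.Agent.TriTwo.Transport
import Cfsg.Agent.HexModel.Main
import Cfsg.Agent.S1071

/-!
# `KTwo` for `³D₄(2)`

`kTwo_of_second`: `KTwo U V` if `Z(U) = ⟨z⟩`, `V = Z₂(U)` is elementary abelian of order at most 16 and some `r`
normalises `V` and moves `z`.
-/

set_option autoImplicit false
set_option linter.unusedSectionVars false
set_option linter.unusedSimpArgs false

namespace Cfsg.Agent.OddHalf.Quat

open Subgroup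

theorem kTwo_of_second {K : Type*} [Group K] [Finite K] {U V : Subgroup K} {z r : K}
    (hVU : V ≤ U) (hsq : ∀ x ∈ V, x * x = 1) (hcard : Nat.card V ≤ 16)
    (hzV : z ∈ V) (hz1 : z ≠ 1) (hUz : ∀ u ∈ U, u * z = z * u)
    (hZ : ∀ x ∈ U, (∀ u ∈ U, u * x = x * u) → x = 1 ∨ x = z)
    (hV : ∀ x ∈ V, ∀ u ∈ U, x * u = u * x ∨ x * u = u * x * z)
    (hV' : ∀ x ∈ U, (∀ u ∈ U, x * u = u * x ∨ x * u = u * x * z) → x ∈ V)
    (hr : ∀ x ∈ V, r * x * r⁻¹ ∈ V) (hrz : r * z ≠ z * r)
    (hout : ¬ 4 ∣ (MulAut.conj : K →* MulAut K).range.index) (hbig : 512 < Nat.card U) : KTwo U V where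
  le := hVU
  sq := hsq
  card := hcard
  inv := by
    intro α hα x hx
    have hsurj : ∀ u ∈ U, ∃ u' ∈ U, α u' = u := by
      intro u hu
      let f : U → U := fun u => ⟨α u, hα u u.2⟩
      have hf : Function.Injective f := fun a b hab => Subtype.ext (α.injective (congrArg Subtype.val hab))
      obtain ⟨u', hu'⟩ := (Finite.injective_iff_surjective.1 hf) ⟨u, hu⟩
      exact ⟨u', u'.2, congrArg Subtype.val hu'⟩
    have hαz : α z = z := by
      rcases hZ (α z) (hα z (hVU hzV)) (fun u hu => by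
        obtain ⟨u', hu', rfl⟩ := hsurj u hu
        rw [← map_mul, ← map_mul, hUz u' hu']) with h1 | h1
      · exact absurd (α.injective (h1.trans (map_one α).symm)) hz1
      · exact h1
    apply hV' _ (hα x (hVU hx))
    intro u hu
    obtain ⟨u', hu', rfl⟩ := hsurj u hu
    rcases hV x hx u' hu' with h1 | h1
    · left; rw [← map_mul, ← map_mul, h1]
    · right; rw [← map_mul, ← map_mul, h1, map_mul, hαz]
  w := ⟨z, hzV, hz1, fun x hx => hZ x hx.1 hx.2.2, r, hr, hrz⟩
  out := hout
  big := hbig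

namespace KTwoTri

open Cfsg.Agent.TriTwo Cfsg.Agent.StdRank2.Hex Cfsg.Agent.SplitTwo Cfsg.Agent.StdEven.Syl
open Cfsg.Agent.StdRank2.Hex.HexTwo (ok1 ok3 ok5 AA UU q uu)
open scoped commutatorElement

variable {E : Type*} [Field E] {σ : E ≃+* E} {G : Type*} [Group G] {x : ZMod 12 → E → G}

section Second

variable (h : HexTwo σ x) (hc : Nat.card E = 8) (hf : ∀ a, σ a = a → a = 0 ∨ a = 1)
include h hc hf

theorem ne_fix : ∃ r : E, σ r ≠ r := by
  by_contra hcon
  push Not at hcon
  obtain ⟨η, h0, h1, -⟩ := exists_eta h.two hc hf h.cube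
  rcases hf η (hcon η) with h2 | h2
  · exact h0 h2
  · exact h1 h2

/-- the second centre of `U` -/
theorem second {v : G} (hv : v ∈ Us σ x) (hz : ∀ u ∈ Us σ x, v * u = u * v ∨ v * u = u * v * x 4 1) : v ∈ Ws σ x := by
  have z : σ (0 : E) = 0 := map_zero σ
  have o : σ (1 : E) = 1 := map_one σ
  have mU : ∀ k ∈ ([1, 2, 3, 4, 5, 6] : List (ZMod 12)), ∀ b, Ok σ k b → x k b ∈ Us σ x := by
    intro k hk b hb
    rw [Us_eq]; exact mem_gl hk hb
  rw [AFacts.Us_UU] at hv
  obtain ⟨a, b, c, d, e, f, hb, hd, hf', rfl⟩ := h.mem_UU.1 hv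
  have u1 : ∀ a', x 1 a' = uu x a' 0 0 0 0 0 := fun a' => by rw [h.u1]
  have u4 : x 4 1 = uu x 0 0 0 1 0 0 := by rw [h.uq, h.q4]
  have u6 : x 6 1 = uu x 0 0 0 0 0 1 := by rw [h.uq, h.q6]
  -- commutation with `x 1 t`
  have key1 : ∀ t : E, f * t = 0 ∧ crs σ t e + f * shp σ t = 0 ∧ trc σ t c + trc σ (shp σ t) e + f * nrm σ t = 0 := by
    intro t
    have t1 := h.fix_trc t c
    have t2 := h.fix_trc (shp σ t) e
    have t4 := h.fix_nrm t
    have t3 := h.fix_trc t (shp σ e)
    have gen : ∀ w : E, σ w = w → uu x (a + t) (b + trc σ t c + trc σ (shp σ t) e + f * nrm σ t + 0)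
        (c + crs σ t e + f * shp σ t + 0)
        (d + trc σ t (shp σ e) + f ^ 2 * nrm σ t + f * trc σ (shp σ t) e + 0 + 0 * f + trc σ 0 (e + f * t))
        (e + f * t + 0) (f + 0) = uu x (t + a) b c w e f →
        f * t = 0 ∧ crs σ t e + f * shp σ t = 0 ∧ trc σ t c + trc σ (shp σ t) e + f * nrm σ t = 0 := by
      intro w hw e1
      obtain ⟨-, r2, r3, -, r5, -⟩ := h.uu_inj (by simp only [map_add, map_mul, hb, t1, t2, hf', t4, z])
        (by simp only [map_add, map_mul, map_pow, hd, t3, hf', t4, t2, z, h.fix_trc]) (by simp [hf']) hb hw hf' e1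
      refine ⟨?_, ?_, ?_⟩
      · have : e + f * t = e := by simpa using r5
        exact add_eq_left.1 this
      · have : c + (crs σ t e + f * shp σ t) = c := by
          rw [← add_assoc]; simpa using r3
        exact add_eq_left.1 this
      · have : b + (trc σ t c + trc σ (shp σ t) e + f * nrm σ t) = b := by
          rw [← add_assoc, ← add_assoc]; simpa using r2
        exact add_eq_left.1 this
    rcases hz _ (mU 1 (by decide) t (ok1 t)) with e1 | e1
    · rw [u1, h.uu_mul hb hd hf' z z z, h.uu_mul z z z hb hd hf'] at e1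
      refine gen d hd ?_
      rw [e1]
      simp only [trc_zero_left, trc_zero_right, crs_zero_left, crs_zero_right, shp_zero, nrm_zero, zero_mul, mul_zero,
        add_zero, zero_add, ne_eq, OfNat.ofNat_ne_zero, not_false_eq_true, zero_pow]
    · rw [u1, u4, h.uu_mul hb hd hf' z z z, h.uu_mul z z z hb hd hf'] at e1
      simp only [trc_zero_left, trc_zero_right, crs_zero_left, crs_zero_right, shp_zero, nrm_zero, zero_mul, mul_zero,
        add_zero, zero_add, ne_eq, OfNat.ofNat_ne_zero, not_false_eq_true, zero_pow] at e1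
      rw [h.uu_mul hb hd hf' z o z] at e1
      refine gen (d + 1) (by rw [map_add, hd, o]) ?_
      simp only [trc_zero_left, trc_zero_right, crs_zero_left, crs_zero_right, shp_zero, nrm_zero, zero_mul, mul_zero,
        add_zero, zero_add, ne_eq, OfNat.ofNat_ne_zero, not_false_eq_true, zero_pow] at e1 ⊢
      exact e1
  have ef : f = 0 := by
    have := (key1 1).1
    rwa [mul_one] at this
  subst ef
  have ee : e = 0 := by
    by_contra hne
    obtain ⟨r, hr⟩ := ne_fix h hc hf
    have := (key1 (e * r)).2.1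
    rw [zero_mul, add_zero] at this
    have e0 : crs σ (e * r) e = σ e * σ (σ e) * (σ r + σ (σ r)) := by
      unfold crs
      simp only [map_mul]
      ring
    rw [e0] at this
    rcases mul_eq_zero.1 this with h1 | h1
    · rcases mul_eq_zero.1 h1 with h2 | h2
      · exact hne ((map_eq_zero σ).1 h2)
      · exact hne ((map_eq_zero σ).1 ((map_eq_zero σ).1 h2))
    · rw [← map_add] at h1
      have h2 : r + σ r = 0 := (map_eq_zero σ).1 h1
      apply hr
      have h3 := eq_neg_of_add_eq_zero_left h2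
      rw [h.neg_eq] at h3
      exact h3.symm
  subst ee
  have ec : c = 0 := by
    by_contra hne
    have := (key1 c⁻¹).2.2
    rw [trc_zero_right, zero_mul, add_zero, add_zero, Cfsg.Agent.StdRank2.Hex.trc_comm, PF.trc_inv h hne] at this
    exact one_ne_zero this
  subst ec
  -- commutation with `x 6 1`
  have ea : a = 0 := by
    have gen : ∀ w : E, σ w = w → uu x a b 0 d 0 1 = uu x a (nrm σ a + b) (shp σ a) w a 1 → a = 0 := by
      intro w hw e1
      obtain ⟨-, -, -, -, r5, -⟩ := h.uu_inj hb hd o (by simp only [map_add, hb, h.fix_nrm]) hw o e1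
      exact r5.symm
    rcases hz _ (mU 6 (by decide) 1 (ok_one σ _)) with e1 | e1
    · rw [u6, h.uu_mul hb hd z z z o, h.uu_mul z z o hb hd z] at e1
      simp only [trc_zero_left, trc_zero_right, crs_zero_left, crs_zero_right, shp_zero, nrm_zero, zero_mul, mul_zero,
        add_zero, zero_add, ne_eq, OfNat.ofNat_ne_zero, not_false_eq_true, zero_pow, one_mul, one_pow, mul_one] at e1
      exact gen _ (by simp only [map_add, hb, hd, h.fix_nrm]) e1
    · rw [u6, u4, h.uu_mul hb hd z z z o, h.uu_mul z z o hb hd z] at e1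
      simp only [trc_zero_left, trc_zero_right, crs_zero_left, crs_zero_right, shp_zero, nrm_zero, zero_mul, mul_zero,
        add_zero, zero_add, ne_eq, OfNat.ofNat_ne_zero, not_false_eq_true, zero_pow, one_mul, one_pow, mul_one] at e1
      rw [h.uu_mul (by simp only [map_add, hb, h.fix_nrm]) (by simp only [map_add, hb, hd, h.fix_nrm]) o z o z] at e1
      simp only [trc_zero_left, trc_zero_right, crs_zero_left, crs_zero_right, shp_zero, nrm_zero, zero_mul, mul_zero,
        add_zero, zero_add, ne_eq, OfNat.ofNat_ne_zero, not_false_eq_true, zero_pow, one_mul, one_pow, mul_one] at e1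
      exact gen _ (by simp only [map_add, hb, hd, h.fix_nrm, o]) e1
  subst ea
  rw [h.uq]
  have : q x b 0 d 0 0 = x 2 b * x 4 d := by
    unfold q
    rw [h.x_zero, h.x_zero, h.x_zero, mul_one, mul_one, mul_one]
  rw [this]
  exact mul_mem (mem_gens (by simp) (ok_of_fix _ hb)) (mem_gens (by simp) (ok_of_fix _ hd))

/-- `W ≤ Z₂(U)` -/
theorem first {v : G} (hv : v ∈ Ws σ x) : ∀ u ∈ Us σ x, v * u = u * v ∨ v * u = u * v * x 4 1 := by
  have h4 : ∀ u ∈ Us σ x, x 4 1 * u = u * x 4 1 := fun u hu => SecOne.z4_comm h (SecBase.Us_le_P1 hu)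
  have h44 : x 4 (1 : E) * x 4 1 = 1 := h.x_sq (ok_one σ _)
  have c26 : ⁅x 2 (1 : E), x 6 1⁆ = x 4 1 := by
    have := h.commL4 (k := 2) (by decide) (map_one σ) (map_one σ)
    rw [one_mul] at this
    exact this
  -- the elements fixing `v` modulo `z₄` form a subgroup
  have key : ∀ w : G, (∀ k ∈ ([1, 2, 3, 4, 5, 6] : List (ZMod 12)), ∀ b, Ok σ k b →
      w * x k b = x k b * w ∨ w * x k b = x k b * w * x 4 1) →
      ∀ u ∈ Us σ x, w * u = u * w ∨ w * u = u * w * x 4 1 := by
    intro w hw u hu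
    have hle : Us σ x ≤ Us σ x := le_rfl
    rw [Us_eq] at hu
    refine Subgroup.closure_induction (p := fun u _ => u ∈ Us σ x ∧ (w * u = u * w ∨ w * u = u * w * x 4 1)) ?_ ?_ ?_ ?_ hu |>.2
    · rintro _ ⟨k, hk, b, hb, rfl⟩
      exact ⟨by rw [Us_eq]; exact mem_gl hk hb, hw k hk b hb⟩
    · exact ⟨one_mem _, Or.inl (by rw [mul_one, one_mul])⟩
    · rintro a b - - ⟨ha, ha'⟩ ⟨hb, hb'⟩
      refine ⟨mul_mem ha hb, ?_⟩
      have e4 := h4 b hb
      rcases ha' with h1 | h1 <;> rcases hb' with h2 | h2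
      · left
        rw [← mul_assoc, h1, mul_assoc, h2, mul_assoc]
      · right
        rw [← mul_assoc, h1, mul_assoc, h2]; group
      · right
        calc w * (a * b) = a * w * x 4 1 * b := by rw [← mul_assoc, h1]
          _ = a * w * (x 4 1 * b) := by group
          _ = a * (w * b) * x 4 1 := by rw [e4]; group
          _ = a * b * w * x 4 1 := by rw [h2]; group
      · left
        calc w * (a * b) = a * w * x 4 1 * b := by rw [← mul_assoc, h1]
          _ = a * w * (x 4 1 * b) := by group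
          _ = a * (w * b) * x 4 1 := by rw [e4]; group
          _ = a * b * w * (x 4 1 * x 4 1) := by rw [h2]; group
          _ = a * b * w := by rw [h44, mul_one]
    · rintro a - ⟨ha, ha'⟩
      refine ⟨inv_mem ha, ?_⟩
      have e4 := h4 a ha
      have e4' := h4 _ (inv_mem ha)
      rcases ha' with h1 | h1
      · left
        calc w * a⁻¹ = a⁻¹ * (a * w) * a⁻¹ := by group
          _ = a⁻¹ * w := by rw [← h1]; group
      · right
        have h5 : a * w = w * a * x 4 1 := by rw [h1, mul_assoc, h44, mul_one]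
        calc w * a⁻¹ = a⁻¹ * (a * w) * a⁻¹ := by group
          _ = a⁻¹ * w * (a * (x 4 1 * a⁻¹)) := by rw [h5]; group
          _ = a⁻¹ * w * x 4 1 := by rw [e4']; group
  have k2 : ∀ u ∈ Us σ x, x 2 1 * u = u * x 2 1 ∨ x 2 1 * u = u * x 2 1 * x 4 1 := by
    apply key
    intro k hk b hb
    by_cases h6 : k = 6
    · subst h6
      rcases hf b (hb (by decide)) with rfl | rfl
      · left; rw [h.x_zero, mul_one, one_mul]
      · right
        have e1 : x 2 (1 : E) * x 6 1 = ⁅x 2 (1 : E), x 6 1⁆ * (x 6 1 * x 2 1) := by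
          rw [commutatorElement_def]; group
        rw [e1, c26, h4 _ (mul_mem (by rw [Us_eq]; exact mem_gl (by decide) (ok_one σ _))
          (by rw [Us_eq]; exact mem_gl (by decide) (ok_one σ _)))]
    · left
      simp only [List.mem_cons, List.not_mem_nil, or_false] at hk
      rcases hk with rfl | rfl | rfl | rfl | rfl | rfl
      · exact cm h (by decide) (ok_one σ _) hb
      · exact (h.x_comm_same (ok_one σ _) hb).eq
      · exact cm h (by decide) (ok_one σ _) hb
      · exact cm h (by decide) (ok_one σ _) hb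
      · exact cm h (by decide) (ok_one σ _) hb
      · exact absurd rfl h6
  intro u hu
  rcases AFacts.Ws_cases h hf hv with rfl | rfl | rfl | rfl
  · left; rw [one_mul, mul_one]
  · exact k2 u hu
  · left; exact h4 u hu
  · have e4 := h4 u hu
    rcases k2 u hu with h1 | h1
    · left
      rw [mul_assoc, e4, ← mul_assoc, h1, mul_assoc]
    · right
      calc x 2 1 * x 4 1 * u = x 2 1 * (x 4 1 * u) := by group
        _ = (x 2 1 * u) * x 4 1 := by rw [e4]; group
        _ = u * (x 2 1 * x 4 1) * x 4 1 := by rw [h1]; group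

end Second

/-! ### The outer automorphism group -/

section Out

variable {A : Type*} [Group A] [Finite A] {y : ZMod 12 → E → A}

/-- **`Out(³D₄(2))` has odd order.** -/
theorem index_odd (h : HexTwo σ y) (hc : Nat.card E = 8) (hf : ∀ a, σ a = a → a = 0 ∨ a = 1)
    (htop : AA σ y = ⊤) (hZ : Subgroup.center A = ⊥) :
    ¬ 2 ∣ (MulAut.conj : A →* MulAut A).range.index := by
  have hp : Fact (Nat.Prime 2) := ⟨Nat.prime_two⟩
  set f : A →* MulAut A := MulAut.conj with hfd
  have hker : f.ker = ⊥ := by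
    rw [← hZ]
    ext a
    rw [MonoidHom.mem_ker, Subgroup.mem_center_iff]
    constructor
    · intro h1 b
      have h2 : f a b = b := by rw [h1]; rfl
      have h3 : a * b * a⁻¹ = b := h2
      exact (mul_inv_eq_iff_eq_mul.1 h3).symm
    · intro h1
      ext b
      show a * b * a⁻¹ = b
      rw [← h1 b, mul_inv_cancel_right]
  have hinj : Function.Injective f := (MonoidHom.ker_eq_bot_iff f).1 hker
  let x' : ZMod 12 → E → MulAut A := fun k a => f (y k a)
  have hx : ∀ k a, Ok σ k a → x' k a = f (y k a) := fun _ _ _ => rfl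
  have h' : HexTwo σ x' := (Transport.hexTwo_iff f hx hinj).1 h
  have hAA : AA σ x' = f.range := by
    have h1 : AA σ x' = (AA σ y).map f := Transport.map_gens f hx Set.univ
    rw [h1, htop, ← MonoidHom.range_eq_map]
  have hUs := AFacts.isSyl_Us h' hc hf
  obtain ⟨S, hS⟩ := hUs.two.exists_le_sylow
  have hSA : (S : Subgroup (MulAut A)) ⊓ AA σ x' = Us σ x' :=
    hUs.max _ (S.isPGroup'.to_le inf_le_left) inf_le_right (le_inf hS hUs.le)
  have hnorm : ∀ α : MulAut A, ∀ b ∈ f.range, α * b * α⁻¹ ∈ f.range := by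
    rintro α _ ⟨a, rfl⟩
    refine ⟨α a, ?_⟩
    ext b
    show α a * b * (α a)⁻¹ = α (a * α⁻¹ b * a⁻¹)
    rw [map_mul, map_mul, map_inv, MulAut.apply_inv_self]
  have hTN : (S : Subgroup (MulAut A)) ≤ normalizer (AA σ x' : Set (MulAut A)) := by
    intro s _
    apply mem_normalizer_of_conj_le
    intro b hb
    rw [hAA] at hb ⊢
    exact hnorm s b hb
  have hin := AFacts.inner h' hc hf S.isPGroup' hTN hSA
  have hle : (S : Subgroup (MulAut A)) ≤ f.range := by
    intro s hs
    obtain ⟨a, ha, hac⟩ := hin s hs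
    have h1 : a⁻¹ * s = 1 := by
      rw [mem_centralizer_iff] at hac
      ext b
      have h2 := hac (f b) (by rw [hAA]; exact ⟨b, rfl⟩)
      have h3 : f ((a⁻¹ * s) b) = f b := by
        ext c
        have h4 : (a⁻¹ * s) * f b * (a⁻¹ * s)⁻¹ = f b := by rw [← h2, mul_inv_cancel_right]
        have h5 := DFunLike.congr_fun h4 c
        have h6 : ((a⁻¹ * s) * f b * (a⁻¹ * s)⁻¹) c = (a⁻¹ * s) (b * (a⁻¹ * s)⁻¹ c * b⁻¹) := rfl
        rw [h6, map_mul, map_mul, MulAut.apply_inv_self, map_inv] at h5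
        exact h5
      exact hinj h3
    rw [inv_mul_eq_one] at h1
    rw [← h1, ← hAA]
    exact ha
  intro h2
  exact S.not_dvd_index (h2.trans (Subgroup.index_dvd_of_le hle))

end Out

/-! ### `KTwo` -/

theorem kTwo [Finite G] (h : HexTwo σ x) (hc : Nat.card E = 8) (hf : ∀ a, σ a = a → a = 0 ∨ a = 1)
    (htop : AA σ x = ⊤) (hZ : Subgroup.center G = ⊥) : KTwo (Us σ x) (Ws σ x) := by
  have hW := fun {w : G} (hw : w ∈ Ws σ x) => AFacts.Ws_cases h hf hw
  have h22 : x 2 (1 : E) * x 2 1 = 1 := h.x_sq (ok_one σ _)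
  have h44 : x 4 (1 : E) * x 4 1 = 1 := h.x_sq (ok_one σ _)
  have h24 : x 2 (1 : E) * x 4 1 = x 4 1 * x 2 1 := cm h (by decide) (ok_one σ _) (ok_one σ _)
  have m2 : x 2 (1 : E) ∈ Ws σ x := mem_gens (by simp) (ok_one σ _)
  have m4 : x 4 (1 : E) ∈ Ws σ x := mem_gens (by simp) (ok_one σ _)
  have hne4 : x 4 (1 : E) ≠ 1 := fun e => one_ne_zero (h.inj 4 1 (ok_one σ _) e)
  have hne : x 2 (1 : E) ≠ x 4 1 := by
    intro e
    rw [← h.q2, ← h.q4] at e
    have z : σ (0 : E) = 0 := map_zero σ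
    exact one_ne_zero (h.q_inj (map_one σ) z z z (map_one σ) z e).1
  have r2 : nn x 6 * x 2 1 * (nn x 6)⁻¹ = x 4 1 := by
    have := h.refl6 2 1 (ok_one σ _)
    rw [show (6 : ZMod 12) - 2 = 4 by decide] at this
    exact this
  have r4 : nn x 6 * x 4 1 * (nn x 6)⁻¹ = x 2 1 := by
    have := h.refl6 4 1 (ok_one σ _)
    rw [show (6 : ZMod 12) - 4 = 2 by decide] at this
    exact this
  refine kTwo_of_second (z := x 4 1) (r := nn x 6) ?_ ?_ ?_ m4 hne4 ?_ ?_ (fun v hv => first h hc hf hv)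
    (fun v hv hv' => second h hc hf hv hv') ?_ ?_ ?_ ?_
  · rw [Ws_eq, Us_eq]; exact gl_mono (by decide)
  · intro w hw
    rcases hW hw with rfl | rfl | rfl | rfl
    · exact one_mul 1
    · exact h22
    · exact h44
    · calc x 2 (1 : E) * x 4 1 * (x 2 1 * x 4 1) = x 2 1 * (x 4 1 * x 2 1) * x 4 1 := by group
        _ = (x 2 1 * x 2 1) * (x 4 1 * x 4 1) := by rw [← h24]; group
        _ = 1 := by rw [h22, h44, one_mul]
  · have h1 : ((Ws σ x : Subgroup G) : Set G) ⊆ ({1, x 2 1, x 4 1, x 2 1 * x 4 1} : Set G) := fun w hw => hW hw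
    have h2 : Nat.card (Ws σ x) ≤ ({1, x 2 1, x 4 1, x 2 1 * x 4 1} : Set G).ncard :=
      Set.ncard_le_ncard h1 (Set.toFinite _)
    have h3 : ({1, x 2 1, x 4 1, x 2 1 * x 4 1} : Set G).ncard ≤ 4 := by
      classical
      have e : ({1, x 2 1, x 4 1, x 2 1 * x 4 1} : Set G) =
        (({1, x 2 1, x 4 1, x 2 1 * x 4 1} : Finset G) : Set G) := by simp
      rw [e, Set.ncard_coe_finset]
      exact Finset.card_le_four
    omega
  · intro u hu
    exact (SecOne.z4_comm h (SecBase.Us_le_P1 hu)).symm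
  · intro u hu hv
    exact AFacts.center_Us h hc hf hu fun v hv' => (hv v hv').symm
  · intro w hw
    rcases hW hw with rfl | rfl | rfl | rfl
    · rw [mul_one, mul_inv_cancel]; exact one_mem _
    · rw [r2]; exact m4
    · rw [r4]; exact m2
    · have e : nn x 6 * (x 2 1 * x 4 1) * (nn x 6)⁻¹ = nn x 6 * x 2 1 * (nn x 6)⁻¹ * (nn x 6 * x 4 1 * (nn x 6)⁻¹) := by
        group
      rw [e, r2, r4]
      exact mul_mem m4 m2
  · intro e
    have : nn x 6 * x 4 1 * (nn x 6)⁻¹ = x 4 1 := by rw [e, mul_inv_cancel_right]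
    exact hne (r4.symm.trans this)
  · intro h4
    exact index_odd h hc hf htop hZ ((by norm_num : (2 : ℕ) ∣ 4).trans h4)
  · rw [PF.card_Us h hc hf]; norm_num

open Cfsg.Lie in
/-- **`KTwo` for `³D₄(2)`.** -/
theorem main {K : Type*} [Field K] [Fintype K] (hK : Fintype.card K = 8) {X : Type*} [Group X]
    (e : X ≃* ↥(twistedD4 K 2)) : ∃ (S : Sylow 2 X) (V : Subgroup X), KTwo (S : Subgroup X) V := by
  have hp : Fact (Nat.Prime 2) := ⟨Nat.prime_two⟩
  have hs : IsSimpleGroup ↥(twistedD4 K 2) := (Cfsg.Agent.S1071.result (K := K) (q := 2) Nat.prime_two.isPrimePow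
    (by rw [hK]; norm_num)).1
  have hna := (Cfsg.Agent.S1071.result (K := K) (q := 2) Nat.prime_two.isPrimePow (by rw [hK]; norm_num)).2
  have hfin : Finite ↥(twistedD4 K 2) := inferInstance
  have : Finite X := Finite.of_equiv _ e.symm.toEquiv
  obtain ⟨σ, hσ, h3, hne, hcf⟩ := Cfsg.Agent.HexModel.Main.exists_sigma (K := K) (a := 1) le_rfl (by rw [hK]; norm_num)
  have h2 : (2 : K) = 0 := Cfsg.Agent.HexModel.Main.two_eq_zero (n := 3) (by rw [hK]; norm_num)
  have hσ' : ∀ c, σ c = c ^ 2 := fun c => by rw [hσ]; norm_num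
  have hf : ∀ a, σ a = a → a = 0 ∨ a = 1 := by
    intro a ha
    rw [hσ', pow_two] at ha
    by_cases h0 : a = 0
    · exact Or.inl h0
    · right
      exact mul_left_cancel₀ h0 (ha.trans (mul_one a).symm)
  have hc : Nat.card K = 8 := by rw [Nat.card_eq_fintype_card, hK]
  have h := Cfsg.Agent.HexModel.Main.d4_hexTwo (q := 2) hσ' h2 h3
  have htop := Cfsg.Agent.HexModel.Main.d4_top (q := 2) hσ' h2
  have hZ : Subgroup.center ↥(twistedD4 K 2) = ⊥ := by
    rcases hs.eq_bot_or_eq_top_of_normal (Subgroup.center ↥(twistedD4 K 2)) inferInstance with h1 | h1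
    · exact h1
    · exfalso
      refine hna ⟨⟨fun a b => ?_⟩⟩
      have ha : b ∈ Subgroup.center ↥(twistedD4 K 2) := by rw [h1]; trivial
      exact Subgroup.mem_center_iff.1 ha a
  have hk := kTwo h hc hf htop hZ
  have hsyl := AFacts.isSyl_Us h hc hf
  rw [htop] at hsyl
  let S : Sylow 2 ↥(twistedD4 K 2) :=
    { toSubgroup := Us σ (Cfsg.Agent.HexModel.Main.yy σ 2)
      isPGroup' := hsyl.two
      is_maximal' := fun hQ hle => hsyl.max _ hQ le_top hle }
  have h1 : IsPGroup 2 ((S : Subgroup ↥(twistedD4 K 2)).map e.symm.toMonoidHom) := S.isPGroup'.map _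
  have h2' : ¬ 2 ∣ ((S : Subgroup ↥(twistedD4 K 2)).map e.symm.toMonoidHom).index := by
    have h3' := Subgroup.index_map_equiv (S : Subgroup ↥(twistedD4 K 2)) e.symm
    have h4' : ((S : Subgroup ↥(twistedD4 K 2)).map e.symm.toMonoidHom).index =
      (S : Subgroup ↥(twistedD4 K 2)).index := h3'
    rw [h4']
    exact S.not_dvd_index
  exact ⟨h1.toSylow h2', _, hk.map_equiv e.symm⟩

end KTwoTri

end Cfsg.Agent.OddHalf.Quat
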