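import Cfsg.Agent.OddHalf.Quat.KTwoOf
import Cfsg.Agent.ClassicalGeometry.PSUAutMain
import Cfsg.Agent.S0280
import Cfsg.Agent.S0283
import Cfsg.Agent.S0815

/-!
# `KTwo` for `PSUₙ(2)`, `n ≥ 6`

`L` a totally isotropic line; `NN L` the group of the isometries trivial on `L` and `L^⊥ / L`; `VV L` the group of
the isometries trivial on `L^⊥`; `U` a Sylow 2-subgroup of the stabilizer of `L`.
-/

set_option autoImplicit false
set_option linter.unusedSectionVars false

namespace Cfsg.Agent.OddHalf.Quat.KTwoU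

open Cfsg Cfsg.Agent.LieClassical.HermBasic Cfsg.Agent.LieClassical.HermSiegel
  Cfsg.Agent.LieClassical.HermGen Cfsg.Agent.LieClassical.SUBasic Matrix
  Cfsg.Agent.ClassicalGeometry.PSUAutBasic Cfsg.Agent.ClassicalGeometry.PSUAutSylow
open Cfsg.Agent.ClassicalGeometry.PSUAutCount (gm semiConj toAut herm_gm act_semiConj herm_semi
  gm_inv_mulVec gm_mulVec_inv herm_map)
open Cfsg.Agent.ClassicalGeometry.PSUAutMain (exists_toAut toAut_pr')

variable {F : Type*} [Field F] {n : ℕ}

/-- orthogonal to `L` -/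
def Orth (L : Submodule F (Fin n → F)) (w : Fin n → F) : Prop := ∀ y ∈ L, hermForm n F 2 w y = 0

/-- `L` is totally isotropic and equal to `L^⊥⊥` -/
structure TIso (L : Submodule F (Fin n → F)) : Prop where
  iso : ∀ x ∈ L, ∀ y ∈ L, hermForm n F 2 x y = 0
  dbl : ∀ z, Orth L z → z ∉ L → ∃ w, Orth L w ∧ hermForm n F 2 z w ≠ 0

/-- the stabilizer of `L` -/
def St (L : Submodule F (Fin n → F)) : Subgroup (SU n F 2) where
  carrier := {g | ∀ y, act g y ∈ L ↔ y ∈ L}
  one_mem' := fun y => by rw [act_one]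
  mul_mem' := fun {g h} hg hh y => by rw [act_mul]; exact (hg _).trans (hh y)
  inv_mem' := fun {g} hg y => by
    have h1 := hg (act g⁻¹ y)
    rw [act_act_inv] at h1
    exact h1.symm

theorem mem_St {L : Submodule F (Fin n → F)} {g : SU n F 2} : g ∈ St L ↔ ∀ y, act g y ∈ L ↔ y ∈ L := Iff.rfl

/-- trivial on `L` and `L^⊥ / L` -/
def NN (L : Submodule F (Fin n → F)) : Subgroup (SU n F 2) where
  carrier := {g | (∀ y ∈ L, act g y = y) ∧ ∀ w, Orth L w → act g w - w ∈ L}
  one_mem' := ⟨fun y _ => act_one y, fun w _ => by rw [act_one, sub_self]; exact L.zero_mem⟩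
  mul_mem' := fun {g h} hg hh => ⟨fun y hy => by rw [act_mul, hh.1 y hy, hg.1 y hy], fun w hw => by
    have h1 : act (g * h) w - w = act g (act h w - w) + (act g w - w) := by rw [act_mul, act_sub]; abel
    rw [h1, hg.1 _ (hh.2 w hw)]
    exact L.add_mem (hh.2 w hw) (hg.2 w hw)⟩
  inv_mem' := fun {g} hg => by
    have h0 : ∀ y ∈ L, act g⁻¹ y = y := fun y hy => ((act_eq_iff g).1 (hg.1 y hy)).symm
    refine ⟨h0, fun w hw => ?_⟩
    have h2 := h0 _ (hg.2 w hw)
    rw [act_sub, act_inv_act] at h2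
    have h1 : act g⁻¹ w - w = -(act g w - w) := by rw [← h2]; abel
    rw [h1]
    exact L.neg_mem (hg.2 w hw)

/-- trivial on `L^⊥` -/
def VV (L : Submodule F (Fin n → F)) : Subgroup (SU n F 2) where
  carrier := {g | ∀ w, Orth L w → act g w = w}
  one_mem' := fun w _ => act_one w
  mul_mem' := fun {g h} hg hh w hw => by rw [act_mul, hh w hw, hg w hw]
  inv_mem' := fun {g} hg w hw => ((act_eq_iff g).1 (hg w hw)).symm

theorem mem_VV {L : Submodule F (Fin n → F)} {g : SU n F 2} : g ∈ VV L ↔ ∀ w, Orth L w → act g w = w := Iff.rfl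

theorem VV_le_NN {L : Submodule F (Fin n → F)} (hL : TIso L) : VV L ≤ NN L := by
  intro g hg
  exact ⟨fun y hy => hg y (hL.iso y hy), fun w hw => by rw [hg w hw, sub_self]; exact L.zero_mem⟩

variable [Fintype F] (hF : Fintype.card F = 2 ^ 2)
include hF

theorem char_two (x : F) : x + x = 0 := by
  have : Fact (Nat.Prime 2) := ⟨Nat.prime_two⟩
  have : CharP F 2 := charP_of_card_eq_prime_pow hF
  exact CharTwo.add_self_eq_zero x

theorem vec_two (x : Fin n → F) : x + x = 0 := funext fun i => char_two hF (x i)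

theorem pow_four {L : Submodule F (Fin n → F)} {g : SU n F 2} (hg : g ∈ NN L) : g ^ 4 = 1 := by
  apply ext_act
  intro v
  rw [act_one]
  set d := act g v - v with hd
  have h1 : act g v = v + d := by rw [hd]; abel
  have hdo : Orth L d := by
    intro y hy
    rw [hd, herm_sub_left]
    have h2 : hermForm n F 2 (act g v) y = hermForm n F 2 v y := by
      conv_lhs => rw [← hg.1 y hy]
      exact herm_act g v y
    rw [h2, sub_self]
  set e := act g d - d with he
  have h2 : act g d = d + e := by rw [he]; abel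
  have heL : e ∈ L := hg.2 d hdo
  have h3 : act g e = e := hg.1 e heL
  have h4 : act g (act g v) = v + e := by
    rw [h1, act_add, h1, h2]
    calc v + d + (d + e) = v + e + (d + d) := by abel
      _ = v + e := by rw [vec_two hF d, add_zero]
  have h5 : act g (act g (v + e)) = v := by
    rw [act_add, act_add, h3, h3, h4, add_assoc, vec_two hF e, add_zero]
  have h6 : act (g ^ 4) v = act g (act g (act g (act g v))) := by
    rw [show g ^ 4 = g * (g * (g * g)) by rw [pow_succ', pow_succ', pow_two], act_mul, act_mul, act_mul]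
  rw [h6, h4, h5]

theorem siegel_mem {L : Submodule F (Fin n → F)} (hL : TIso L) {y w : Fin n → F} {μ : F}
    (h : IsSiegel 2 y w μ) (hy : y ∈ L) (hw : Orth L w) : siegel hF y w μ h ∈ NN L := by
  constructor
  · intro z hz
    apply act_siegel_of_orth hF h (hL.iso z hz y hy)
    exact herm_eq_zero_swap hF (hw z hz)
  · intro z hz
    rw [act_siegel, hz y hy, zero_smul, add_zero, add_sub_cancel_left]
    exact L.smul_mem _ hy

theorem exists_isSiegel' {L : Submodule F (Fin n → F)} (hL : TIso L) {y w : Fin n → F} (hy : y ∈ L)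
    (hw : hermForm n F 2 w y = 0) : ∃ μ, IsSiegel 2 y w μ := by
  obtain ⟨μ, hμ⟩ := exists_trace_eq hF (c := -hermForm n F 2 w w)
    (by rw [neg_pow_q hF, herm_self_pow hF])
  exact ⟨μ, hL.iso y hy y hy, hw, by rw [hμ]; ring⟩

theorem transv_mem {L : Submodule F (Fin n → F)} {y : Fin n → F} (hy : y ∈ L)
    (hyy : hermForm n F 2 y y = 0) {μ : F} (hμ : μ + μ ^ 2 = 0) : transv hF y hyy μ hμ ∈ VV L := by
  intro w hw
  rw [act_transv, hw y hy, mul_zero, zero_smul, add_zero]

/-- a totally isotropic subspace which is invariant under `NN L` and is not contained in `L` contains `L` -/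
theorem le_of_inv {L : Submodule F (Fin n → F)} (hL : TIso L) {M : Submodule F (Fin n → F)}
    (hM : ∀ x ∈ M, ∀ y ∈ M, hermForm n F 2 x y = 0) (hinv : ∀ g ∈ NN L, ∀ y ∈ M, act g y ∈ M)
    {z : Fin n → F} (hz : z ∈ M) (hzL : z ∉ L) : L ≤ M := by
  have h1 : Orth L z := by
    intro y hy
    by_contra h0
    obtain ⟨μ, hμ0, hμ⟩ := exists_trace_zero_ne hF
    have h2 := hinv _ (VV_le_NN hL (transv_mem hF hy (hL.iso y hy y hy) hμ)) z hz
    rw [act_transv] at h2
    have h3 := M.sub_mem h2 hz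
    rw [add_sub_cancel_left] at h3
    have h4 : y ∈ M := by
      rwa [Submodule.smul_mem_iff _ (mul_ne_zero hμ0 h0)] at h3
    exact h0 (hM z hz y h4)
  obtain ⟨w, hw, hzw⟩ := hL.dbl z h1 hzL
  intro y hy
  obtain ⟨μ, hs⟩ := exists_isSiegel' hF hL hy (hw y hy)
  have h2 := hinv _ (siegel_mem hF hL hs hy hw) z hz
  rw [act_siegel, h1 y hy, zero_smul, add_zero, mul_zero, zero_sub] at h2
  have h3 := M.sub_mem h2 hz
  rw [add_sub_cancel_left] at h3
  rwa [Submodule.smul_mem_iff _ (neg_ne_zero.2 hzw)] at h3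

/-- uniqueness -/
theorem eq_of_inv {L : Submodule F (Fin n → F)} (hL : TIso L) {M : Submodule F (Fin n → F)}
    (hM : ∀ x ∈ M, ∀ y ∈ M, hermForm n F 2 x y = 0) (hinv : ∀ g ∈ NN L, ∀ y ∈ M, act g y ∈ M)
    (hc : Nat.card M = Nat.card L) : M = L := by
  by_cases h : M ≤ L
  · apply SetLike.coe_injective
    exact Set.eq_of_subset_of_ncard_le h (by
      rw [← Nat.card_coe_set_eq, ← Nat.card_coe_set_eq]; exact hc.ge) (Set.toFinite _)
  · obtain ⟨z, hz, hzL⟩ := SetLike.not_le_iff_exists.1 h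
    have h1 := le_of_inv hF hL hM hinv hz hzL
    symm
    apply SetLike.coe_injective
    exact Set.eq_of_subset_of_ncard_le h1 (by
      rw [← Nat.card_coe_set_eq, ← Nat.card_coe_set_eq]; exact hc.le) (Set.toFinite _)

/-- vectors fixed by `NN L` -/
theorem mem_of_fixed {L : Submodule F (Fin n → F)} (hL : TIso L) (h0 : ∃ y ∈ L, y ≠ 0) {z : Fin n → F}
    (hfix : ∀ g ∈ NN L, act g z = z) : z ∈ L := by
  have h1 : Orth L z := by
    intro y hy
    by_contra h0
    obtain ⟨μ, hμ0, hμ⟩ := exists_trace_zero_ne hF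
    have h2 := hfix _ (VV_le_NN hL (transv_mem hF hy (hL.iso y hy y hy) hμ))
    rw [act_transv] at h2
    have h3 := add_eq_left.1 h2
    rcases smul_eq_zero.1 h3 with h | h
    · exact mul_ne_zero hμ0 h0 h
    · rw [h, herm_zero_right hF] at h0
      exact h0 rfl
  by_contra hzL
  obtain ⟨w, hw, hzw⟩ := hL.dbl z h1 hzL
  obtain ⟨y, hy, hy0⟩ := h0
  obtain ⟨μ, hs⟩ := exists_isSiegel' hF hL hy (hw y hy)
  have h2 := hfix _ (siegel_mem hF hL hs hy hw)
  rw [act_siegel, h1 y hy, zero_smul, add_zero, mul_zero, zero_sub] at h2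
  have h3 := add_eq_left.1 h2
  rcases smul_eq_zero.1 h3 with h | h
  · exact hzw (neg_eq_zero.1 h)
  · exact hy0 h

theorem isPGroup_NN (L : Submodule F (Fin n → F)) : IsPGroup 2 (NN L) := by
  rintro ⟨g, hg⟩
  exact ⟨2, Subtype.ext (by
    have h1 := pow_four hF hg
    simpa using h1)⟩

theorem NN_le_St {L : Submodule F (Fin n → F)} : NN L ≤ St L := by
  intro g hg y
  constructor
  · intro h
    have h1 := (NN L).inv_mem hg
    have h2 := h1.1 _ h
    rw [act_inv_act] at h2
    rw [h2]; exact h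
  · intro h
    rw [hg.1 y h]; exact h

omit hF [Fintype F] [Field F] in
/-- a subgroup of a `p`-group which contains all elements which normalise it -/
theorem eq_of_normalizer {G : Type*} [Group G] [Finite G] {p : ℕ} [Fact p.Prime] {P T : Subgroup G}
    (hT : IsPGroup p T) (hPT : P ≤ T) (h : ∀ g ∈ T, (∀ s ∈ P, g * s * g⁻¹ ∈ P) → (∀ s ∈ P, g⁻¹ * s * g ∈ P) → g ∈ P) :
    P = T := by
  have h1 := hT.isNilpotent
  have h2 := Group.normalizerCondition_of_isNilpotent (G := T)
  by_contra h0
  have h3 : P.subgroupOf T < ⊤ := by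
    rw [lt_top_iff_ne_top]
    intro h4
    rw [Subgroup.subgroupOf_eq_top] at h4
    exact h0 (le_antisymm hPT h4)
  obtain ⟨g, hg, hg'⟩ := SetLike.exists_of_lt (h2 _ h3)
  apply hg'
  rw [Subgroup.mem_subgroupOf]
  rw [Subgroup.mem_normalizer_iff] at hg
  refine h g g.2 ?_ ?_
  · intro s hs
    exact Subgroup.mem_subgroupOf.1 ((hg ⟨s, hPT hs⟩).1 (Subgroup.mem_subgroupOf.2 hs))
  · intro s hs
    have h5 := (hg (g⁻¹ * ⟨s, hPT hs⟩ * g)).2 (by
      rw [show g * (g⁻¹ * ⟨s, hPT hs⟩ * g) * g⁻¹ = (⟨s, hPT hs⟩ : T) by group]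
      exact Subgroup.mem_subgroupOf.2 hs)
    exact Subgroup.mem_subgroupOf.1 h5

/-- the image of `L` under `g` -/
def im (g : SU n F 2) (L : Submodule F (Fin n → F)) : Submodule F (Fin n → F) where
  carrier := {v | act g⁻¹ v ∈ L}
  zero_mem' := by
    change act g⁻¹ 0 ∈ L
    rw [act_zero]; exact L.zero_mem
  add_mem' := fun {x y} hx hy => by
    change act g⁻¹ (x + y) ∈ L
    rw [act_add]; exact L.add_mem hx hy
  smul_mem' := fun c x hx => by
    change act g⁻¹ (c • x) ∈ L
    rw [act_smul]; exact L.smul_mem c hx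

omit hF [Fintype F] in
theorem mem_im {g : SU n F 2} {L : Submodule F (Fin n → F)} {v : Fin n → F} : v ∈ im g L ↔ act g⁻¹ v ∈ L := Iff.rfl

/-- a Sylow subgroup -/
theorem exists_sylow {L : Submodule F (Fin n → F)} (hL : TIso L) :
    ∃ S : Sylow 2 (SU n F 2), (S : Subgroup (SU n F 2)) ≤ St L ∧ NN L ≤ (S : Subgroup (SU n F 2)) := by
  have hp : Fact (Nat.Prime 2) := ⟨Nat.prime_two⟩
  have h1 : IsPGroup 2 ((NN L).subgroupOf (St L)) :=
    (isPGroup_NN hF L).comap_subtype
  obtain ⟨P, hP⟩ := h1.exists_le_sylow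
  set P1 : Subgroup (SU n F 2) := (P : Subgroup (St L)).map (St L).subtype with hP1
  have hP1S : P1 ≤ St L := by
    rintro _ ⟨x, hx, rfl⟩
    exact x.2
  have hNP : NN L ≤ P1 := by
    intro g hg
    exact ⟨⟨g, NN_le_St hF hg⟩, hP (Subgroup.mem_subgroupOf.2 hg), rfl⟩
  have hP1p : IsPGroup 2 P1 := P.isPGroup'.map _
  obtain ⟨T, hT⟩ := hP1p.exists_le_sylow
  have hmax : ∀ Q : Subgroup (SU n F 2), IsPGroup 2 Q → P1 ≤ Q → Q ≤ St L → Q ≤ P1 := by
    intro Q hQ hPQ hQS
    have h2 : IsPGroup 2 (Q.subgroupOf (St L)) := hQ.comap_subtype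
    have h3 := P.is_maximal' h2 (by
      intro x hx
      exact Subgroup.mem_subgroupOf.2 (hPQ ⟨x, hx, rfl⟩))
    intro g hg
    refine ⟨⟨g, hQS hg⟩, ?_, rfl⟩
    have h4 : (⟨g, hQS hg⟩ : St L) ∈ Q.subgroupOf (St L) := Subgroup.mem_subgroupOf.2 hg
    rw [h3] at h4
    exact h4
  have hnorm : ∀ g : SU n F 2, (∀ s ∈ P1, g * s * g⁻¹ ∈ P1) → (∀ s ∈ P1, g⁻¹ * s * g ∈ P1) → g ∈ St L := by
    intro g _ h2
    have h3 : im g L = L := by
      apply eq_of_inv hF hL
      · intro x hx y hy
        rw [← herm_act g⁻¹]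
        exact hL.iso _ hx _ hy
      · intro s hs y hy
        rw [mem_im] at hy ⊢
        have h4 := (hP1S (h2 s (hNP hs)) (act g⁻¹ y)).2 hy
        rwa [act_mul, act_mul, act_act_inv] at h4
      · refine Nat.card_congr ⟨fun v => ⟨act g⁻¹ v.1, v.2⟩, fun v => ⟨act g v.1, ?_⟩, ?_, ?_⟩
        · rw [mem_im, act_inv_act]; exact v.2
        · intro v; exact Subtype.ext (act_act_inv g v.1)
        · intro v; exact Subtype.ext (act_inv_act g v.1)
    intro y
    rw [← h3, mem_im, act_inv_act, h3]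
  have hPT : P1 = T := by
    apply eq_of_normalizer (p := 2) T.isPGroup' hT
    intro g hg h2 h3
    have h4 := hnorm g h2 h3
    -- `P1 ⊔ ⟨g⟩`
    have h5 : P1 ⊔ Subgroup.zpowers g ≤ (T : Subgroup (SU n F 2)) := by
      rw [sup_le_iff, Subgroup.zpowers_le]
      exact ⟨hT, hg⟩
    have h6 : P1 ⊔ Subgroup.zpowers g ≤ St L := by
      rw [sup_le_iff, Subgroup.zpowers_le]
      exact ⟨hP1S, h4⟩
    have h7 := hmax _ (T.isPGroup'.to_le h5) le_sup_left h6
    exact h7 (le_sup_right (a := P1) (Subgroup.mem_zpowers g))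
  refine ⟨T, ?_, ?_⟩
  · rw [← hPT]; exact hP1S
  · rw [← hPT]; exact hNP

/-! ### A totally isotropic line -/

/-- dual bases -/
structure Dual (a b f g : Fin n → F) : Prop where
  aa : hermForm n F 2 a a = 0
  ab : hermForm n F 2 a b = 0
  bb : hermForm n F 2 b b = 0
  af : hermForm n F 2 a f = 1
  ag : hermForm n F 2 a g = 0
  bf : hermForm n F 2 b f = 0
  bg : hermForm n F 2 b g = 1

theorem exists_dual (hn : 4 ≤ n) : ∃ a b f g : Fin n → F, Dual a b f g := by
  obtain ⟨a, f, H⟩ := exists_frame (F := F) (q := 2) (n := n) hF (by omega)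
  let i : Fin n := ⟨0, by omega⟩
  let j : Fin n := ⟨1, by omega⟩
  have hij : i ≠ j := by simp [i, j]
  obtain ⟨b, g, x, y, -, hb, hg, hbb, -, hbg⟩ := exists_hyp_pair (q := 2) hF hij
  have hi : (Pi.single i 1 : Fin n → F) ∈ coordSub F n (n - 2) := single_mem_coordSub (by simp [i]; omega) 1
  have hj : (Pi.single j 1 : Fin n → F) ∈ coordSub F n (n - 2) := single_mem_coordSub (by simp [j]; omega) 1
  have hbm : b ∈ coordSub F n (n - 2) := by
    rw [hb]; exact Submodule.add_mem _ hi (Submodule.smul_mem _ _ hj)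
  have hgm : g ∈ coordSub F n (n - 2) := by
    rw [hg]; exact Submodule.add_mem _ hi (Submodule.smul_mem _ _ hbm)
  have h1 := (H.mem b).1 hbm
  have h2 := (H.mem g).1 hgm
  exact ⟨a, b, f, g, H.ee, herm_eq_zero_swap hF h1.1, hbb, H.ef, herm_eq_zero_swap hF h2.1, h1.2, hbg⟩

omit hF [Fintype F] in
theorem mem_span {a b v : Fin n → F} : v ∈ Submodule.span F {a, b} ↔ ∃ s t : F, v = s • a + t • b := by
  rw [Submodule.mem_span_pair]
  constructor
  · rintro ⟨s, t, h⟩; exact ⟨s, t, h.symm⟩
  · rintro ⟨s, t, h⟩; exact ⟨s, t, h.symm⟩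

theorem herm_swap' (u v : Fin n → F) : hermForm n F 2 v u = hermForm n F 2 u v ^ 2 := herm_swap hF u v

theorem orth_iff {a b w : Fin n → F} : Orth (Submodule.span F {a, b}) w ↔
    hermForm n F 2 w a = 0 ∧ hermForm n F 2 w b = 0 := by
  constructor
  · intro h
    exact ⟨h a (Submodule.subset_span (by simp)), h b (Submodule.subset_span (by simp))⟩
  · rintro ⟨h1, h2⟩ y hy
    obtain ⟨s, t, rfl⟩ := mem_span.1 hy
    rw [herm_add_right hF, herm_smul_right, herm_smul_right, h1, h2]
    ring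

theorem tiso {a b f g : Fin n → F} (D : Dual a b f g) : TIso (Submodule.span F {a, b}) := by
  have hfa : hermForm n F 2 f a = 1 := by rw [herm_swap' hF a f, D.af, one_pow]
  have hgb : hermForm n F 2 g b = 1 := by rw [herm_swap' hF b g, D.bg, one_pow]
  have hga : hermForm n F 2 g a = 0 := herm_eq_zero_swap hF D.ag
  have hfb : hermForm n F 2 f b = 0 := herm_eq_zero_swap hF D.bf
  have hba : hermForm n F 2 b a = 0 := herm_eq_zero_swap hF D.ab
  constructor
  · intro x hx y hy
    obtain ⟨s, t, rfl⟩ := mem_span.1 hx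
    obtain ⟨s', t', rfl⟩ := mem_span.1 hy
    simp only [herm_add_left, herm_add_right hF, herm_smul_left, herm_smul_right, D.aa, D.ab, D.bb, hba]
    ring
  · intro z hz hzL
    obtain ⟨hza, hzb⟩ := (orth_iff hF).1 hz
    set z' := z - hermForm n F 2 z f • a - hermForm n F 2 z g • b with hz'
    have h0 : z' ≠ 0 := by
      intro h0
      apply hzL
      rw [mem_span]
      refine ⟨hermForm n F 2 z f, hermForm n F 2 z g, ?_⟩
      have h1 : z = z' + (hermForm n F 2 z f • a + hermForm n F 2 z g • b) := by rw [hz']; abel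
      rw [h0, zero_add] at h1
      exact h1
    obtain ⟨v, hv⟩ := exists_herm_ne_zero hF h0
    set w := v - hermForm n F 2 v a • f - hermForm n F 2 v b • g with hw
    have hwa : hermForm n F 2 w a = 0 := by
      rw [hw, herm_sub_left, herm_sub_left, herm_smul_left, herm_smul_left, hfa, hga]; ring
    have hwb : hermForm n F 2 w b = 0 := by
      rw [hw, herm_sub_left, herm_sub_left, herm_smul_left, herm_smul_left, hfb, hgb]; ring
    refine ⟨w, (orth_iff hF).2 ⟨hwa, hwb⟩, ?_⟩
    have hzf : hermForm n F 2 z' f = 0 := by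
      rw [hz', herm_sub_left, herm_sub_left, herm_smul_left, herm_smul_left, D.af, D.bf]; ring
    have hzg : hermForm n F 2 z' g = 0 := by
      rw [hz', herm_sub_left, herm_sub_left, herm_smul_left, herm_smul_left, D.ag, D.bg]; ring
    have h2 : hermForm n F 2 z' w = hermForm n F 2 z' v := by
      rw [hw, herm_sub_right hF, herm_sub_right hF, herm_smul_right, herm_smul_right, hzf, hzg]; ring
    have h3 : hermForm n F 2 z w = hermForm n F 2 z' w := by
      rw [hz', herm_sub_left, herm_sub_left, herm_smul_left, herm_smul_left, herm_eq_zero_swap hF hwa,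
        herm_eq_zero_swap hF hwb]
      ring
    rw [h3, h2]
    exact hv

/-- `VV L` has order at most `16` -/
theorem card_VV {a b f g : Fin n → F} (D : Dual a b f g) :
    Nat.card (VV (Submodule.span F {a, b})) ≤ 16 ∧ ∀ x ∈ VV (Submodule.span F {a, b}), x * x = 1 := by
  have hfa : hermForm n F 2 f a = 1 := by rw [herm_swap' hF a f, D.af, one_pow]
  have hgb : hermForm n F 2 g b = 1 := by rw [herm_swap' hF b g, D.bg, one_pow]
  have hga : hermForm n F 2 g a = 0 := herm_eq_zero_swap hF D.ag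
  have hfb : hermForm n F 2 f b = 0 := herm_eq_zero_swap hF D.bf
  have hL := tiso hF D
  set L := Submodule.span F {a, b} with hLdef
  have hd : ∀ x ∈ VV L, ∀ v, act x v - v ∈ L := by
    intro x hx v
    by_contra h0
    have h1 : Orth L (act x v - v) := by
      intro y hy
      rw [herm_sub_left]
      have h2 : hermForm n F 2 (act x v) y = hermForm n F 2 v y := by
        conv_lhs => rw [← hx y (hL.iso y hy)]
        exact herm_act x v y
      rw [h2, sub_self]
    obtain ⟨w, hw, hw'⟩ := hL.dbl _ h1 h0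
    apply hw'
    rw [herm_sub_left]
    have h2 : hermForm n F 2 (act x v) w = hermForm n F 2 v w := by
      conv_lhs => rw [← hx w hw]
      exact herm_act x v w
    rw [h2, sub_self]
  have hfixL : ∀ x ∈ VV L, ∀ v ∈ L, act x v = v := fun x hx v hv => hx v (hL.iso v hv)
  constructor
  · -- injection
    have hdec : ∀ v ∈ L, v = hermForm n F 2 v f • a + hermForm n F 2 v g • b := by
      intro v hv
      obtain ⟨s, t, rfl⟩ := mem_span.1 hv
      simp only [herm_add_left, herm_smul_left, D.af, D.ag, D.bf, D.bg]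
      simp
    have hself : ∀ x ∈ VV L, ∀ v, hermForm n F 2 (act x v - v) v ^ 2 = hermForm n F 2 (act x v - v) v := by
      intro x hx v
      set d := act x v - v with hdd
      have h1 : act x v = v + d := by rw [hdd]; abel
      have h2 := herm_act x v v
      rw [h1, herm_add_left, herm_add_right hF, herm_add_right hF, hL.iso d (hd x hx v) d (hd x hx v), add_zero,
        herm_swap' hF d v] at h2
      have h3 : hermForm n F 2 d v ^ 2 + hermForm n F 2 d v = 0 := by
        linear_combination h2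
      have h4 := char_two hF (hermForm n F 2 d v)
      linear_combination h3 - h4
    have hcross : ∀ x ∈ VV L, hermForm n F 2 (act x g - g) f = hermForm n F 2 (act x f - f) g ^ 2 := by
      intro x hx
      set d := act x f - f with hdd
      set d' := act x g - g with hdd'
      have h1 : act x f = f + d := by rw [hdd]; abel
      have h1' : act x g = g + d' := by rw [hdd']; abel
      have h2 := herm_act x g f
      rw [h1, h1', herm_add_left, herm_add_right hF, herm_add_right hF, hL.iso d' (hd x hx g) d (hd x hx f),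
        add_zero, herm_swap' hF d g] at h2
      have h4 := char_two hF (hermForm n F 2 d g ^ 2)
      linear_combination h2 - h4
    let Φ : VV L → {x : F // x ^ 2 = x} × F × {x : F // x ^ 2 = x} := fun x =>
      (⟨hermForm n F 2 (act x.1 f - f) f, hself x.1 x.2 f⟩, hermForm n F 2 (act x.1 f - f) g,
        ⟨hermForm n F 2 (act x.1 g - g) g, hself x.1 x.2 g⟩)
    have hΦ : Function.Injective Φ := by
      rintro ⟨x, hx⟩ ⟨x', hx'⟩ h
      rw [Prod.ext_iff, Prod.ext_iff] at h
      obtain ⟨h1, h2, h3⟩ := h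
      have h1' : hermForm n F 2 (act x f - f) f = hermForm n F 2 (act x' f - f) f := congrArg Subtype.val h1
      have h2' : hermForm n F 2 (act x f - f) g = hermForm n F 2 (act x' f - f) g := h2
      have h3' : hermForm n F 2 (act x g - g) g = hermForm n F 2 (act x' g - g) g := congrArg Subtype.val h3
      have h4' : hermForm n F 2 (act x g - g) f = hermForm n F 2 (act x' g - g) f := by
        rw [hcross x hx, hcross x' hx', h2']
      have hf : act x f = act x' f := by
        have h5 := hdec _ (hd x hx f)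
        have h6 := hdec _ (hd x' hx' f)
        rw [h1', h2', ← h6] at h5
        exact sub_left_inj.1 h5
      have hg : act x g = act x' g := by
        have h5 := hdec _ (hd x hx g)
        have h6 := hdec _ (hd x' hx' g)
        rw [h4', h3', ← h6] at h5
        exact sub_left_inj.1 h5
      apply Subtype.ext
      apply ext_act
      intro v
      set w := v - hermForm n F 2 v a • f - hermForm n F 2 v b • g with hw
      have hwo : Orth L w := by
        rw [hLdef, orth_iff hF]
        constructor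
        · rw [hw, herm_sub_left, herm_sub_left, herm_smul_left, herm_smul_left, hfa, hga]; ring
        · rw [hw, herm_sub_left, herm_sub_left, herm_smul_left, herm_smul_left, hfb, hgb]; ring
      have hv : v = w + hermForm n F 2 v a • f + hermForm n F 2 v b • g := by rw [hw]; abel
      rw [hv, act_add, act_add, act_smul, act_smul, act_add, act_add, act_smul, act_smul, hf, hg, hx w hwo,
        hx' w hwo]
    have h1 := Nat.card_le_card_of_injective Φ hΦ
    rw [Nat.card_prod, Nat.card_prod, card_fixed hF, Nat.card_eq_fintype_card (α := F), hF] at h1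
    omega
  · intro x hx
    apply ext_act
    intro v
    rw [act_mul, act_one]
    set d := act x v - v with hdd
    have h1 : act x v = v + d := by rw [hdd]; abel
    rw [h1, act_add, h1, hfixL x hx d (hd x hx v), add_assoc, vec_two hF, add_zero]

/-! ### Automorphisms -/

theorem inv_aux (hn : 3 ≤ n) (h32 : ¬ (n = 3 ∧ 2 = 2)) {L : Submodule F (Fin n → F)} (hL : TIso L)
    (S : Sylow 2 (SU n F 2)) (hSL : (S : Subgroup (SU n F 2)) ≤ St L) (hNS : NN L ≤ (S : Subgroup (SU n F 2)))
    (α : MulAut (PSU n F 2))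
    (hα : ∀ u ∈ (S : Subgroup (SU n F 2)).map (pr n F 2), α u ∈ (S : Subgroup (SU n F 2)).map (pr n F 2)) :
    ∀ x ∈ (VV L).map (pr n F 2), α x ∈ (VV L).map (pr n F 2) := by
  obtain ⟨A, ρ, rfl⟩ := exists_toAut hF hn h32 α
  set T : (Fin n → F) → (Fin n → F) := fun v => gm A *ᵥ fun i => ρ (v i) with hT
  set Ti : (Fin n → F) → (Fin n → F) := fun v => fun j => ρ.symm ((gm A⁻¹ *ᵥ v) j) with hTi
  have hTTi : ∀ v, T (Ti v) = v := by
    intro v
    have h1 : (fun i => ρ ((fun j => ρ.symm ((gm A⁻¹ *ᵥ v) j)) i)) = gm A⁻¹ *ᵥ v := by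
      funext i; simp
    rw [hT, hTi]
    change gm A *ᵥ (fun i => ρ ((fun j => ρ.symm ((gm A⁻¹ *ᵥ v) j)) i)) = v
    rw [h1, gm_mulVec_inv]
  have hTiT : ∀ v, Ti (T v) = v := by
    intro v
    funext j
    change ρ.symm ((gm A⁻¹ *ᵥ (gm A *ᵥ fun i => ρ (v i))) j) = v j
    rw [gm_inv_mulVec, RingEquiv.symm_apply_apply]
  have hTi_add : ∀ v w, Ti (v + w) = Ti v + Ti w := by
    intro v w
    funext j
    change ρ.symm ((gm A⁻¹ *ᵥ (v + w)) j) = ρ.symm ((gm A⁻¹ *ᵥ v) j) + ρ.symm ((gm A⁻¹ *ᵥ w) j)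
    rw [mulVec_add, Pi.add_apply, map_add]
  have hTi_smul : ∀ (c : F) v, Ti (c • v) = ρ.symm c • Ti v := by
    intro c v
    funext j
    change ρ.symm ((gm A⁻¹ *ᵥ (c • v)) j) = ρ.symm c * ρ.symm ((gm A⁻¹ *ᵥ v) j)
    rw [mulVec_smul, Pi.smul_apply, smul_eq_mul, map_mul]
  have hT_herm : ∀ u v, hermForm n F 2 (T u) (T v) = ρ (hermForm n F 2 u v) := fun u v => herm_semi A ρ u v
  have hTi_herm : ∀ u v, hermForm n F 2 (Ti u) (Ti v) = ρ.symm (hermForm n F 2 u v) := by
    intro u v
    have h1 := hT_herm (Ti u) (Ti v)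
    rw [hTTi, hTTi] at h1
    rw [h1, RingEquiv.symm_apply_apply]
  have hsemi : ∀ (g : SU n F 2) v, act (semiConj A ρ g) v = T (act g (Ti v)) := by
    intro g v
    conv_lhs => rw [← hTTi v]
    exact act_semiConj A ρ g (Ti v)
  let M : Submodule F (Fin n → F) :=
    { carrier := {v | Ti v ∈ L}
      zero_mem' := by
        change Ti 0 ∈ L
        have h1 := hTi_smul 0 0
        rw [smul_zero, map_zero, zero_smul] at h1
        rw [h1]; exact L.zero_mem
      add_mem' := fun {x y} hx hy => by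
        change Ti (x + y) ∈ L
        rw [hTi_add]; exact L.add_mem hx hy
      smul_mem' := fun c x hx => by
        change Ti (c • x) ∈ L
        rw [hTi_smul]; exact L.smul_mem _ hx }
  have hMdef : ∀ v, v ∈ M ↔ Ti v ∈ L := fun v => Iff.rfl
  set U := (S : Subgroup (SU n F 2)).map (pr n F 2) with hU
  have hfin : Finite (PSU n F 2) := inferInstance
  have hsurj : U.map (toAut A ρ : PSU n F 2 →* PSU n F 2) = U := by
    apply Subgroup.eq_of_le_of_card_ge
    · rintro _ ⟨x, hx, rfl⟩
      exact hα x hx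
    · exact (Subgroup.card_map_of_injective (f := (toAut A ρ : PSU n F 2 →* PSU n F 2)) (toAut A ρ).injective).ge
  have hM : M = L := by
    apply eq_of_inv hF hL
    · intro x hx y hy
      have h1 := hT_herm (Ti x) (Ti y)
      rw [hTTi, hTTi, hL.iso _ hx _ hy, map_zero] at h1
      exact h1
    · intro s hs y hy
      have h1 : pr n F 2 s ∈ U.map (toAut A ρ : PSU n F 2 →* PSU n F 2) := by
        rw [hsurj]; exact ⟨s, hNS hs, rfl⟩
      obtain ⟨_, ⟨s', hs', rfl⟩, h2⟩ := h1
      have h3 : pr n F 2 (semiConj A ρ s') = pr n F 2 s := h2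
      obtain ⟨z, hz, h4⟩ := exists_center_mul h3
      obtain ⟨c, -, -, hc⟩ := exists_scalar_of_mem_center hF hn hz
      rw [hMdef] at hy ⊢
      rw [h4, act_mul, hc, hsemi, hTiT, hTi_smul]
      exact (hSL hs' _).2 (L.smul_mem _ hy)
    · refine Nat.card_congr ⟨fun v => ⟨Ti v.1, v.2⟩, fun v => ⟨T v.1, ?_⟩, ?_, ?_⟩
      · rw [hMdef, hTiT]; exact v.2
      · intro v; exact Subtype.ext (hTTi v.1)
      · intro v; exact Subtype.ext (hTiT v.1)
  rintro _ ⟨g, hg, rfl⟩
  refine ⟨semiConj A ρ g, ?_, rfl⟩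
  intro w hw
  have h1 : Orth L (Ti w) := by
    intro y hy
    have h2 : T y ∈ M := by rw [hMdef, hTiT]; exact hy
    rw [hM] at h2
    have h3 := hTi_herm w (T y)
    rw [hTiT, hw _ h2, map_zero] at h3
    exact h3
  rw [hsemi, hg _ h1, hTTi]

/-! ### The statement -/

theorem index_odd (hn : 3 ≤ n) (h32 : ¬ (n = 3 ∧ 2 = 2)) :
    ¬ 4 ∣ (MulAut.conj : PSU n F 2 →* MulAut (PSU n F 2)).range.index := by
  have : Fact (Nat.Prime 2) := ⟨Nat.prime_two⟩
  have h1 := Cfsg.Agent.S0815.result (F := F) 2 1 le_rfl (q := 2) (by norm_num) hF n hn h32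
  have hsimp : IsSimpleGroup (PSU n F 2) := Cfsg.Agent.S0283.result (q := 2) hF n hn h32
  have hcen : Subgroup.center (PSU n F 2) = ⊥ := by
    rcases Subgroup.Normal.eq_bot_or_eq_top (inferInstance : (Subgroup.center (PSU n F 2)).Normal) with h | h
    · exact h
    · exfalso
      obtain ⟨e, f, H⟩ := exists_frame (F := F) (q := 2) (n := n) hF (by omega)
      have he0 : e ≠ 0 := Cfsg.Agent.ClassicalGeometry.PSUAutPhi.frame_ne_zero H
      have hf0 : f ≠ 0 := Cfsg.Agent.ClassicalGeometry.PSUAutPhi.frame_ne_zero' hF H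
      have h2 := (RR_commute_iff hF hn he0 hf0 H.ee H.ff).1 (by
        intro x _ y _
        have h3 : y ∈ Subgroup.center (PSU n F 2) := by rw [h]; trivial
        exact Subgroup.mem_center_iff.1 h3 x)
      rw [H.ef] at h2
      exact one_ne_zero h2
  have hinj : Function.Injective (MulAut.conj : PSU n F 2 →* MulAut (PSU n F 2)) := by
    rw [injective_iff_map_eq_one]
    intro x hx
    have h2 : x ∈ Subgroup.center (PSU n F 2) := by
      rw [Subgroup.mem_center_iff]
      intro y
      have h3 := DFunLike.congr_fun hx y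
      rw [MulAut.conj_apply, MulAut.one_apply] at h3
      exact (mul_inv_eq_iff_eq_mul.1 h3).symm
    rwa [hcen, Subgroup.mem_bot] at h2
  have h2 : Nat.card (MulAut.conj : PSU n F 2 →* MulAut (PSU n F 2)).range = Nat.card (PSU n F 2) :=
    (Nat.card_congr (MonoidHom.ofInjective hinj).toEquiv).symm
  have h3 := (MulAut.conj : PSU n F 2 →* MulAut (PSU n F 2)).range.card_mul_index
  rw [h2, h1] at h3
  have h4 : 0 < Nat.card (PSU n F 2) := Nat.card_pos
  have h5 : (MulAut.conj : PSU n F 2 →* MulAut (PSU n F 2)).range.index = Nat.gcd n (2 + 1) * (2 * 1) := by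
    rw [mul_comm] at h3
    exact Nat.eq_of_mul_eq_mul_right h4 h3
  rw [h5]
  have h6 : Nat.gcd n (2 + 1) ∣ 3 := Nat.gcd_dvd_right _ _
  rcases (Nat.dvd_prime Nat.prime_three).1 h6 with h | h <;> rw [h] <;> norm_num

theorem card_sylow (hn : 6 ≤ n) (U : Sylow 2 (PSU n F 2)) : 512 < Nat.card (U : Subgroup (PSU n F 2)) := by
  have : Fact (Nat.Prime 2) := ⟨Nat.prime_two⟩
  have h1 := Cfsg.Agent.S0280.result (F := F) (q := 2) hF n (by omega)
  have h2 : 2 ^ 10 ∣ 2 ^ (n * (n - 1) / 2) := by
    apply pow_dvd_pow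
    have h3 : 6 * 5 ≤ n * (n - 1) := Nat.mul_le_mul hn (by omega)
    omega
  have h3 : 2 ^ 10 ∣ Nat.gcd n (2 + 1) * ((2 + 1) * Nat.card (Cfsg.PSU n F 2)) := by
    rw [h1]; exact h2.mul_right _
  have h4 : Nat.Coprime (2 ^ 10) (Nat.gcd n (2 + 1)) := by
    apply Nat.Coprime.pow_left
    exact Nat.Coprime.of_dvd_right (Nat.gcd_dvd_right n (2 + 1)) (by norm_num)
  have h5 := h4.dvd_of_dvd_mul_left h3
  have h6 : Nat.Coprime (2 ^ 10) (2 + 1) := by norm_num
  have h7 := h6.dvd_of_dvd_mul_left h5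
  have h8 := U.pow_dvd_card_of_pow_dvd_card h7
  have h9 := Nat.le_of_dvd Nat.card_pos h8
  calc 512 < 2 ^ 10 := by norm_num
    _ ≤ _ := h9

theorem main_aux (hn : 6 ≤ n) : ∃ (U : Sylow 2 (PSU n F 2)) (V : Subgroup (PSU n F 2)),
    KTwo (U : Subgroup (PSU n F 2)) V := by
  have hp : Fact (Nat.Prime 2) := ⟨Nat.prime_two⟩
  have hch : CharP F 2 := charP_of_card_eq_prime_pow hF
  obtain ⟨a, b, f, g, D⟩ := exists_dual hF (n := n) (by omega)
  have hL := tiso hF D
  obtain ⟨hcard, hsq⟩ := card_VV hF D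
  set L := Submodule.span F {a, b} with hLdef
  have haL : a ∈ L := Submodule.subset_span (by simp)
  have hbL : b ∈ L := Submodule.subset_span (by simp)
  have ha0 : a ≠ 0 := by
    rintro rfl
    have := D.af
    rw [herm_zero_left] at this
    exact zero_ne_one this
  have hb0 : b ≠ 0 := by
    rintro rfl
    have := D.bg
    rw [herm_zero_left] at this
    exact zero_ne_one this
  obtain ⟨S, hSL, hNS⟩ := exists_sylow hF hL
  obtain ⟨u, hu0, huu, hfix⟩ := exists_fixed 2 hF (by omega) S.isPGroup'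
  have huL : u ∈ L := mem_of_fixed hF hL ⟨a, haL, ha0⟩ fun g hg => hfix g (hNS hg)
  -- `x` and `y`
  obtain ⟨x, y, hxL, hx0, huy, hxy⟩ : ∃ x y : Fin n → F, x ∈ L ∧ x ≠ 0 ∧ hermForm n F 2 u y ≠ 0 ∧
      hermForm n F 2 x y = 0 := by
    obtain ⟨s, t, hst⟩ := mem_span.1 huL
    by_cases hs : s = 0
    · refine ⟨a, g, haL, ha0, ?_, D.ag⟩
      have ht : t ≠ 0 := by
        rintro rfl
        rw [hs] at hst
        apply hu0
        rw [hst]; simp
      rw [hst, herm_add_left, herm_smul_left, herm_smul_left, D.ag, D.bg, mul_zero, zero_add, mul_one]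
      exact ht
    · refine ⟨b, f, hbL, hb0, ?_, D.bf⟩
      rw [hst, herm_add_left, herm_smul_left, herm_smul_left, D.af, D.bf, mul_zero, add_zero, mul_one]
      exact hs
  have hcen := cent_sylow 2 hF (by omega) S hu0 huu hfix
  let U : Sylow 2 (PSU n F 2) := S.mapSurjective pr_surjective
  have hU : (U : Subgroup (PSU n F 2)) = (S : Subgroup (SU n F 2)).map (pr n F 2) := rfl
  have hone : (1 : F) + 1 ^ 2 = 0 := by rw [one_pow]; exact char_two hF 1
  set t := transv hF u huu 1 hone with ht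
  obtain ⟨μ, hμ⟩ := exists_isSiegel' hF hL hxL (herm_eq_zero_swap hF hxy)
  set R := siegel hF x y μ hμ with hR
  have hRact : ∀ z ∈ L, act R z = z - hermForm n F 2 z y • x := by
    intro z hz
    rw [hR, act_siegel, hL.iso z hz x hxL, zero_smul, add_zero, mul_zero, zero_sub, neg_smul, sub_eq_add_neg]
  have hRL : ∀ z ∈ L, act R z ∈ L := by
    intro z hz
    rw [hRact z hz]
    exact L.sub_mem hz (L.smul_mem _ hxL)
  refine ⟨U, (VV L).map (pr n F 2), ?_, ?_, ?_, ?_, ?_, ?_, ?_⟩
  · rw [hU]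
    exact Subgroup.map_mono ((VV_le_NN hL).trans hNS)
  · rintro _ ⟨v, hv, rfl⟩
    rw [← map_mul, hsq v hv, map_one]
  · refine le_trans ?_ hcard
    exact Nat.card_le_card_of_surjective ((pr n F 2).subgroupMap (VV L)) ((pr n F 2).subgroupMap_surjective (VV L))
  · rw [hU]
    exact inv_aux hF (by omega) (by omega) hL S hSL hNS
  · have hrw : pr n F 2 R * pr n F 2 t ≠ pr n F 2 t * pr n F 2 R := by
      intro h
      have h1 : pr n F 2 t ∈ RR hF (act R u) (by rw [herm_act]; exact huu) := by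
        rw [RR_conj hF huu]
        have h2 : (pr n F 2 R)⁻¹ * pr n F 2 t * pr n F 2 R = pr n F 2 t := by
          rw [mul_assoc, ← h, inv_mul_cancel_left]
        rw [h2]
        exact mem_RR.2 ⟨1, hone, rfl⟩
      obtain ⟨ν, hν, h2⟩ := mem_RR.1 h1
      have h3 := siegel_pr_inj hF (by omega) _ _ h2
      obtain ⟨k, -, -, hku⟩ := exists_partner hF hu0 huu
      have h4 : act t k = act (transv hF (act R u) (by rw [herm_act]; exact huu) ν hν) k := congrArg (fun g => act g k) h3
      rw [ht, act_transv, act_transv, hku, add_right_inj, mul_one, one_smul] at h4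
      set c := ν * hermForm n F 2 k (act R u) with hc
      rw [hRact u huL] at h4
      have h5 := congrArg (fun z => hermForm n F 2 z y) h4
      simp only [herm_smul_left, herm_sub_left, hxy, mul_zero, sub_zero] at h5
      have h6 : c = 1 := by
        have h7 : (c - 1) * hermForm n F 2 u y = 0 := by linear_combination -h5
        rcases mul_eq_zero.1 h7 with h8 | h8
        · exact sub_eq_zero.1 h8
        · exact absurd h8 huy
      rw [h6, one_smul] at h4
      have h7 : hermForm n F 2 u y • x = 0 := by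
        have h8 : u - (u - hermForm n F 2 u y • x) = 0 := by rw [← h4, sub_self]
        rwa [sub_sub_cancel] at h8
      rcases smul_eq_zero.1 h7 with h8 | h8
      · exact huy h8
      · exact hx0 h8
    refine ⟨pr n F 2 t, ⟨t, transv_mem hF huL huu hone, rfl⟩, ?_, ?_, pr n F 2 R, ?_, hrw⟩
    · intro h
      apply hrw
      rw [h, mul_one, one_mul]
    · rintro z ⟨hz1, -, hz2⟩
      have h1 : z ∈ cent ((S : Subgroup (SU n F 2)).map (pr n F 2)) :=
        ⟨hz1, Subgroup.mem_centralizer_iff.2 hz2⟩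
      rw [hcen] at h1
      obtain ⟨ν, hν, rfl⟩ := mem_RR.1 h1
      have h2 : ν * (1 + ν) = 0 := by linear_combination hν
      rcases mul_eq_zero.1 h2 with h3 | h3
      · left
        subst h3
        rw [transv_zero, map_one]
      · right
        have h4 : ν = 1 := by
          have h5 := char_two hF 1
          linear_combination h3 - h5
        subst h4
        rfl
    · rintro _ ⟨v, hv, rfl⟩
      refine ⟨R * v * R⁻¹, ?_, by rw [map_mul, map_mul, map_inv]⟩
      intro w hw
      have h1 : Orth L (act R⁻¹ w) := by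
        intro z hz
        rw [← herm_act R, act_act_inv]
        exact hw _ (hRL z hz)
      rw [act_mul, act_mul, hv _ h1, act_act_inv]
  · exact index_odd hF (by omega) (by omega)
  · exact card_sylow hF hn U

omit hF in
/-- **`KTwo` for `PSUₙ(2)`, `n ≥ 6`.** -/
theorem main (hF : Fintype.card F = 4) (hn : 6 ≤ n) {X : Type*} [Group X] (e : X ≃* PSU n F 2) :
    ∃ (S : Sylow 2 X) (V : Subgroup X), KTwo (S : Subgroup X) V := by
  have hp : Fact (Nat.Prime 2) := ⟨Nat.prime_two⟩
  obtain ⟨U, V, hV⟩ := main_aux (n := n) (F := F) (by rw [hF]; norm_num) hn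
  have h1 : IsPGroup 2 ((U : Subgroup (PSU n F 2)).map e.symm.toMonoidHom) := U.isPGroup'.map _
  have h2 : ¬ 2 ∣ ((U : Subgroup (PSU n F 2)).map e.symm.toMonoidHom).index := by
    have h3 := Subgroup.index_map_equiv (U : Subgroup (PSU n F 2)) e.symm
    have h4 : ((U : Subgroup (PSU n F 2)).map e.symm.toMonoidHom).index = (U : Subgroup (PSU n F 2)).index := h3
    rw [h4]
    exact U.not_dvd_index
  exact ⟨h1.toSylow h2, V.map e.symm.toMonoidHom, hV.map_equiv e.symm⟩

end Cfsg.Agent.OddHalf.Quat.KTwoU
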