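import Cfsg.Agent.OddHalf.Quat.NoThreeL
import Cfsg.Agent.S0814

/-!
# Node Q: `NoThree` for `PSp₂ₘ(p^f)` with `3 ∤ f`, in particular `Sp₂ₘ(2)`, `m ≥ 3`
-/

set_option autoImplicit false

namespace Cfsg.Agent.OddHalf.Quat.NoThreeSp

open Subgroup NoThreeL

variable {K : Type*} [Group K]

/-- **`PSp₂ₘ(p^f)`, `3 ∤ f`** -/
theorem symplectic {F : Type*} [Field F] [Fintype F] (p f : ℕ) [Fact p.Prime] (hf : 1 ≤ f)
    (hF : Fintype.card F = p ^ f) {m : ℕ} (hm : 2 ≤ m) (h22 : m = 2 → 3 ≤ p ^ f) (h3 : ¬ 3 ∣ f)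
    (hcen : center K = ⊥) (e : K ≃* Cfsg.PSp m F) : NoThree K := by
  have : Finite (Matrix (Fin m ⊕ Fin m) (Fin m ⊕ Fin m) F) := inferInstance
  have : Finite (Matrix.symplecticGroup (Fin m) F) := Subtype.finite
  have : Finite (Cfsg.PSp m F) := Quotient.finite _
  have : Finite K := Finite.of_equiv _ e.symm.toEquiv
  have h1 := Cfsg.Agent.S0814.result (F := F) p f hf hF m hm h22
  rw [← card_mulAut_congr e, ← Nat.card_congr e.toEquiv] at h1
  refine noThree_of_card hcen ?_ h1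
  intro hd
  rcases (Nat.Prime.dvd_mul Nat.prime_three).mp hd with hd | hd
  · rcases (Nat.Prime.dvd_mul Nat.prime_three).mp hd with hd | hd
    · split_ifs at hd <;> exact absurd hd (by norm_num)
    · have h4 : Nat.gcd 2 (p ^ f - 1) ≤ 2 := Nat.le_of_dvd (by norm_num) (Nat.gcd_dvd_left _ _)
      have h5 := Nat.le_of_dvd (Nat.gcd_pos_of_pos_left _ (by norm_num)) hd
      omega
  · exact h3 hd

/-- **`Sp₂ₘ(2)`, `m ≥ 3`** -/
theorem sp {F : Type*} [Field F] [Fintype F] (hF : Fintype.card F = 2) {m : ℕ} (hm : 3 ≤ m)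
    (hcen : center K = ⊥) (e : K ≃* Cfsg.PSp m F) : NoThree K := by
  have : Fact (Nat.Prime 2) := ⟨Nat.prime_two⟩
  exact symplectic 2 1 le_rfl (by rw [hF, pow_one]) (by omega) (fun h => by omega) (by norm_num) hcen e

end Cfsg.Agent.OddHalf.Quat.NoThreeSp
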