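import Cfsg.Agent.OddHalf.Quat.NoThreeL
import Cfsg.Agent.S0815
import Cfsg.Agent.S0817
import Cfsg.Agent.S0818

/-!
# Node Q: `NoThree` for `Uₙ(2)` (`3 ∤ n`), `Ω⁺₂ₘ(2)` (`m ≥ 5`), `Ω⁻₂ₘ(2)` (`m ≥ 4`)
-/

set_option autoImplicit false

namespace Cfsg.Agent.OddHalf.Quat.NoThreeU

open Subgroup NoThreeL

variable {K : Type*} [Group K]

/-- **`Uₙ(2)`, `3 ∤ n`** -/
theorem unitary {F : Type*} [Field F] [Fintype F] (hF : Fintype.card F = 4) {n : ℕ} (hn : 3 ≤ n) (h3 : ¬ 3 ∣ n)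
    (hcen : center K = ⊥) (e : K ≃* Cfsg.PSU n F 2) : NoThree K := by
  have : Finite K := Finite.of_equiv _ e.symm.toEquiv
  have : Fact (Nat.Prime 2) := ⟨Nat.prime_two⟩
  have h1 := Cfsg.Agent.S0815.result (F := F) 2 1 le_rfl (q := 2) (by norm_num) (by rw [hF]; norm_num) n hn
    (by rintro ⟨rfl, -⟩; exact h3 dvd_rfl)
  rw [← card_mulAut_congr e, ← Nat.card_congr e.toEquiv] at h1
  have h4 : Nat.gcd n (2 + 1) = 1 := by
    rw [Nat.gcd_comm]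
    exact (Nat.Prime.coprime_iff_not_dvd Nat.prime_three).2 h3
  rw [h4] at h1
  exact noThree_of_card hcen (m := 1 * (2 * 1)) (by norm_num) h1

/-- **`Ω⁺₂ₘ(2)`, `m ≥ 5`** -/
theorem plus {F : Type*} [Field F] [Fintype F] (hF : Fintype.card F = 2) {m : ℕ} (hm : 5 ≤ m)
    (hcen : center K = ⊥) (e : K ≃* Cfsg.POmega F (Cfsg.quadFormPlus m F)) : NoThree K := by
  have : Finite K := Finite.of_equiv _ e.symm.toEquiv
  have : Fact (Nat.Prime 2) := ⟨Nat.prime_two⟩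
  have h1 := Cfsg.Agent.S0817.result (F := F) 2 1 le_rfl (by rw [hF, pow_one]) m (by omega)
  rw [if_neg (by omega), if_pos rfl, ← card_mulAut_congr e, ← Nat.card_congr e.toEquiv] at h1
  exact noThree_of_card hcen (m := 1 * 2 * 1) (by norm_num) h1

/-- **`Ω⁻₂ₘ(2)`, `m ≥ 4`** -/
theorem minus {F : Type*} [Field F] [Fintype F] (hF : Fintype.card F = 2) {m : ℕ} (hm : 4 ≤ m) (a b : F)
    (hab : ∀ z₁ z₂ : F, z₁ ^ 2 + a * z₁ * z₂ + b * z₂ ^ 2 = 0 → z₁ = 0 ∧ z₂ = 0)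
    (hcen : center K = ⊥) (e : K ≃* Cfsg.POmega F (Cfsg.quadFormMinus (m - 1) F a b)) : NoThree K := by
  have : Finite K := Finite.of_equiv _ e.symm.toEquiv
  have : Fact (Nat.Prime 2) := ⟨Nat.prime_two⟩
  have h1 := Cfsg.Agent.S0818.result (F := F) 2 1 le_rfl (by rw [hF, pow_one]) m hm a b hab
  rw [if_pos rfl, ← card_mulAut_congr e, ← Nat.card_congr e.toEquiv] at h1
  exact noThree_of_card hcen (m := 2 * 1) (by norm_num) h1

end Cfsg.Agent.OddHalf.Quat.NoThreeU
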