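import Cfsg.Agent.OddHalf.Quat.RowHex
import Cfsg.Agent.OddHalf.Quat.Big
import Cfsg.Agent.HexModel.Main

/-!
# Node Q: `KBig` for `G₂(q)` and `³D₄(q)`, `q ≥ 4` even
-/

set_option autoImplicit false
set_option maxHeartbeats 400000

namespace Cfsg.Agent.OddHalf.Quat.RowHex

open Subgroup Cfsg.Lie Cfsg.Agent.StdRank2.Hex Cfsg.Agent.StdRank2.Hex.HexTwo

variable {E : Type*} [Field E] {σ : E ≃+* E} {K : Type*} [Group K] {x : ZMod 12 → E → K}

theorem kBig [Finite E] [Finite K] (h : HexTwo σ x) (htop : AA σ x = ⊤) (h4 : 4 ≤ Nat.card {a : E // σ a = a}) :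
    KBig (UU σ x) := by
  have hE : 4 ≤ Nat.card E := h4.trans (Nat.card_le_card_of_injective _ Subtype.val_injective)
  refine KBig.of_trans h.isPGroup_U ?_ ⟨?_, fun y hy z hz hy1 hz1 => trans h hy hz hy1 hz1, ?_⟩
  · rw [UU, h.card_U]
    calc 64 < 4 ^ 3 * 4 ^ 3 := by norm_num
      _ ≤ _ := Nat.mul_le_mul (Nat.pow_le_pow_left hE 3) (Nat.pow_le_pow_left h4 3)
  · have hc := card_XZ h
    have hfin : Finite (XZ (UU σ x)) := inferInstance
    have h1 : (1 : K) ∈ XZ (UU σ x) := ⟨one_mem _, mul_one 1, fun u _ => by rw [mul_one, one_mul]⟩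
    have : Fintype (XZ (UU σ x)) := Fintype.ofFinite _
    rw [Nat.card_eq_fintype_card] at hc
    obtain ⟨y, hy⟩ := Fintype.exists_ne_of_one_lt_card (show 1 < Fintype.card (XZ (UU σ x)) by omega) ⟨1, h1⟩
    classical
    have h3 : ∃ z : XZ (UU σ x), z ≠ ⟨1, h1⟩ ∧ z ≠ y := by
      by_contra hcon
      push Not at hcon
      have : (Finset.univ : Finset (XZ (UU σ x))) ⊆ {⟨1, h1⟩, y} := by
        intro z _
        rw [Finset.mem_insert, Finset.mem_singleton]
        by_cases hz : z = ⟨1, h1⟩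
        · exact Or.inl hz
        · exact Or.inr (hcon z hz)
      have := Finset.card_le_card this
      rw [Finset.card_univ] at this
      have := this.trans Finset.card_le_two
      omega
    obtain ⟨z, hz1, hz2⟩ := h3
    exact ⟨y.1, y.2, z.1, z.2, fun e => hy (Subtype.ext e), fun e => hz1 (Subtype.ext e), fun e => hz2 (Subtype.ext e.symm)⟩
  · intro r hr s hs y hy
    have := comm_XZ h htop hr hs hy
    rw [mul_inv_rev, mul_inv_rev] at this
    calc r * (s * y * s⁻¹) * r⁻¹ = r * s * y * (s⁻¹ * r⁻¹) := by group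
      _ = s * (r * y * r⁻¹) * s⁻¹ := by rw [this]; group

theorem exists_kBig [Finite E] [Finite K] (h : HexTwo σ x) (htop : AA σ x = ⊤)
    (h4 : 4 ≤ Nat.card {a : E // σ a = a}) : ∃ U : Sylow 2 K, KBig (U : Subgroup K) := by
  have : Fact (Nat.Prime 2) := ⟨Nat.prime_two⟩
  obtain ⟨y, hy, hytop, hP⟩ := exists_sylow h htop default
  exact ⟨default, by rw [hP]; exact kBig hy hytop h4⟩

theorem exists_kBig_equiv [Finite E] [Finite K] (h : HexTwo σ x) (htop : AA σ x = ⊤)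
    (h4 : 4 ≤ Nat.card {a : E // σ a = a}) {X : Type*} [Group X] (e : X ≃* K) :
    ∃ U : Sylow 2 X, KBig (U : Subgroup X) := by
  have : Finite X := Finite.of_equiv _ e.symm.toEquiv
  refine exists_kBig (x := fun k a => e.symm (x k a)) (h.map e.symm.toMonoidHom e.symm.injective fun _ _ _ => rfl) ?_ h4
  unfold AA at htop ⊢
  rw [map_gen (x := x) (y := fun k a => e.symm (x k a)) e.symm.toMonoidHom (fun _ _ _ => rfl), htop,
    ← MonoidHom.range_eq_map]
  exact MonoidHom.range_eq_top.2 e.symm.surjective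

/-- **`KBig` for `G₂(q)`, `q ≥ 4` even.** -/
theorem g2 {F : Type*} [Field F] [Fintype F] {a : ℕ} (ha : 2 ≤ a) (hF : Fintype.card F = 2 ^ a) {X : Type*} [Group X]
    (e : X ≃* ↥(chevG2.group F)) : ∃ U : Sylow 2 X, KBig (U : Subgroup X) := by
  refine exists_kBig_equiv (σ := RingEquiv.refl F) (HexModel.G2.hexTwo (HexModel.Main.two_eq_zero hF))
    HexModel.Main.g2_top ?_ e
  have h1 : Nat.card {c : F // (RingEquiv.refl F) c = c} = Nat.card F :=
    Nat.card_congr (Equiv.subtypeUnivEquiv fun c => rfl)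
  rw [h1, Nat.card_eq_fintype_card, hF]
  calc 4 = 2 ^ 2 := by norm_num
    _ ≤ 2 ^ a := Nat.pow_le_pow_right (by norm_num) ha

/-- **`KBig` for `³D₄(q)`, `q ≥ 4` even.** -/
theorem d4 {F : Type*} [Field F] [Fintype F] {a : ℕ} (ha : 2 ≤ a) (hF : Fintype.card F = 8 ^ a) {X : Type*} [Group X]
    (e : X ≃* ↥(twistedD4 F (2 ^ a))) : ∃ U : Sylow 2 X, KBig (U : Subgroup X) := by
  obtain ⟨σ, hσ, h3, hne, hf⟩ := HexModel.Main.exists_sigma (by omega) hF
  have h2 : (2 : F) = 0 := by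
    apply HexModel.Main.two_eq_zero (n := 3 * a)
    rw [hF, pow_mul]
    norm_num
  refine exists_kBig_equiv (HexModel.Main.d4_hexTwo hσ h2 h3) (HexModel.Main.d4_top hσ h2) ?_ e
  rw [hf]
  calc 4 = 2 ^ 2 := by norm_num
    _ ≤ 2 ^ a := Nat.pow_le_pow_right (by norm_num) ha

end Cfsg.Agent.OddHalf.Quat.RowHex
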