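import Cfsg.Agent.OddHalf.Quat.BigLoc
import Cfsg.Agent.OddHalf.Quat.BigMap

/-!
# Node Q: `KBig` for `SL(2, F)`, `PSL(2, F)`, `|F| = 2 ^ f`, `f ≥ 3`, `f ≠ 4`
-/

set_option autoImplicit false

namespace Cfsg.Agent.OddHalf.Quat.LTwo

open Subgroup Matrix

variable {F : Type*} [Field F]

/-- the unipotent elements -/
def uu (t : F) : SpecialLinearGroup (Fin 2) F := ⟨!![1, t; 0, 1], by simp [det_fin_two]⟩

/-- the torus -/
def dd (a : F) (ha : a ≠ 0) : SpecialLinearGroup (Fin 2) F := ⟨!![a, 0; 0, a⁻¹], by simp [det_fin_two, ha]⟩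

theorem uu_mul (s t : F) : uu s * uu t = uu (s + t) := by
  apply Subtype.ext
  change (!![1, s; 0, 1] : Matrix (Fin 2) (Fin 2) F) * !![1, t; 0, 1] = !![1, s + t; 0, 1]
  simp [Matrix.mul_fin_two, add_comm]

theorem uu_inj {s t : F} (h : uu s = uu t) : s = t := by
  have := congrArg (fun A : SpecialLinearGroup (Fin 2) F => (A : Matrix (Fin 2) (Fin 2) F) 0 1) h
  simpa [uu] using this

theorem uu_zero : uu (0 : F) = 1 := by
  ext i j
  fin_cases i <;> fin_cases j <;> simp [uu]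

/-- the root subgroup -/
def R (F : Type*) [Field F] : Subgroup (SpecialLinearGroup (Fin 2) F) where
  carrier := {A | ∃ t, A = uu t}
  one_mem' := ⟨0, uu_zero.symm⟩
  mul_mem' := by rintro _ _ ⟨s, rfl⟩ ⟨t, rfl⟩; exact ⟨s + t, uu_mul s t⟩
  inv_mem' := by
    rintro _ ⟨s, rfl⟩
    refine ⟨-s, inv_eq_of_mul_eq_one_right ?_⟩
    rw [uu_mul, add_neg_cancel, uu_zero]

theorem mem_R {A : SpecialLinearGroup (Fin 2) F} : A ∈ R F ↔ ∃ t, A = uu t := Iff.rfl

/-- conjugation by an upper triangular matrix -/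
theorem conj_uu {A : SpecialLinearGroup (Fin 2) F} (hA : (A : Matrix (Fin 2) (Fin 2) F) 1 0 = 0) (t : F) :
    A * uu t * A⁻¹ = uu ((A : Matrix (Fin 2) (Fin 2) F) 0 0 ^ 2 * t) := by
  rw [mul_inv_eq_iff_eq_mul]
  have hdet := A.2
  rw [det_fin_two, hA, mul_zero, sub_zero] at hdet
  apply Subtype.ext
  change (A : Matrix (Fin 2) (Fin 2) F) * !![1, t; 0, 1] =
    !![1, (A : Matrix (Fin 2) (Fin 2) F) 0 0 ^ 2 * t; 0, 1] * (A : Matrix (Fin 2) (Fin 2) F)
  rw [Matrix.eta_fin_two (A : Matrix (Fin 2) (Fin 2) F), hA, Matrix.mul_fin_two, Matrix.mul_fin_two]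
  ext i j
  fin_cases i <;> fin_cases j <;> simp
  linear_combination (-(A : Matrix (Fin 2) (Fin 2) F) 0 0 * t) * hdet

theorem lower_of_conj {A : SpecialLinearGroup (Fin 2) F} {t s : F} (ht : t ≠ 0) (h : A * uu t * A⁻¹ = uu s) :
    (A : Matrix (Fin 2) (Fin 2) F) 1 0 = 0 := by
  rw [mul_inv_eq_iff_eq_mul] at h
  have h1 : (A : Matrix (Fin 2) (Fin 2) F) * !![1, t; 0, 1] = !![1, s; 0, 1] * (A : Matrix (Fin 2) (Fin 2) F) :=
    congrArg Subtype.val h
  rw [Matrix.eta_fin_two (A : Matrix (Fin 2) (Fin 2) F), Matrix.mul_fin_two, Matrix.mul_fin_two] at h1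
  have h2 := congrFun (congrFun h1 1) 1
  simp at h2
  exact h2.resolve_right ht

variable [Fintype F] [CharP F 2]

theorem loc (h4 : 4 ≤ Fintype.card F) : Loc (R F) (R F) where
  sq := by
    rintro _ ⟨t, rfl⟩
    rw [uu_mul, CharTwo.add_self_eq_zero, uu_zero]
  two := by
    classical
    obtain ⟨θ, hθ⟩ : ∃ θ : F, θ ∉ ({0, 1} : Finset F) := by
      by_contra hcon
      push Not at hcon
      have h1 : Fintype.card F ≤ ({0, 1} : Finset F).card := by
        rw [← Finset.card_univ]; exact Finset.card_le_card fun x _ => hcon x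
      have h2 : ({0, 1} : Finset F).card ≤ 2 := Finset.card_le_two
      omega
    simp only [Finset.mem_insert, Finset.mem_singleton, not_or] at hθ
    refine ⟨uu 1, ⟨1, rfl⟩, uu θ, ⟨θ, rfl⟩, ?_, ?_, ?_⟩
    · rw [← uu_zero]; exact fun h => one_ne_zero (uu_inj h)
    · rw [← uu_zero]; exact fun h => hθ.1 (uu_inj h)
    · exact fun h => hθ.2 (uu_inj h).symm
  le := le_rfl
  pgr := by
    rintro ⟨_, t, rfl⟩
    refine ⟨1, Subtype.ext ?_⟩
    change uu t ^ 2 ^ 1 = 1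
    rw [pow_one, pow_two, uu_mul, CharTwo.add_self_eq_zero, uu_zero]
  cent := by
    intro A hA
    have h1 := hA (uu 1) ⟨1, rfl⟩
    have h2 : A * uu 1 * A⁻¹ = uu 1 := by rw [h1]; group
    have h3 := lower_of_conj one_ne_zero h2
    have h4 := conj_uu h3 1
    rw [h2, mul_one] at h4
    have h5 := (uu_inj h4).symm
    have h6 : (A : Matrix (Fin 2) (Fin 2) F) 0 0 = 1 := by
      have : ((A : Matrix (Fin 2) (Fin 2) F) 0 0 - 1) ^ 2 = 0 := by
        have h2 : (2 : F) = 0 := CharTwo.two_eq_zero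
        linear_combination h5 + (1 - (A : Matrix (Fin 2) (Fin 2) F) 0 0) * h2
      exact sub_eq_zero.mp (pow_eq_zero_iff two_ne_zero |>.mp this)
    have hdet := A.2
    rw [det_fin_two, h3, h6, mul_zero, sub_zero, one_mul] at hdet
    refine ⟨(A : Matrix (Fin 2) (Fin 2) F) 0 1, ?_⟩
    ext i j
    fin_cases i <;> fin_cases j <;> simp [uu, h3, h6, hdet]
  ti := by
    rintro A _ ⟨t, rfl⟩ ht ⟨s, hs⟩ _ ⟨r, rfl⟩
    have ht0 : t ≠ 0 := by rintro rfl; exact ht uu_zero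
    exact ⟨_, conj_uu (lower_of_conj ht0 hs) r⟩
  tr := by
    rintro _ ⟨t, rfl⟩ _ ⟨s, rfl⟩ ht hs
    have ht0 : t ≠ 0 := by rintro rfl; exact ht uu_zero
    have hs0 : s ≠ 0 := by rintro rfl; exact hs uu_zero
    obtain ⟨b, hb⟩ := FiniteField.isSquare_of_char_two (ringChar.eq F 2 ▸ rfl : ringChar F = 2) (s / t)
    have hb0 : b ≠ 0 := by
      rintro rfl
      rw [mul_zero] at hb
      exact div_ne_zero hs0 ht0 hb
    refine ⟨dd b hb0, ?_⟩
    rw [conj_uu (by simp [dd])]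
    congr 1
    have : ((dd b hb0 : SpecialLinearGroup (Fin 2) F) : Matrix (Fin 2) (Fin 2) F) 0 0 = b := by simp [dd]
    rw [this, pow_two, ← hb, div_mul_cancel₀ _ ht0]
  ab := by
    rintro A B hA hB _ ⟨t, rfl⟩
    have h1 : (uu 1 : SpecialLinearGroup (Fin 2) F) ∈ R F := ⟨1, rfl⟩
    obtain ⟨s, hs⟩ := hA _ h1
    obtain ⟨s', hs'⟩ := hB _ h1
    have ha := lower_of_conj one_ne_zero hs
    have hb := lower_of_conj one_ne_zero hs'
    rw [conj_uu hb, conj_uu ha, conj_uu ha, conj_uu hb]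
    congr 1
    ring

omit [CharP F 2] in
theorem card_R : Nat.card (R F) = Fintype.card F := by
  rw [← Nat.card_eq_fintype_card]
  refine (Nat.card_eq_of_bijective (fun t : F => (⟨uu t, t, rfl⟩ : R F)) ⟨?_, ?_⟩).symm
  · intro s t h; exact uu_inj (congrArg Subtype.val h)
  · rintro ⟨_, t, rfl⟩; exact ⟨t, rfl⟩

omit [Field F] [CharP F 2] in
theorem card_ge {f : ℕ} (h : Fintype.card F = 2 ^ f) (h3 : 3 ≤ f) : 4 ≤ Fintype.card F := by
  rw [h]
  calc 4 = 2 ^ 2 := by norm_num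
    _ ≤ 2 ^ f := Nat.pow_le_pow_right (by norm_num) (by omega)

theorem charP_two {F : Type*} [Field F] [Fintype F] {f : ℕ} (h : Fintype.card F = 2 ^ f) : CharP F 2 := by
  obtain ⟨p, hp⟩ := CharP.exists F
  have : Fact p.Prime := ⟨CharP.char_is_prime F p⟩
  obtain ⟨k, hk, hc⟩ := FiniteField.card F p
  rw [h] at hc
  have h1 : p ∣ 2 ^ f := by rw [hc]; exact dvd_pow_self p k.pos.ne'
  have h3 : p = 2 := (Nat.prime_dvd_prime_iff_eq hk Nat.prime_two).mp (hk.dvd_of_dvd_pow h1)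
  rw [← h3]; exact hp

/-- **`SL(2, 2 ^ f)`** -/
theorem row_sl {F : Type*} [Field F] [Fintype F] {f : ℕ} (h : Fintype.card F = 2 ^ f) (h3 : 3 ≤ f) (h4 : f ≠ 4) :
    ∃ U : Sylow 2 (SpecialLinearGroup (Fin 2) F), KBig (U : Subgroup (SpecialLinearGroup (Fin 2) F)) := by
  have := charP_two h
  have hl : Loc (R F) (R F) := loc (card_ge h h3)
  rcases Nat.even_or_odd f with hf | hf
  · obtain ⟨U, hU⟩ := hl.pgr.exists_le_sylow
    have hc := hl.central U.isPGroup' hU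
    have hUR : ∀ u ∈ (U : Subgroup (SpecialLinearGroup (Fin 2) F)), u ∈ R F := fun u hu =>
      hl.cent u (fun x hx => hc.2 x hx u hu)
    refine ⟨U, KBig.of_comm U.isPGroup' (fun x hx y hy => hc.2 y (hUR y hy) x hx) ?_ (hl.toTr U hU)⟩
    have h5 : 5 ≤ f := by
      rcases hf with ⟨k, rfl⟩; omega
    calc 16 < 2 ^ 5 := by norm_num
      _ ≤ 2 ^ f := Nat.pow_le_pow_right (by norm_num) h5
      _ = Nat.card (R F) := by rw [card_R, h]
      _ ≤ Nat.card (U : Subgroup (SpecialLinearGroup (Fin 2) F)) :=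
        Nat.le_of_dvd Nat.card_pos (Subgroup.card_dvd_of_le hU)
  · exact exists_kbig_odd hl hf (by rw [card_R, h])

/-- **`PSL(2, 2 ^ f)`** -/
theorem row {F : Type*} [Field F] [Fintype F] {f : ℕ} (h : Fintype.card F = 2 ^ f) (h3 : 3 ≤ f) (h4 : f ≠ 4) :
    ∃ U : Sylow 2 (ProjectiveSpecialLinearGroup (Fin 2) F),
      KBig (U : Subgroup (ProjectiveSpecialLinearGroup (Fin 2) F)) := by
  have := charP_two h
  have hc : center (SpecialLinearGroup (Fin 2) F) = ⊥ := by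
    rw [eq_bot_iff]
    intro A hA
    obtain ⟨r, hr, e⟩ := Matrix.SpecialLinearGroup.mem_center_iff.mp hA
    have hr1 : r = 1 := by
      rw [Fintype.card_fin] at hr
      have h2 : (r - 1) ^ 2 = 0 := by
        have h2 : (2 : F) = 0 := CharTwo.two_eq_zero
        linear_combination hr + (1 - r) * h2
      exact sub_eq_zero.mp (pow_eq_zero_iff two_ne_zero |>.mp h2)
    rw [mem_bot]
    apply Subtype.ext
    rw [← e, hr1]; simp
  have e : SpecialLinearGroup (Fin 2) F ≃* ProjectiveSpecialLinearGroup (Fin 2) F :=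
    (QuotientGroup.quotientBot.symm.trans (QuotientGroup.quotientMulEquivOfEq hc.symm))
  exact exists_kbig_of_equiv e (row_sl h h3 h4)

end Cfsg.Agent.OddHalf.Quat.LTwo
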