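import Cfsg.Agent.OddHalf.Quat.Big
import Cfsg.Agent.OddHalf.Quat.BigMap
import Cfsg.Agent.OddHalf.Orth.KFr

/-!
# Node Q: `KBig U` for `Ω⁻_2n(q)`, `n ≥ 4`, `q ≥ 4` even

`U = UK Q e f n` the unipotent group of the flag, `Z(U) = {tE (e 0) (c e 1)}`;
`tE (e 0) (c e 1) = [tE (e 1) (e 2), [tE (e 1) (f 2), tE (e 0) (c f 1)]]`.
-/

set_option autoImplicit false
set_option linter.unusedSectionVars false

namespace Cfsg.Agent.OddHalf.Quat.RowOMinus

open QuadraticMap Cfsg.Agent.LieClassical.OrthCore Cfsg.Agent.LieClassical.OrthTrans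
  Cfsg.Agent.ClassicalGeometry.OrthAutBasic Cfsg.Agent.ClassicalGeometry.OrthAutRoot
  Cfsg.Agent.OddHalf.Orth Cfsg.Agent.OddHalf.Orth.Face Cfsg.Agent.OddHalf.Orth.FlagDef
  Cfsg.Agent.OddHalf.Orth.KFr Cfsg.Agent.OddHalf.D7Out
open scoped commutatorElement

variable {F V : Type*} [Field F] [AddCommGroup V] [Module F V] {Q : QuadraticForm F V} [CharP F 2] {n : ℕ}
  {e f : ℕ → V}

/-- the commutator of `tE u x` and `tE w y`, `u, x ⟂ w` -/
theorem br {u x w y : V} (hu : Q u = 0) (hux : polar Q u x = 0) (hw : Q w = 0) (huw : polar Q u w = 0)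
    (hxw : polar Q x w = 0) (hwy : polar Q w y = 0) :
    ⁅tE Q u x, tE Q w y⁆ = tE Q w (polar Q u y • x + (polar Q x y + Q x * polar Q u y) • u) := by
  have h1 : T Q u x w = w := T_apply_fix hu hux huw hxw
  have hwu : polar Q w u = 0 := by rw [polar_comm]; exact huw
  have hwx : polar Q w x = 0 := by rw [polar_comm]; exact hxw
  have h2 : polar Q w (polar Q u y • x + (polar Q x y + Q x * polar Q u y) • u) = 0 := by
    rw [polar_add_right, polar_smul_right, polar_smul_right, hwu, hwx, smul_zero, smul_zero, add_zero]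
  rw [commutatorElement_def, tE_conj, coe_tE, h1, T_apply2 hu hux, tE_inv hw hwy, add_assoc,
    ← tE_mul hw hwy h2, tE_comm hw hwy h2, mul_assoc, tE_mul_self hw hwy, mul_one]

theorem mem_three (hF : Flag Q n e f) (hn : 3 ≤ n) (c : F) :
    tE Q (e 0) (c • e 1) ∈ ⁅⁅UK Q e f n, UK Q e f n⁆, UK Q e f n⁆ := by
  have H0 := hF.hyp 0 (by omega)
  have H1 := hF.hyp 1 (by omega)
  have H2 := hF.hyp 2 (by omega)
  have e01 : polar Q (e 0) (e 1) = 0 := hee hF (by omega) (by omega)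
  have e02 : polar Q (e 0) (e 2) = 0 := hee hF (by omega) (by omega)
  have e12 : polar Q (e 1) (e 2) = 0 := hee hF (by omega) (by omega)
  have e10 : polar Q (e 1) (e 0) = 0 := hee hF (by omega) (by omega)
  have e20 : polar Q (e 2) (e 0) = 0 := hee hF (by omega) (by omega)
  have ef01 : polar Q (e 0) (f 1) = 0 := hF.ef 0 1 (by omega) (by omega) (by omega)
  have ef02 : polar Q (e 0) (f 2) = 0 := hF.ef 0 2 (by omega) (by omega) (by omega)
  have ef12 : polar Q (e 1) (f 2) = 0 := hF.ef 1 2 (by omega) (by omega) (by omega)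
  have fe20 : polar Q (f 2) (e 0) = 0 := hfe hF (by omega) (by omega) (by omega)
  have ff21 : polar Q (f 2) (f 1) = 0 := hff hF (by omega) (by omega)
  -- `⁅tE (e 1) (f 2), tE (e 0) (c f 1)⁆ = tE (e 0) (c f 2)`
  have b1 : ⁅tE Q (e 1) (f 2), tE Q (e 0) (c • f 1)⁆ = tE Q (e 0) (c • f 2) := by
    rw [br H1.left ef12 H0.left e10 fe20 (by rw [polar_smul_right, ef01, smul_zero]), polar_smul_right,
      polar_smul_right, H1.pair, ff21, H2.right]
    simp
  have b2 : ⁅tE Q (e 1) (e 2), tE Q (e 0) (c • f 2)⁆ = tE Q (e 0) (c • e 1) := by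
    rw [br H1.left e12 H0.left e10 e20 (by rw [polar_smul_right, ef02, smul_zero]), polar_smul_right,
      polar_smul_right, H2.pair, ef12, H2.left]
    simp
  have m1 : tE Q (e 1) (f 2) ∈ UK Q e f n := tE_mem_UK (by omega) fun k hk => by
    refine ⟨hF.ef k 2 (by omega) (by omega) (by omega), hff hF (by omega) (by omega)⟩
  have m2 : tE Q (e 1) (e 2) ∈ UK Q e f n := tE_mem_UK (by omega) (e_mem_Yv hF (by omega) (by omega))
  have m3 : tE Q (e 0) (c • f 1) ∈ UK Q e f n := tE_zero_mem_UK hF (by omega) (by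
    rw [polar_smul_right, ef01, smul_zero])
  rw [← b2, ← b1, Subgroup.commutator_comm ⁅UK Q e f n, UK Q e f n⁆ (UK Q e f n)]
  exact Subgroup.commutator_mem_commutator m2 (Subgroup.commutator_mem_commutator m1 m3)

/-- the torus elements of the first pair normalise `U` -/
theorem mem_normalizer (hF : Flag Q n e f) (hn : 1 ≤ n) {κ : F} {h : ↥(E Q)}
    (h0 : (h : V ≃ₗ[F] V) (e 0) = κ • e 0)
    (h1 : ∀ x, polar Q (e 0) x = 0 → polar Q (f 0) x = 0 → (h : V ≃ₗ[F] V) x = x) :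
    ∀ u ∈ UK Q e f n, h * u * h⁻¹ ∈ UK Q e f n := by
  have H0 := hF.hyp 0 (by omega)
  have h2 : UK Q e f n ≤ (UK Q e f n).comap (MulAut.conj h).toMonoidHom := by
    refine iSup_le fun i => iSup_le fun hi => ?_
    rw [RK, Subgroup.closure_le]
    rintro _ ⟨y, hy, rfl⟩
    show h * tE Q (e i) y * h⁻¹ ∈ UK Q e f n
    have hy0 := hy 0 (Nat.zero_le i)
    rw [tE_conj, h1 y hy0.1 hy0.2]
    rcases Nat.eq_zero_or_pos i with rfl | hi0
    · rw [h0, tE_smul_left _ H0.left hy0.1]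
      exact tE_mem_UK hi fun k hk => by
        obtain ⟨h3, h4⟩ := hy k hk
        rw [polar_smul_right, polar_smul_right, h3, h4, smul_zero]
        exact ⟨rfl, rfl⟩
    · rw [h1 (e i) (hee hF (by omega) (by omega)) (hfe hF (by omega) (by omega) (by omega))]
      exact tE_mem_UK hi hy
  exact fun u hu => h2 hu

theorem kbig [Finite F] [Finite ↥(E Q)] (hK : KFacts Q) (hF : Flag Q n e f) (hn : 3 ≤ n) (h4 : 4 ≤ Nat.card F)
    {hu : Q (e 0) = 0} {huv : polar Q (e 0) (e 1) = 0} (k : FrGen.KF (UK Q e f n) (X Q (e 0) (e 1) hu huv))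
    (hZ : ∀ g ∈ Subgroup.center ↥(E Q), g = 1) : KBig (UK Q e f n) := by
  classical
  have H0 := hF.hyp 0 (by omega)
  have H1 := hF.hyp 1 (by omega)
  have hXZ : ∀ x ∈ XZ (UK Q e f n), ∃ c : F, x = tE Q (e 0) (c • e 1) := by
    rintro x ⟨hx, hx2, hxc⟩
    obtain ⟨z, hz, h1⟩ := k.aut (MulAut.conj x) ⟨1, by
      rw [pow_one, pow_two, ← map_mul, hx2, map_one]⟩ (fun u hu => by
      rw [MulAut.conj_apply, ← hxc u hu, mul_inv_cancel_right])
    have h2 : z⁻¹ * x ∈ Subgroup.center ↥(E Q) := by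
      rw [Subgroup.mem_center_iff]
      intro g
      have h3 := h1 g
      rw [MulAut.conj_apply] at h3
      have h5 : z⁻¹ * x * g = g * (z⁻¹ * x) := by
        calc z⁻¹ * x * g = z⁻¹ * (x * g * x⁻¹) * x := by group
          _ = z⁻¹ * (z * g * z⁻¹) * x := by rw [h3]
          _ = g * (z⁻¹ * x) := by group
      exact h5.symm
    have h3 := hZ _ h2
    rw [inv_mul_eq_one] at h3
    rw [← h3]
    exact mem_X.1 hz
  refine KBig.of_three k.pU (fun x hx => ?_) fun w hw hw1 => ?_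
  · obtain ⟨c, rfl⟩ := hXZ x hx
    exact mem_three hF hn c
  · obtain ⟨c, rfl⟩ := hXZ w hw
    have hc : c ≠ 0 := by
      rintro rfl
      exact hw1 (by rw [zero_smul, tE_zero_right])
    have := Fintype.ofFinite F
    obtain ⟨κ, hκ⟩ := Finset.exists_mem_notMem_of_card_lt_card (s := ({0, 1} : Finset F)) (t := Finset.univ)
      (lt_of_le_of_lt Finset.card_le_two (by rw [Finset.card_univ, ← Nat.card_eq_fintype_card]; omega))
    simp only [Finset.mem_insert, Finset.mem_singleton, not_or] at hκ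
    obtain ⟨-, hκ0, hκ1⟩ := hκ
    obtain ⟨h, h0, -, h3⟩ := hK.scal H0 hκ0
    have h5 : (h : V ≃ₗ[F] V) (e 1) = e 1 := h3 _ huv (hfe hF (by omega) (by omega) (by omega))
    refine ⟨h, ?_, fun h6 => ?_⟩
    · have hn' : ∀ u ∈ UK Q e f n, MulAut.conj h u ∈ UK Q e f n := mem_normalizer hF (by omega) h0 h3
      rw [Subgroup.mem_normalizer_iff]
      refine fun u => ⟨hn' u, fun h7 => ?_⟩
      obtain ⟨v, hv, h8⟩ := inv_mem_of hn' h7
      rw [MulAut.conj_apply, mul_left_inj, mul_right_inj] at h8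
      rwa [← h8]
    · have h7 : h * tE Q (e 0) (c • e 1) * h⁻¹ = tE Q (e 0) (c • e 1) := by rw [h6, mul_inv_cancel_right]
      rw [tE_conj, h0, map_smul, h5, tE_smul_left _ hu (by rw [polar_smul_right, huv, smul_zero])] at h7
      obtain ⟨d, hd⟩ := (tE_eq_iff hK.nondeg hu H0.left_ne (by
        rw [polar_smul_right, polar_smul_right, huv, smul_zero, smul_zero]) (by
        rw [polar_smul_right, huv, smul_zero])).1 h7
      have h8 := congrArg (polar Q (f 1)) hd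
      rw [polar_add_right, polar_smul_right, polar_smul_right, polar_smul_right, polar_smul_right, H1.pair',
        hfe hF (by omega) (by omega) (by omega), smul_zero, add_zero] at h8
      simp only [smul_eq_mul, mul_one] at h8
      exact hκ1 (mul_right_cancel₀ hc (by rw [one_mul]; exact h8.symm))

section Minus

open Cfsg.Agent.LieClassical Cfsg.Agent.LieClassical.OrthForms Cfsg.Agent.TitsThree.KSideO
  Cfsg.Agent.OddHalf.Orth.KFlag Cfsg.Agent.OddHalf.Orth.KFlagMain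

variable {F : Type*} [Field F] [Finite F] [CharP F 2]

/-- **`KBig` for `Ω⁻(2m+2, q)`, `m ≥ 3`, `q ≥ 4` even** -/
theorem kbig_minus {m : ℕ} (hm : 3 ≤ m) (h4 : 4 ≤ Nat.card F) (a b : F)
    (hab : ∀ z₁ z₂ : F, z₁ ^ 2 + a * z₁ * z₂ + b * z₂ ^ 2 = 0 → z₁ = 0 ∧ z₂ = 0) :
    ∃ U : Sylow 2 ↥(E (minusForm m F a b)), KBig (U : Subgroup ↥(E (minusForm m F a b))) := by
  have hfl := flag_minus hm a b hab
  have hu : minusForm m F a b (em m a b hab 0) = 0 := (hfl.1.hyp 0 (by omega)).left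
  have huv : polar (minusForm m F a b) (em m a b hab 0) (em m a b hab 1) = 0 := hee hfl.1 (by omega) (by omega)
  have k := kf_minus hm a b hab hu huv
  have hfin : Finite ((((Fin m ⊕ Fin m) ⊕ Fin 2) → F) ≃ₗ[F] (((Fin m ⊕ Fin m) ⊕ Fin 2) → F)) :=
    Finite.of_injective (fun g : ((((Fin m ⊕ Fin m) ⊕ Fin 2) → F) ≃ₗ[F] (((Fin m ⊕ Fin m) ⊕ Fin 2) → F)) =>
      (g : (((Fin m ⊕ Fin m) ⊕ Fin 2) → F) → (((Fin m ⊕ Fin m) ⊕ Fin 2) → F))) DFunLike.coe_injective
  have hodd := hfl.2.1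
  have : Fact (Nat.Prime 2) := ⟨Nat.prime_two⟩
  refine ⟨k.pU.toSylow (fun h => ?_), ?_⟩
  · rw [← Nat.not_even_iff_odd] at hodd
    exact hodd (even_iff_two_dvd.2 h)
  · exact kbig (kfacts_minus m a b hab hm) hfl.1 hm h4 k
      (fun g hg => SitOf.center_E (SitOf.good_minus (by omega) hab) hg)

/-- **`KBig` for `PΩ⁻_2m(q)`, `m ≥ 4`, `q ≥ 4` even** -/
theorem row {m : ℕ} (hm : 4 ≤ m) (h4 : 4 ≤ Nat.card F) (a b : F)
    (hab : ∀ z₁ z₂ : F, z₁ ^ 2 + a * z₁ * z₂ + b * z₂ ^ 2 = 0 → z₁ = 0 ∧ z₂ = 0) :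
    ∃ U : Sylow 2 (Cfsg.POmega F (Cfsg.quadFormMinus (m - 1) F a b)), KBig (U : Subgroup (Cfsg.POmega F (Cfsg.quadFormMinus (m - 1) F a b))) := by
  have e : ↥(E (minusForm (m - 1) F a b)) ≃* Cfsg.POmega F (Cfsg.quadFormMinus (m - 1) F a b) := by
    rw [← coe_minusForm]
    exact SitOf.equivE (SitOf.good_minus (m := m - 1) (by omega) hab)
  exact exists_kbig_of_equiv e (kbig_minus (m := m - 1) (by omega) h4 a b hab)

/-- the same up to isomorphism -/
theorem row_equiv {K : Type*} [Group K] {m : ℕ} (hm : 4 ≤ m) (h4 : 4 ≤ Nat.card F) (a b : F)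
    (hab : ∀ z₁ z₂ : F, z₁ ^ 2 + a * z₁ * z₂ + b * z₂ ^ 2 = 0 → z₁ = 0 ∧ z₂ = 0)
    (e : K ≃* Cfsg.POmega F (Cfsg.quadFormMinus (m - 1) F a b)) : ∃ U : Sylow 2 K, KBig (U : Subgroup K) :=
  exists_kbig_of_equiv e.symm (row hm h4 a b hab)


end Minus

/-- `KBig` for `Ω⁻_2m(2^a)`, `m ≥ 4`, `a ≥ 2`, in the form of `D9.Cut` -/
theorem main {F K : Type*} [Field F] [Fintype F] [Group K] {r m : ℕ} (hr : 2 ≤ r) (hF : Fintype.card F = 2 ^ r)
    (hm : 4 ≤ m) {a b : F} (hab : ∀ z₁ z₂ : F, z₁ ^ 2 + a * z₁ * z₂ + b * z₂ ^ 2 = 0 → z₁ = 0 ∧ z₂ = 0)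
    (e : K ≃* Cfsg.POmega F (Cfsg.quadFormMinus (m - 1) F a b)) : ∃ U : Sylow 2 K, KBig (U : Subgroup K) := by
  have : Fact (Nat.Prime 2) := ⟨Nat.prime_two⟩
  have : CharP F 2 := charP_of_card_eq_prime_pow (f := r) hF
  refine row_equiv hm ?_ a b hab e
  rw [Nat.card_eq_fintype_card, hF]
  exact Nat.pow_le_pow_right (n := 2) (by norm_num) hr

end Cfsg.Agent.OddHalf.Quat.RowOMinus
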