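import Cfsg.Agent.OddHalf.Quat.BigLoc
import Cfsg.Agent.OddHalf.Quat.BigMap
import Cfsg.Agent.ClassicalGeometry.AutPSL.Main

/-!
# Node Q: `KBig` for `PSL n F`, `n ≥ 3`, `|F| = 2 ^ a ≥ 4`
-/

set_option autoImplicit false
set_option linter.unusedSectionVars false

namespace Cfsg.Agent.OddHalf.Quat.PSLRow

open Matrix
open Matrix.SpecialLinearGroup (transvection transvection_add transvection_coe transvection_coeff_zero)
open Cfsg.Agent.ClassicalGeometry.AutPSL.Root
open Cfsg.Agent.ClassicalGeometry.AutPSL.Auto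
open Cfsg.Agent.ClassicalGeometry.AutPSL.SylowU
open scoped commutatorElement

variable {F : Type*} [Field F]

section gen

variable {ι : Type*} [Fintype ι] [DecidableEq ι]

/-- the root group of `PSL` -/
def RR {i j : ι} (h : i ≠ j) : Subgroup (Matrix.ProjectiveSpecialLinearGroup ι F) where
  carrier := {x | ∃ c : F, x = pr (transvection h c)}
  one_mem' := ⟨0, by rw [transvection_coeff_zero, map_one]⟩
  mul_mem' := by
    rintro _ _ ⟨c, rfl⟩ ⟨d, rfl⟩
    exact ⟨c + d, by rw [transvection_add, map_mul]⟩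
  inv_mem' := by
    rintro _ ⟨c, rfl⟩
    exact ⟨-c, by rw [← Matrix.SpecialLinearGroup.transvection_inv, map_inv]⟩

theorem mem_RR {i j : ι} {h : i ≠ j} {x : Matrix.ProjectiveSpecialLinearGroup ι F} :
    x ∈ RR h ↔ ∃ c : F, x = pr (transvection h c) := Iff.rfl

theorem pr_tv_inj {i j : ι} (h : i ≠ j) {c d : F} (he : pr (transvection h c) = pr (transvection h d)) : c = d := by
  have h1 : pr (transvection h (c - d)) = 1 := by
    rw [sub_eq_add_neg, transvection_add, map_mul, he, ← map_mul, ← transvection_add, add_neg_cancel,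
      transvection_coeff_zero, map_one]
  rw [pr_eq_one_iff, Matrix.SpecialLinearGroup.transvection_mem_center_iff] at h1
  exact sub_eq_zero.1 h1

/-- the scalar of `M` -/
noncomputable def lam {i j : ι} (_ : i ≠ j) (M : Matrix.SpecialLinearGroup ι F) : F :=
  ((M : Matrix ι ι F) * single i j 1 * ((M⁻¹ : Matrix.SpecialLinearGroup ι F) : Matrix ι ι F) : Matrix ι ι F) i j

theorem eq_lam {i j : ι} (h : i ≠ j) {M : Matrix.SpecialLinearGroup ι F} {c d : F}
    (he : pr M * pr (transvection h c) * (pr M)⁻¹ = pr (transvection h d)) : d = lam h M * c := by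
  have h1 : pr (cj (Matrix.SpecialLinearGroup.toGL M) (transvection h c)) = pr (transvection h d) := by
    rw [← he, ← map_inv, ← map_mul, ← map_mul]
    congr 1
  have h2 := Cfsg.Agent.ClassicalGeometry.AutPSL.Main.cj_transvection_eq h1
  have e' : (M : Matrix ι ι F) * ((M⁻¹ : Matrix.SpecialLinearGroup ι F) : Matrix ι ι F) = 1 := by
    rw [← Matrix.SpecialLinearGroup.coe_mul, mul_inv_cancel, Matrix.SpecialLinearGroup.coe_one]
  have h3 : (M : Matrix ι ι F) * single i j c * ((M⁻¹ : Matrix.SpecialLinearGroup ι F) : Matrix ι ι F) =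
      single i j d := by
    have h4 : (M : Matrix ι ι F) * single i j c = single i j d * (M : Matrix ι ι F) := h2
    rw [h4, mul_assoc, e', mul_one]
  have h5 : single i j c = c • (single i j 1 : Matrix ι ι F) := by rw [smul_single, smul_eq_mul, mul_one]
  have h6 := congrFun (congrFun h3 i) j
  rw [h5, Matrix.mul_smul, Matrix.smul_mul, single_apply_same] at h6
  rw [← h6, lam, Matrix.smul_apply, smul_eq_mul, mul_comm]

theorem ab {i j : ι} (h : i ≠ j) (g k : Matrix.ProjectiveSpecialLinearGroup ι F)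
    (hg : ∀ y ∈ RR (F := F) h, g * y * g⁻¹ ∈ RR (F := F) h) (hk : ∀ y ∈ RR (F := F) h, k * y * k⁻¹ ∈ RR (F := F) h) :
    ∀ y ∈ RR (F := F) h, g * (k * y * k⁻¹) * g⁻¹ = k * (g * y * g⁻¹) * k⁻¹ := by
  obtain ⟨M, rfl⟩ := pr_surjective g
  obtain ⟨N, rfl⟩ := pr_surjective k
  rintro _ ⟨c, rfl⟩
  obtain ⟨c1, e1⟩ := hk _ ⟨c, rfl⟩
  obtain ⟨c2, e2⟩ := hg _ ⟨c, rfl⟩
  obtain ⟨c3, e3⟩ := hg _ ⟨c1, rfl⟩
  obtain ⟨c4, e4⟩ := hk _ ⟨c2, rfl⟩
  rw [e1, e2, e3, e4]
  have f1 := eq_lam h e1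
  have f2 := eq_lam h e2
  have f3 := eq_lam h e3
  have f4 := eq_lam h e4
  congr 2
  rw [f3, f4, f1, f2]
  ring

/-- a diagonal matrix -/
def dgm {i j : ι} (h : i ≠ j) {s : F} (hs : s ≠ 0) : Matrix.SpecialLinearGroup ι F :=
  ⟨diagonal (Function.update (Function.update 1 i s) j s⁻¹), by
    rw [det_diagonal, Finset.prod_update_of_mem (Finset.mem_univ j),
      Finset.prod_update_of_mem (Finset.mem_sdiff.2 ⟨Finset.mem_univ i, by simpa using h⟩)]
    simp [hs]⟩

theorem dgm_conj {i j : ι} (h : i ≠ j) {s : F} (hs : s ≠ 0) (c : F) :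
    dgm h hs * transvection h c * (dgm h hs)⁻¹ = transvection h (s * s * c) := by
  rw [mul_inv_eq_iff_eq_mul]
  apply Subtype.ext
  change diagonal _ * (1 + single i j c) = (1 + single i j (s * s * c)) * diagonal _
  rw [mul_add, add_mul, mul_one, one_mul]
  congr 1
  ext r t
  rw [diagonal_mul, mul_diagonal, single_apply, single_apply]
  by_cases h1 : i = r ∧ j = t
  · obtain ⟨rfl, rfl⟩ := h1
    rw [if_pos ⟨rfl, rfl⟩, if_pos ⟨rfl, rfl⟩, Function.update_self, Function.update_of_ne h, Function.update_self]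
    field_simp
  · rw [if_neg h1, if_neg h1, mul_zero, zero_mul]

end gen

variable {n : ℕ} [Fintype F] [CharP F 2]

/-- the involutions of the centre -/
theorem mem_iff {i0 j0 : Fin n} (h0 : i0 < j0) (hi0 : ∀ i, i0 ≤ i) (hj0 : ∀ i, i ≤ j0)
    (x : Matrix.ProjectiveSpecialLinearGroup (Fin n) F) : x ∈ XZ ((upper n F).map pr) ↔ x ∈ RR h0.ne := by
  constructor
  · rintro ⟨⟨z, hz, rfl⟩, -, hc⟩
    exact eq_transvection_of_commute h0 hi0 hj0 hz (fun u hu => (hc _ ⟨u, hu, rfl⟩).symm) |>.imp fun c h => by rw [h]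
  · rintro ⟨c, rfl⟩
    refine ⟨⟨_, transvection_mem_upper h0 c, rfl⟩, ?_, ?_⟩
    · rw [← map_mul, ← transvection_add, CharTwo.add_self_eq_zero, transvection_coeff_zero, map_one]
    · rintro _ ⟨u, hu, rfl⟩
      rw [← map_mul, ← map_mul, central_transvection h0 hi0 hj0 c hu]

/-- **`Tr` for `PSL`** -/
theorem tr (hn : 2 ≤ n) (hF : 4 ≤ Fintype.card F)
    (S : Sylow 2 (Matrix.ProjectiveSpecialLinearGroup (Fin n) F)) (hS : (S : Subgroup _) = (upper n F).map pr) :
    Tr (S : Subgroup (Matrix.ProjectiveSpecialLinearGroup (Fin n) F)) := by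
  obtain ⟨m, rfl⟩ : ∃ m, n = m + 2 := ⟨n - 2, by omega⟩
  have h0 : (0 : Fin (m + 2)) < Fin.last (m + 1) := Fin.last_pos
  have hm : ∀ x, x ∈ XZ (S : Subgroup (Matrix.ProjectiveSpecialLinearGroup (Fin (m + 2)) F)) ↔ x ∈ RR h0.ne := by
    rw [hS]
    exact mem_iff h0 (fun i => Fin.zero_le i) (fun i => Fin.le_last i)
  have hsq : ∀ a : F, ∃ b, b * b = a := fun a => by
    obtain ⟨b, hb⟩ := FiniteField.isSquare_of_char_two (ringChar.eq F 2) a
    exact ⟨b, hb.symm⟩
  refine Tr.of_center S hm ?_ ?_ (ab h0.ne)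
  · obtain ⟨θ, h1, h2⟩ : ∃ θ : F, θ ≠ 0 ∧ θ ≠ 1 := by
      classical
      by_contra hcon
      push Not at hcon
      have : (Finset.univ : Finset F) ⊆ {0, 1} := by
        intro x _
        by_cases hx : x = 0
        · simp [hx]
        · simp [hcon x hx]
      have h3 := Finset.card_le_card this
      rw [Finset.card_univ] at h3
      have h4 : ({0, 1} : Finset F).card ≤ 2 := Finset.card_le_two
      omega
    have hne : ∀ c : F, c ≠ 0 → pr (transvection h0.ne c) ≠ 1 := by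
      intro c hc h
      rw [pr_eq_one_iff, Matrix.SpecialLinearGroup.transvection_mem_center_iff] at h
      exact hc h
    exact ⟨_, ⟨1, rfl⟩, _, ⟨θ, rfl⟩, hne 1 one_ne_zero, hne θ h1, fun h => h2 (pr_tv_inj _ h).symm⟩
  · rintro _ ⟨c, rfl⟩ _ ⟨d, rfl⟩ hc hd
    have hc0 : c ≠ 0 := by
      rintro rfl
      exact hc (by rw [transvection_coeff_zero, map_one])
    have hd0 : d ≠ 0 := by
      rintro rfl
      exact hd (by rw [transvection_coeff_zero, map_one])
    obtain ⟨s, hs⟩ := hsq (d * c⁻¹)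
    have hs0 : s ≠ 0 := by
      rintro rfl
      rw [mul_zero] at hs
      exact mul_ne_zero hd0 (inv_ne_zero hc0) hs.symm
    refine ⟨pr (dgm h0.ne hs0), ?_⟩
    rw [← map_inv, ← map_mul, ← map_mul, dgm_conj, hs]
    congr 2
    field_simp

/-! ### `n = 3` -/

/-- the matrix `(a, b, c)` -/
def ut (a b c : F) : Matrix.SpecialLinearGroup (Fin 3) F :=
  ⟨!![1, a, c; 0, 1, b; 0, 0, 1], by simp [det_fin_three]⟩

theorem ut_mem (a b c : F) : ut a b c ∈ upper 3 F := by
  intro i j hij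
  change (!![1, a, c; 0, 1, b; 0, 0, 1] : Matrix (Fin 3) (Fin 3) F) i j = _
  fin_cases i <;> fin_cases j <;> first | rfl | (exfalso; revert hij; decide)

theorem exists_ut {u : Matrix.SpecialLinearGroup (Fin 3) F} (hu : u ∈ upper 3 F) : ∃ a b c, u = ut a b c := by
  refine ⟨u.1 0 1, u.1 1 2, u.1 0 2, ?_⟩
  apply Subtype.ext
  ext i j
  change u.1 i j = (!![1, u.1 0 1, u.1 0 2; 0, 1, u.1 1 2; 0, 0, 1] : Matrix (Fin 3) (Fin 3) F) i j
  fin_cases i <;> fin_cases j <;> first | rfl | exact hu _ _ (by decide)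

theorem ut_comm (a b c a' b' c' : F) :
    ⁅ut a b c, ut a' b' c'⁆ = transvection (i := (0 : Fin 3)) (j := 2) (by decide) (a * b' - a' * b) := by
  rw [commutatorElement_def, mul_inv_eq_iff_eq_mul, mul_inv_eq_iff_eq_mul]
  apply Subtype.ext
  change (!![1, a, c; 0, 1, b; 0, 0, 1] : Matrix (Fin 3) (Fin 3) F) * !![1, a', c'; 0, 1, b'; 0, 0, 1] =
    (1 + single 0 2 (a * b' - a' * b)) * !![1, a', c'; 0, 1, b'; 0, 0, 1] * !![1, a, c; 0, 1, b; 0, 0, 1]
  ext i j
  fin_cases i <;> fin_cases j <;> simp [Matrix.mul_apply, Fin.sum_univ_three, single_apply] <;> ring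

/-- **the linear groups** -/
theorem row {F : Type*} [Field F] [Fintype F] {n a : ℕ} (hF : Fintype.card F = 2 ^ a) (hn : 3 ≤ n) (ha : 2 ≤ a) :
    ∃ U : Sylow 2 (Matrix.ProjectiveSpecialLinearGroup (Fin n) F),
      KBig (U : Subgroup (Matrix.ProjectiveSpecialLinearGroup (Fin n) F)) := by
  have hp2 : Fact (Nat.Prime 2) := ⟨Nat.prime_two⟩
  have hc2 : CharP F 2 := charP_of_card_eq_prime_pow hF
  have hF4 : 4 ≤ Fintype.card F := by
    rw [hF]; calc 4 = 2 ^ 2 := by norm_num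
      _ ≤ 2 ^ a := Nat.pow_le_pow_right (by norm_num) ha
  obtain ⟨S, hS⟩ := exists_sylow (F := F) n 2
  have hT := tr (by omega) hF4 S hS
  have hcard : Nat.card S = 2 ^ (a * (n * (n - 1) / 2)) := by
    change Nat.card (S : Subgroup (Matrix.ProjectiveSpecialLinearGroup (Fin n) F)) = _
    rw [hS, card_map_upper, hF, ← pow_mul]
  have h3 : 3 ≤ n * (n - 1) / 2 := by
    rw [Nat.le_div_iff_mul_le (by norm_num)]
    calc 3 * 2 = 3 * (3 - 1) := by norm_num
      _ ≤ n * (n - 1) := Nat.mul_le_mul hn (by omega)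
  by_cases hsm : 7 ≤ a * (n * (n - 1) / 2)
  · refine ⟨S, KBig.of_trans S.isPGroup' ?_ hT⟩
    calc 64 < 2 ^ 7 := by norm_num
      _ ≤ 2 ^ (a * (n * (n - 1) / 2)) := Nat.pow_le_pow_right (by norm_num) hsm
      _ = _ := hcard.symm
  push Not at hsm
  have ha2 : a = 2 := by
    by_contra hne
    have : 3 * 3 ≤ a * (n * (n - 1) / 2) := Nat.mul_le_mul (by omega) h3
    omega
  have hn3 : n = 3 := by
    by_contra hne
    have h4 : 6 ≤ n * (n - 1) / 2 := by
      rw [Nat.le_div_iff_mul_le (by norm_num)]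
      calc 6 * 2 = 4 * (4 - 1) := by norm_num
        _ ≤ n * (n - 1) := Nat.mul_le_mul (by omega) (by omega)
    have : 2 * 6 ≤ a * (n * (n - 1) / 2) := Nat.mul_le_mul ha h4
    omega
  subst hn3 ha2
  have h0 : (0 : Fin 3) < 2 := by decide
  have hm : ∀ x, x ∈ XZ (S : Subgroup (Matrix.ProjectiveSpecialLinearGroup (Fin 3) F)) ↔ x ∈ RR h0.ne := by
    rw [hS]
    exact mem_iff h0 (fun i => Fin.zero_le i) (fun i => Fin.le_last i)
  refine ⟨S, KBig.of_semi hT ⟨?_, ?_⟩ ?_ ?_⟩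
  · rw [hS]
    rintro _ ⟨u, hu, rfl⟩ _ ⟨v, hv, rfl⟩
    rw [← hS, hm]
    obtain ⟨a, b, c, rfl⟩ := exists_ut hu
    obtain ⟨a', b', c', rfl⟩ := exists_ut hv
    exact ⟨a * b' - a' * b, by rw [← map_commutatorElement, ut_comm]⟩
  · intro x hx hx' y hy
    obtain ⟨d, rfl⟩ := (hm y).1 hy
    rw [hS] at hx
    obtain ⟨u, hu, rfl⟩ := hx
    obtain ⟨a, b, c, rfl⟩ := exists_ut hu
    have hab : a ≠ 0 ∨ b ≠ 0 := by
      by_contra hcon
      push Not at hcon
      obtain ⟨rfl, rfl⟩ := hcon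
      apply hx'
      rw [hm]
      refine ⟨c, ?_⟩
      congr 1
      apply Subtype.ext
      change (!![1, 0, c; 0, 1, 0; 0, 0, 1] : Matrix (Fin 3) (Fin 3) F) = 1 + single 0 2 c
      ext i j
      fin_cases i <;> fin_cases j <;> simp [single_apply]
    rcases hab with h | h
    · refine ⟨pr (ut 0 (a⁻¹ * d) 0), ?_, ?_⟩
      · rw [hS]; exact ⟨_, ut_mem _ _ _, rfl⟩
      · rw [← map_commutatorElement, ut_comm]
        congr 2
        field_simp
        ring
    · refine ⟨pr (ut (-(b⁻¹ * d)) 0 0), ?_, ?_⟩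
      · rw [hS]; exact ⟨_, ut_mem _ _ _, rfl⟩
      · rw [← map_commutatorElement, ut_comm]
        congr 2
        field_simp
        ring
  · have h1 : XZs (S : Subgroup (Matrix.ProjectiveSpecialLinearGroup (Fin 3) F)) = RR h0.ne :=
      Subgroup.ext fun x => hm x
    rw [h1]
    have h2 : Nat.card (RR (F := F) h0.ne) = Nat.card F := by
      refine (Nat.card_congr (Equiv.ofBijective (fun c : F => (⟨pr (transvection h0.ne c), c, rfl⟩ : RR h0.ne))
        ⟨?_, ?_⟩)).symm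
      · intro c d h
        exact pr_tv_inj _ (congrArg Subtype.val h)
      · rintro ⟨_, c, rfl⟩
        exact ⟨c, rfl⟩
    rw [h2, Nat.card_eq_fintype_card, hF]
    norm_num
  · change Nat.card S = 64
    rw [hcard]
    norm_num

end Cfsg.Agent.OddHalf.Quat.PSLRow
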