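import Cfsg.Agent.OddHalf.Quat.BigLoc
import Cfsg.Agent.KFacts.Unit.HeisK
import Cfsg.Agent.S0280

/-!
# Node Q: `KBig` for `PSU n F q`, `n ≥ 3`, `q ≥ 4` even
-/

set_option autoImplicit false

namespace Cfsg.Agent.OddHalf.Quat.UniRow

open Cfsg Cfsg.Agent.LieClassical.HermBasic Cfsg.Agent.LieClassical.HermSiegel
  Cfsg.Agent.LieClassical.HermGen Cfsg.Agent.LieClassical.SUBasic
  Cfsg.Agent.ClassicalGeometry.PSUAutBasic Cfsg.Agent.ClassicalGeometry.PSUAutSylow
  Cfsg.Agent.ClassicalGeometry.PSUAutUnip Cfsg.Agent.KFacts.Unit Cfsg.Agent.OddHalf.D7.Uni.Ex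

open scoped commutatorElement

variable {F : Type*} [Field F] [Fintype F] [CharP F 2] {q n : ℕ}

/-- the centre of a Sylow 2-subgroup -/
theorem exists_center (hF : Fintype.card F = q ^ 2) (hn : 3 ≤ n) (T : Sylow 2 (PSU n F q)) :
    ∃ (u : Fin n → F) (_ : u ≠ 0) (hu : hermForm n F q u u = 0),
      QQ hF u hu ≤ (T : Subgroup (PSU n F q)) ∧ ∀ x, x ∈ XZ (T : Subgroup (PSU n F q)) ↔ x ∈ RR hF u hu := by
  obtain ⟨S, hS⟩ := exists_sylow_lift 2 T
  obtain ⟨u, hu0, hu, hfix⟩ := Cfsg.Agent.ClassicalGeometry.PSUAutSylow.exists_fixed 2 hF (by omega) S.isPGroup'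
  have hle := siegG_le_sylow 2 hF S hu hfix
  have hc := cent_sylow 2 hF hn S hu0 hu hfix
  rw [hS] at hc
  refine ⟨u, hu0, hu, by rw [← hS]; exact Subgroup.map_mono hle, fun x => ?_⟩
  have hm : x ∈ RR hF u hu ↔ x ∈ cent (T : Subgroup (PSU n F q)) := by rw [hc]; rfl
  rw [hm]
  constructor
  · rintro ⟨h1, -, h3⟩
    exact ⟨h1, Subgroup.mem_centralizer_iff.mpr h3⟩
  · rintro ⟨h1, h3⟩
    refine ⟨h1, ?_, Subgroup.mem_centralizer_iff.mp h3⟩
    have hR : x ∈ RR hF u hu := hm.mpr ⟨h1, h3⟩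
    obtain ⟨f, H⟩ := exists_hyp hF hu0 hu
    exact (heis hF hn H).X2 hR

omit [CharP F 2] in
/-- conjugation of a transvection by an element stabilising the point -/
theorem conj_tv (hF : Fintype.card F = q ^ 2) {u : Fin n → F} (hu : hermForm n F q u u = 0) {g : SU n F q} {c : F}
    (hc : act g u = c • u) {μ : F} (hμ : μ + μ ^ q = 0) (hμ' : c * c ^ q * μ + (c * c ^ q * μ) ^ q = 0) :
    pr n F q g * pr n F q (transv hF u hu μ hμ) * (pr n F q g)⁻¹ =
      pr n F q (transv hF u hu (c * c ^ q * μ) hμ') := by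
  rw [← map_inv, ← map_mul, ← map_mul]
  congr 1
  rw [transv, conj_siegel]
  apply ext_act
  intro v
  rw [act_siegel, act_transv, hc, act_zero, smul_zero, herm_zero_right hF, herm_smul_right]
  funext i
  simp only [Pi.add_apply, Pi.smul_apply, smul_eq_mul, Pi.zero_apply]
  ring

omit [CharP F 2] in
theorem tv_ok (hF : Fintype.card F = q ^ 2) (c : F) {μ : F} (hμ : μ + μ ^ q = 0) :
    c * c ^ q * μ + (c * c ^ q * μ) ^ q = 0 := by
  rw [mul_pow, mul_pow, pow_q_pow_q hF]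
  linear_combination (c * c ^ q) * hμ

theorem inv_conj_mem {K : Type*} [Group K] [Finite K] {R : Subgroup K} {g : K} (h : ∀ y ∈ R, g * y * g⁻¹ ∈ R) :
    ∀ y ∈ R, g⁻¹ * y * g ∈ R := by
  intro z hz
  have hmap : R.map (MulAut.conj g).toMonoidHom = R := by
    apply Subgroup.eq_of_le_of_card_ge
    · rintro _ ⟨w, hw, rfl⟩; exact h w hw
    · rw [Nat.card_congr (R.equivMapOfInjective (MulAut.conj g).toMonoidHom (MulAut.conj g).injective).toEquiv]
  rw [← hmap] at hz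
  obtain ⟨w, hw, rfl⟩ := hz
  change g⁻¹ * (g * w * g⁻¹) * g ∈ R
  have : g⁻¹ * (g * w * g⁻¹) * g = w := by group
  rw [this]; exact hw

omit [CharP F 2] in
theorem exists_theta (hF : Fintype.card F = q ^ 2) (hq : 4 ≤ q) : ∃ θ : F, θ ^ q = θ ∧ θ ≠ 0 ∧ θ ≠ 1 := by
  classical
  by_contra hcon
  push Not at hcon
  have h := card_fixed (F := F) hF
  have hle : Nat.card {x : F // x ^ q = x} ≤ Nat.card Bool := by
    refine Nat.card_le_card_of_injective (fun x => decide (x.1 = 0)) ?_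
    intro x y hxy
    simp only [decide_eq_decide] at hxy
    by_cases hx : x.1 = 0
    · exact Subtype.ext (hx.trans (hxy.mp hx).symm)
    · exact Subtype.ext ((hcon _ x.2 hx).trans (hcon _ y.2 (fun h => hx (hxy.mpr h))).symm)
  rw [h, Nat.card_eq_fintype_card, Fintype.card_bool] at hle
  omega

theorem tr (hF : Fintype.card F = q ^ 2) (hn : 3 ≤ n) (hq : 4 ≤ q) (T : Sylow 2 (PSU n F q)) :
    Tr (T : Subgroup (PSU n F q)) := by
  obtain ⟨u, hu0, hu, -, hm⟩ := exists_center hF hn T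
  refine Tr.of_center T hm ?_ ?_ ?_
  · obtain ⟨θ, hθ, h0, h1⟩ := exists_theta hF hq
    obtain ⟨f, H⟩ := exists_hyp hF hu0 hu
    have K := heis hF hn H
    have e1 : sig hF (1 : F) = 1 := map_one _
    have hθ' : sig hF θ = θ := hθ
    refine ⟨SS hF u f 0 1, K.mem_X e1, SS hF u f 0 θ, K.mem_X hθ', fun h => ?_, fun h => ?_, fun h => ?_⟩
    · exact one_ne_zero (K.inj _ _ (K.tr0 e1) h).2
    · exact h0 (K.inj _ _ (K.tr0 hθ') h).2
    · exact h1 (K.eq_iff (K.tr0 e1) (K.tr0 hθ') h).2.symm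
  · intro x hx y hy hx1 hy1
    obtain ⟨μ, hμ, rfl⟩ := mem_RR.1 hx
    obtain ⟨ν, hν, rfl⟩ := mem_RR.1 hy
    obtain ⟨f, H⟩ := exists_hyp hF hu0 hu
    have hμq := fixed_of_tr hμ
    have hνq := fixed_of_tr hν
    have hμ0 : μ ≠ 0 := by
      rintro rfl
      exact hx1 (by rw [transv, siegel_zero, map_one])
    have hν0 : ν ≠ 0 := by
      rintro rfl
      exact hy1 (by rw [transv, siegel_zero, map_one])
    obtain ⟨b, hb, hbq⟩ := exists_sqrt q (c := ν / μ) (by rw [div_pow, hμq, hνq])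
    have hb0 : b ≠ 0 := by
      rintro rfl
      rw [zero_pow two_ne_zero] at hb
      exact div_ne_zero hν0 hμ0 hb.symm
    have e : b ^ 2 * μ = ν := by rw [hb, div_mul_cancel₀ _ hμ0]
    have h1 := hyp_conj_transv hF H hb0 hbq hμ (by rw [e]; exact hν)
    refine ⟨pr n F q (hyp hF H b hb0 hbq), ?_⟩
    rw [← map_inv, ← map_mul, ← map_mul, h1]
    congr 2
  · intro g h hg hh y hy
    obtain ⟨g, rfl⟩ := pr_surjective g
    obtain ⟨h, rfl⟩ := pr_surjective h
    have key : ∀ k : SU n F q, (∀ y ∈ RR hF u hu, pr n F q k * y * (pr n F q k)⁻¹ ∈ RR hF u hu) →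
        ∃ c : F, act k u = c • u := by
      intro k hk
      have : NormRR hF u hu (pr n F q k) := by
        intro y
        refine ⟨inv_conj_mem hk y, fun hy => ?_⟩
        have := hk _ hy
        have e : pr n F q k * ((pr n F q k)⁻¹ * y * pr n F q k) * (pr n F q k)⁻¹ = y := by group
        rwa [e] at this
      obtain ⟨c, -, hc⟩ := (normRR_iff hF hn hu0 hu k).1 this
      exact ⟨c, hc⟩
    obtain ⟨c, hc⟩ := key g hg
    obtain ⟨d, hd⟩ := key h hh
    obtain ⟨μ, hμ, rfl⟩ := mem_RR.1 hy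
    rw [conj_tv hF hu hd hμ (tv_ok hF d hμ), conj_tv hF hu hc _ (tv_ok hF c (tv_ok hF d hμ)),
      conj_tv hF hu hc hμ (tv_ok hF c hμ), conj_tv hF hu hd _ (tv_ok hF d (tv_ok hF c hμ))]
    congr 1
    simp only [transv]
    exact siegel_congr hF _ _ rfl rfl (by ring)

omit [CharP F 2] in
theorem exists_NN (hF : Fintype.card F = q ^ 2) (hn : 3 ≤ n) (u f : Fin n → F) : ∃ w : NN q u f, w ≠ 0 := by
  by_contra hcon
  push Not at hcon
  have hinj : Function.Injective fun v : Fin n → F => (hermForm n F q v u, hermForm n F q v f) := by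
    intro v w hvw
    simp only [Prod.mk.injEq] at hvw
    have hm : v - w ∈ NN q u f := by
      refine ⟨?_, ?_⟩
      · change hermForm n F q (v - w) u = 0
        rw [sub_eq_add_neg, herm_add_left, ← neg_one_smul F w, herm_smul_left, hvw.1]; ring
      · change hermForm n F q (v - w) f = 0
        rw [sub_eq_add_neg, herm_add_left, ← neg_one_smul F w, herm_smul_left, hvw.2]; ring
    have h := hcon ⟨v - w, hm⟩
    exact sub_eq_zero.mp (congrArg Subtype.val h)
  have h := Nat.card_le_card_of_injective _ hinj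
  rw [Nat.card_prod, Nat.card_fun, Nat.card_eq_fintype_card (α := Fin n), Fintype.card_fin,
    Nat.card_eq_fintype_card, hF] at h
  have hq := two_le hF
  have h3 : (q ^ 2) ^ 3 ≤ (q ^ 2) ^ n := Nat.pow_le_pow_right (by positivity) hn
  have h4 : q ^ 2 * q ^ 2 < (q ^ 2) ^ 3 := by
    have h5 : 1 < q ^ 2 := by nlinarith
    calc q ^ 2 * q ^ 2 = (q ^ 2) ^ 2 := by ring
      _ < (q ^ 2) ^ 3 := Nat.pow_lt_pow_right h5 (by norm_num)
  omega

omit [Fintype F] [CharP F 2] in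
theorem heis_card {G N : Type*} [Group G] [AddCommGroup N] [Module F N] {σ : F →+* F} {B : N → N → F}
    {X Q : Subgroup G} {S : N → F → G} [Finite G] (H : Heis σ B X Q S) {w : N} (hw : w ≠ 0) :
    Nat.card F * Nat.card {a : F // σ a = a} ≤ Nat.card Q := by
  choose A hA using H.exists_S
  rw [← Nat.card_prod]
  have hok : ∀ (c : F) (ν : {a : F // σ a = a}), (A (c • w) + ν.1) + σ (A (c • w) + ν.1) = B (c • w) (c • w) := by
    intro c ν
    rw [map_add, ν.2, ← hA (c • w)]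
    linear_combination H.two ν.1
  refine Nat.card_le_card_of_injective (fun p => (⟨S (p.1 • w) (A (p.1 • w) + p.2.1), H.mem_Q (hok p.1 p.2)⟩ : Q)) ?_
  intro p r hpr
  have h := H.eq_iff (hok p.1 p.2) (hok r.1 r.2) (congrArg Subtype.val hpr)
  have h1 : p.1 = r.1 := by
    have h2 : (p.1 - r.1) • w = 0 := by rw [sub_smul, h.1, sub_self]
    exact sub_eq_zero.mp ((smul_eq_zero.mp h2).resolve_right hw)
  have h3 := h.2
  rw [h1, add_left_cancel_iff] at h3
  exact Prod.ext h1 (Subtype.ext h3)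

omit [CharP F 2] in
/-- the 2-part of the order of `PSU` -/
theorem dvd_card (hF : Fintype.card F = q ^ 2) (hn : 2 ≤ n) {a : ℕ} (hqa : q = 2 ^ a) (ha : 1 ≤ a) :
    2 ^ (a * (n * (n - 1) / 2)) ∣ Nat.card (PSU n F q) := by
  have h := Cfsg.Agent.S0280.result hF n hn
  have h1 : 2 ^ (a * (n * (n - 1) / 2)) ∣ Nat.gcd n (q + 1) * ((q + 1) * Nat.card (PSU n F q)) := by
    rw [h, hqa, ← pow_mul]; exact dvd_mul_right _ _
  have hodd : Odd (q + 1) := by
    rw [hqa]; exact (Nat.even_pow.mpr ⟨even_two, by omega⟩).add_one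
  have c1 : Nat.Coprime (2 ^ (a * (n * (n - 1) / 2))) (q + 1) := (Nat.coprime_two_left.mpr hodd).pow_left _
  have c2 : Nat.Coprime (2 ^ (a * (n * (n - 1) / 2))) (Nat.gcd n (q + 1)) :=
    c1.coprime_dvd_right (Nat.gcd_dvd_right _ _)
  exact c1.dvd_of_dvd_mul_left (c2.dvd_of_dvd_mul_left h1)

omit [Fintype F] [CharP F 2] in
theorem heis_semi {G N : Type*} [Group G] [AddCommGroup N] [Module F N] {σ : F →+* F} {B : N → N → F}
    {X Q : Subgroup G} {S : N → F → G} (H : Heis σ B X Q S) {u : G} (hu : u ∈ Q) (huX : u ∉ X) {x : G} (hx : x ∈ X) :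
    ∃ v ∈ Q, ⁅u, v⁆ = x := by
  obtain ⟨y, b, hb, rfl⟩ := (H.memQ u).1 hu
  obtain ⟨c, hc, rfl⟩ := (H.memX x).1 hx
  have hy : y ≠ 0 := by
    rintro rfl
    apply huX
    refine H.mem_X ?_
    rw [H.zero_left, add_eq_zero_iff_eq_neg, H.neg_eq] at hb
    exact hb.symm
  obtain ⟨w, hw⟩ := H.exists_one hy
  obtain ⟨d, hd⟩ := H.exists_tr hc
  obtain ⟨a1, ha1⟩ := H.exists_S (d • w)
  refine ⟨S (d • w) a1, H.mem_Q ha1, ?_⟩
  rw [commutatorElement_def, H.comm ha1 hb, H.smul_left, hw, mul_one, hd]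

/-- **the unitary groups** -/
theorem row {F : Type*} [Field F] [Fintype F] {q n a : ℕ} (hF : Fintype.card F = q ^ 2) (hn : 3 ≤ n) (hqa : q = 2 ^ a)
    (ha : 2 ≤ a) : ∃ U : Sylow 2 (PSU n F q), KBig (U : Subgroup (PSU n F q)) := by
  have hq4 : 4 ≤ q := by
    rw [hqa]; calc 4 = 2 ^ 2 := by norm_num
      _ ≤ 2 ^ a := Nat.pow_le_pow_right (by norm_num) ha
  have hc2 : CharP F 2 := by
    obtain ⟨p, hp⟩ := CharP.exists F
    have : Fact p.Prime := ⟨CharP.char_is_prime F p⟩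
    have h1 := prime_dvd_q (p := p) hF
    rw [hqa] at h1
    have h2 : p ∣ 2 := (CharP.char_is_prime F p).dvd_of_dvd_pow h1
    have h3 : p = 2 := (Nat.prime_dvd_prime_iff_eq (CharP.char_is_prime F p) Nat.prime_two).mp h2
    rw [← h3]; exact hp
  obtain ⟨T⟩ : Nonempty (Sylow 2 (PSU n F q)) := inferInstance
  have hT := tr hF hn hq4 T
  have hdv := T.pow_dvd_card_of_pow_dvd_card (dvd_card hF (by omega) hqa (by omega))
  have hle := Nat.le_of_dvd Nat.card_pos hdv
  have h3 : 3 ≤ n * (n - 1) / 2 := by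
    rw [Nat.le_div_iff_mul_le (by norm_num)]
    calc 3 * 2 = 3 * (3 - 1) := by norm_num
      _ ≤ n * (n - 1) := Nat.mul_le_mul hn (by omega)
  by_cases hsm : 7 ≤ a * (n * (n - 1) / 2)
  · refine ⟨T, KBig.of_trans T.isPGroup' (lt_of_lt_of_le ?_ hle) hT⟩
    calc 64 < 2 ^ 7 := by norm_num
      _ ≤ _ := Nat.pow_le_pow_right (by norm_num) hsm
  -- `n = 3`, `q = 4`
  push Not at hsm
  have ha2 : a = 2 := by
    by_contra hne
    have : 3 * 3 ≤ a * (n * (n - 1) / 2) := Nat.mul_le_mul (by omega) h3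
    omega
  have hn3 : n = 3 := by
    by_contra hne
    have h4 : 6 ≤ n * (n - 1) / 2 := by
      rw [Nat.le_div_iff_mul_le (by norm_num)]
      calc 6 * 2 = 4 * (4 - 1) := by norm_num
        _ ≤ n * (n - 1) := Nat.mul_le_mul (by omega) (by omega)
    have : 2 * 6 ≤ a * (n * (n - 1) / 2) := Nat.mul_le_mul ha h4
    omega
  subst hn3 ha2
  have hq : q = 4 := by rw [hqa]; norm_num
  subst hq
  have hcard : Nat.card (PSU 3 F 4) = 64 * 975 := by
    have h := Cfsg.Agent.S0280.result hF 3 (by norm_num)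
    norm_num [Finset.prod_range_succ, Nat.even_iff] at h
    omega
  have hTc : Nat.card (T : Subgroup (PSU 3 F 4)) = 64 := by
    obtain ⟨k, hk⟩ := IsPGroup.iff_card.mp T.isPGroup'
    have h1 : Nat.card (T : Subgroup (PSU 3 F 4)) ∣ 64 * 975 := by
      rw [← hcard]; exact Subgroup.card_subgroup_dvd_card _
    rw [hk] at h1
    have h2 : 2 ^ k ∣ 64 := by
      refine Nat.Coprime.dvd_of_dvd_mul_right (Nat.Coprime.pow_left k (by norm_num)) h1
    have h3 : 64 ∣ 2 ^ k := by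
      rw [← hk]
      have := hdv
      norm_num at this
      exact this
    rw [hk]; exact Nat.dvd_antisymm h2 h3
  obtain ⟨u, hu0, hu, hQT, hm⟩ := exists_center hF hn T
  obtain ⟨f, H⟩ := exists_hyp hF hu0 hu
  have K := heis hF hn H
  obtain ⟨w, hw⟩ := exists_NN hF hn u f
  have hfix : Nat.card {a : F // sig hF a = a} = 4 := card_fixed hF
  have hQc : 64 ≤ Nat.card (QQ hF u hu) := by
    have h := heis_card K hw
    rw [hfix, Nat.card_eq_fintype_card, hF] at h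
    exact h
  have hQT' : QQ hF u hu = (T : Subgroup (PSU 3 F 4)) :=
    Subgroup.eq_of_le_of_card_ge hQT (by rw [hTc]; exact hQc)
  refine ⟨T, KBig.of_semi hT ⟨?_, ?_⟩ ?_ hTc⟩
  · intro x hx y hy
    rw [← hQT'] at hx hy
    exact (hm _).mpr (K.QQ x hx y hy)
  · intro x hx hxX y hy
    have hx' : x ∈ QQ hF u hu := by rw [hQT']; exact hx
    obtain ⟨v, hv, e⟩ := heis_semi K hx' (fun h => hxX ((hm x).mpr h)) ((hm y).mp hy)
    exact ⟨v, by rw [← hQT']; exact hv, e⟩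
  · have e : XZs (T : Subgroup (PSU 3 F 4)) = RR hF u hu := Subgroup.ext hm
    rw [e]
    refine Eq.trans ?_ hfix
    refine (Nat.card_eq_of_bijective (fun a : {a : F // sig hF a = a} =>
      (⟨SS hF u f 0 a.1, K.mem_X a.2⟩ : RR hF u hu)) ⟨?_, ?_⟩).symm
    · intro a b hab
      exact Subtype.ext (K.eq_iff (K.tr0 a.2) (K.tr0 b.2) (congrArg Subtype.val hab)).2
    · rintro ⟨x, hx⟩
      obtain ⟨a, ha, rfl⟩ := (K.memX x).1 hx
      exact ⟨⟨a, ha⟩, rfl⟩

end Cfsg.Agent.OddHalf.Quat.UniRow
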