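import Cfsg.Agent.OddHalf.Quat.Big
import Cfsg.Agent.OddHalf.SL.OfDatum
import Cfsg.Agent.KFacts.RgdKap
import Cfsg.Agent.KFacts.RgdOwn
import Cfsg.Agent.KFacts.RgdTor
import Cfsg.Agent.KFacts.SLRow.Chev
import Cfsg.Agent.KFacts.SLRow.Psl
import Cfsg.Agent.KFacts.SLRow.OmegaPlus

/-!
# Node Q: `KBig` for the simply laced groups of rank at least 3 over fields of order `q ≥ 4` (helper341)

`kbig_of_isSL : IsSL q l K → 4 ≤ q → ∃ U : Sylow 2 K, KBig U`; rows `PSL_n(q)` (`n ≥ 4`), `PΩ⁺_{2n}(q)` (`n ≥ 3`),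
`E_6(q)`, `E_7(q)`, `E_8(q)`.
-/

set_option autoImplicit false
set_option linter.unusedSectionVars false
set_option linter.style.haveILetI false

namespace Cfsg.Agent.OddHalf.Quat.RowSL

open CoxeterSystem Cfsg.Agent.ChevalleyStructure.CoxeterGeom Cfsg.Agent.Tits.Roots Cfsg.Agent.Tits.Core
  Cfsg.Agent.Tits.RootComb Cfsg.Agent.Tits.Exchange Cfsg.Agent.Nodes.Comb Cfsg.Agent.Nodes.Reps
  Cfsg.Agent.Nodes.BNOf Cfsg.Agent.Nodes.NormalForm Cfsg.Agent.Nodes.Coroot Cfsg.Agent.Nodes.NormX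
  Cfsg.Agent.Nodes.StabComb Cfsg.Agent.Nodes.Bruhat Cfsg.Agent.Nodes.OppDec Cfsg.Agent.Nodes.LeviDec
  Cfsg.Agent.OddHalf.SL.Index Cfsg.Agent.OddHalf.SL.OfRGD Cfsg.Agent.KFacts.RgdSL Cfsg.Agent.KFacts.RgdTI
  Cfsg.Agent.KFacts.RgdCent Cfsg.Agent.KFacts.RgdOdd Cfsg.Agent.KFacts.SLRow.Def
open scoped commutatorElement

variable {I W : Type*} [Fintype I] [DecidableEq I] [Group W] {M : CoxeterMatrix I}
  {cs : CoxeterSystem M W} {A : I → I → ℤ} {h : IsCartan M A}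

section Comb

variable [Finite W] {ρ : I → ℤ} (hρ : IsRoot cs h ρ) (hd : ∀ i, 0 ≤ cpr cs h (sr i) ρ)

include hρ hd

/-- positive roots are not at an obtuse angle with the dominant root -/
theorem dom_nonneg {a : I → ℤ} (ha : 0 ≤ a) : 0 ≤ cpr cs h a ρ := by
  have e : a = ∑ i, a i • (sr i : I → ℤ) := by
    funext j
    rw [Finset.sum_apply]
    rw [Finset.sum_eq_single j]
    · rw [Pi.smul_apply, sr_self, smul_eq_mul, mul_one]
    · intro i _ hi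
      rw [Pi.smul_apply, sr_ne (Ne.symm hi), smul_zero]
    · intro hj; exact absurd (Finset.mem_univ j) hj
  have h1 : ell cs h hρ a = ∑ i, a i * ell cs h hρ (sr i) := by
    conv_lhs => rw [e]
    rw [map_sum]
    exact Finset.sum_congr rfl fun i _ => by rw [map_zsmul, smul_eq_mul]
  have h2 : cpr cs h a ρ = ell cs h hρ a := rfl
  rw [h2, h1]
  exact Finset.sum_nonneg fun i _ => mul_nonneg (ha i) (hd i)

theorem rad_pos {a : I → ℤ} (ha : IsRoot cs h a) (ha0 : 0 < cpr cs h a ρ) : a ∈ RGD.Pos cs h := by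
  refine ⟨ha, ?_⟩
  rcases ha.pos_or_neg with h1 | h1
  · exact h1
  exfalso
  have h2 := dom_nonneg hρ hd (a := -a) (neg_nonneg.2 h1)
  rw [cpr_neg_left _ hρ] at h2
  omega

end Comb

variable {Y : Type*} [Group Y] {T : Subgroup Y} {n : I → Y} {X : (I → ℤ) → Subgroup Y} {q : ℕ}

theorem le_comm {p : ℕ} [Finite W] (R : RGD cs h p T n X) {x y : I → ℤ} (hA : A2 cs h x y) {P Q : Subgroup Y} (hx : X x ≤ P)
    (hy : X y ≤ Q) : X (x + y) ≤ ⁅P, Q⁆ := by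
  intro w hw
  obtain ⟨⟨u, hu⟩, hu1⟩ := (Subgroup.ne_bot_iff_exists_ne_one).1 (Cfsg.Agent.OddHalf.SL.OfRGD.X_ne_bot R hA.rx)
  obtain ⟨v, hv, rfl⟩ := hA.comm_surj R hu (fun h0 => hu1 (Subtype.ext h0)) hw
  exact Subgroup.commutator_mem_commutator (hx hu) (hy hv)

/-- **`KBig` from a simply laced root group datum.** -/
theorem kbig [Finite W] [Finite Y] (D : Datum (⊤ : Subgroup Y) q cs h T n X) (hq : 4 ≤ q) :
    KBig (RGD.Sup X (RGD.Pos cs h)) := by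
  have hs : SL cs h := Cfsg.Agent.OddHalf.SL.PreOf.sl D.h4 D.h6
  have hL := Cfsg.Agent.OddHalf.SL.OfDatum.lr D
  have hGG := D.GG_eq
  obtain ⟨i0⟩ : Nonempty I := Fintype.card_pos_iff.1 (by have := D.three; omega)
  obtain ⟨w, hd⟩ := (hL _ (isRoot_sr cs h i0)).exists_dominant
  set ρ : I → ℤ := rep cs h w (sr i0) with hρdef
  have hρ : IsRoot cs h ρ := (isRoot_sr cs h i0).act w
  have hpos := @rad_pos I W _ _ _ M cs A h _ ρ hρ hd
  -- `ρ = a + b`, `a` and `b` positive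
  obtain ⟨a0, ha0, hρa0⟩ := Cfsg.Agent.KFacts.RgdKap.nb_of D.h4 D.h6 D.irr D.three hρ
  obtain ⟨c, hc, hcρ, hca⟩ := Cfsg.Agent.KFacts.RgdKap.three_of D.h4 D.h6 D.irr D.three hρ ha0 hρa0
  have ha0ρ : cpr cs h a0 ρ = 1 := by rw [hs a0 ρ ha0 hρ, hρa0]
  have hρc : cpr cs h ρ c = 1 := by rw [hs ρ c hρ hc, hcρ]
  -- for every root `a` with `⟨a, ρ⟩ = 1` : `ρ = a + (ρ - a)`
  have key : ∀ a, IsRoot cs h a → cpr cs h a ρ = 1 → A2 cs h a (ρ - a) ∧ a ∈ RGD.Pos cs h ∧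
      (ρ - a) ∈ RGD.Pos cs h := by
    intro a ha haρ
    have hρa : cpr cs h ρ a = 1 := by rw [hs ρ a hρ ha, haρ]
    have h1 : IsRoot cs h (ρ - a) := isRoot_sub hρ ha hρa
    refine ⟨hs.a2 ha h1 ?_, hpos ha (by omega), hpos h1 ?_⟩
    · rw [hs a _ ha h1, cpr_sub_left hs hρ ha ha, cpr_self cs h ha, hρa]; norm_num
    · rw [cpr_sub_left hs hρ ha hρ, cpr_self cs h hρ, haρ]; norm_num
  -- a root `e` with `⟨e, ρ⟩ = 1` which is a sum of two positive roots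
  obtain ⟨e, he, heρ, e1, e2, hA12, he1, he2, hsum⟩ : ∃ e, IsRoot cs h e ∧ cpr cs h e ρ = 1 ∧
      ∃ e1 e2, A2 cs h e1 e2 ∧ e1 ∈ RGD.Pos cs h ∧ e2 ∈ RGD.Pos cs h ∧ e = e1 + e2 := by
    have hac : cpr cs h a0 c = 1 := by rw [hs a0 c ha0 hc, hca]
    have hd1 : IsRoot cs h (a0 - c) := isRoot_sub ha0 hc hac
    rcases hd1.pos_or_neg with h1 | h1
    · refine ⟨a0, ha0, ha0ρ, c, a0 - c, hs.a2 hc hd1 ?_, hpos hc (by omega), ⟨hd1, h1⟩, by abel⟩
      rw [hs c _ hc hd1, cpr_sub_left hs ha0 hc hc, cpr_self cs h hc, hac]; norm_num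
    · have hd2 : IsRoot cs h (c - a0) := by
        have := hd1.neg
        rwa [neg_sub] at this
      refine ⟨c, hc, hcρ, a0, c - a0, hs.a2 ha0 hd2 ?_, hpos ha0 (by omega), ⟨hd2, ?_⟩, by abel⟩
      · rw [hs a0 _ ha0 hd2, cpr_sub_left hs hc ha0 ha0, cpr_self cs h ha0, hca]; norm_num
      · rw [← neg_sub]; exact neg_nonneg.2 h1
  obtain ⟨hAe, hepos, hepos'⟩ := key e he heρ
  set U : Subgroup Y := RGD.Sup X (RGD.Pos cs h) with hU
  have hXU : ∀ x ∈ RGD.Pos cs h, X x ≤ U := fun x hx => RGD.le_Sup hx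
  have hρe : e + (ρ - e) = ρ := by abel
  have hXρ : X ρ ≤ ⁅⁅U, U⁆, U⁆ := by
    rw [← hρe]
    refine le_comm D.rgd hAe ?_ (hXU _ hepos')
    rw [hsum]
    exact le_comm D.rgd hA12 (hXU _ he1) (hXU _ he2)
  -- the centre
  have hcen : ∀ x ∈ XZ U, x ∈ X ρ := by
    rintro x ⟨hx, -, hxc⟩
    refine f3_rad hs hρ (Cfsg.Agent.OddHalf.SL.OfDatum.orth' D hρ) D.rgd hL D.cent (by rw [hGG]; trivial) ?_
    intro a ha v hv
    exact (hxc v (hXU a (hpos ha.1 (by have := ha.2; omega)) hv)).symm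
  refine KBig.of_three D.rgd.isPGroup_Upos (fun x hx => hXρ (hcen x hx)) ?_
  intro w hw hw1
  have hwρ := hcen w hw
  -- two nontrivial elements of `X e`
  obtain ⟨u, hu, hu1, u', hu', hu1', huu⟩ : ∃ u ∈ X e, u ≠ 1 ∧ ∃ u' ∈ X e, u' ≠ 1 ∧ u ≠ u' := by
    have h1 : 2 < Nat.card ↥(X e) := by rw [D.card e he]; omega
    have h2 : ∃ x y : ↥(X e), x ≠ 1 ∧ y ≠ 1 ∧ x ≠ y := by
      by_contra hcon
      push Not at hcon
      obtain ⟨x, hx⟩ : ∃ x : ↥(X e), x ≠ 1 := by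
        by_contra hcon'
        push Not at hcon'
        have : Subsingleton ↥(X e) := ⟨fun a b => by rw [hcon' a, hcon' b]⟩
        have := Nat.card_of_subsingleton (1 : ↥(X e))
        omega
      have h3 : ∀ y : ↥(X e), y = 1 ∨ y = x := by
        intro y
        by_contra hy
        push Not at hy
        exact hy.2 (hcon x y hx hy.1).symm
      have h4 : Nat.card ↥(X e) ≤ 2 := by
        have hsurj : Function.Surjective (fun b : Bool => if b then (1 : ↥(X e)) else x) := by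
          intro y
          rcases h3 y with rfl | rfl
          · exact ⟨true, rfl⟩
          · exact ⟨false, rfl⟩
        have := Nat.card_le_card_of_surjective _ hsurj
        simpa using this
      omega
    obtain ⟨x, y, h3, h4, h5⟩ := h2
    exact ⟨x, x.2, fun e => h3 (Subtype.ext e), y, y.2, fun e => h4 (Subtype.ext e), fun e => h5 (Subtype.ext e)⟩
  obtain ⟨t, ht, -, hact⟩ := hAe.own D.rgd hu hu1 hu' hu1'
  rw [← hρe] at hwρ
  obtain ⟨v, hv, hvw⟩ := hAe.comm_surj D.rgd hu' hu1' hwρ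
  have hv1 : v ≠ 1 := by
    rintro rfl
    apply hw1
    rw [← hvw]; simp [commutatorElement_def]
  refine ⟨t, ?_, ?_⟩
  · apply Subgroup.mem_normalizer_fintype
    intro y hy
    have h1 : U ≤ U.comap (MulAut.conj t).toMonoidHom := by
      refine RGD.Sup_le fun a ha v hv => ?_
      exact hXU a ha (Cfsg.Agent.KFacts.RgdTor.tor_mem D.rgd ha.1 ht.1 hv)
    exact h1 hy
  · intro h1
    have h2 := hact v hv
    rw [hvw, h1, mul_inv_cancel_right, ← hvw] at h2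
    apply huu
    refine hAe.symm.comm_inj D.rgd hv hv1 hu hu' ?_
    rw [← commutatorElement_inv, ← commutatorElement_inv u', h2]

theorem kbig_of_isSL {l : ℕ} {K : Type*} [Group K] [Finite K] (hK : IsSL q l K) (hq : 4 ≤ q) :
    ∃ U : Sylow 2 K, KBig (U : Subgroup K) := by
  obtain ⟨M, A, h, T, n, X, hW, D⟩ := hK
  haveI := hW
  haveI : Fact (Nat.Prime 2) := ⟨Nat.prime_two⟩
  have hU : IsPGroup 2 ↥(RGD.Sup X (RGD.Pos M.toCoxeterSystem h)) := D.rgd.isPGroup_Upos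
  have hodd : ¬ 2 ∣ (RGD.Sup X (RGD.Pos M.toCoxeterSystem h)).index := by
    rw [← Subgroup.relIndex_top_right]
    have := D.odd
    rw [Nat.odd_iff] at this
    omega
  exact ⟨hU.toSylow hodd, kbig D hq⟩

/-! ### The rows -/

section Rows

open Cfsg Cfsg.Lie

universe u

variable (F : Type u) [Field F] [Finite F] [CharP F 2]

/-- `PSL_m(q)`, `m ≥ 4`, `q ≥ 4` even -/
theorem psl {m : ℕ} (hm : 4 ≤ m) (hq : 4 ≤ Nat.card F) :
    ∃ U : Sylow 2 (Matrix.ProjectiveSpecialLinearGroup (Fin m) F), KBig U.1 :=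
  kbig_of_isSL (Cfsg.Agent.KFacts.SLRow.Psl.isSL_PSL' hm F) hq

/-- `PΩ⁺_{2m}(q)`, `m ≥ 3`, `q ≥ 4` even -/
theorem oplus {m : ℕ} (hm : 3 ≤ m) (hq : 4 ≤ Nat.card F) :
    ∃ U : Sylow 2 (POmega F (quadFormPlus m F)), KBig U.1 :=
  kbig_of_isSL (Cfsg.Agent.KFacts.SLRow.OmegaPlus.isSL_POmega' hm F) hq

/-- `E₆(q)`, `q ≥ 4` even -/
theorem e6 (hq : 4 ≤ Nat.card F) : ∃ U : Sylow 2 ↥(chevE6.group F), KBig U.1 :=
  kbig_of_isSL (Cfsg.Agent.KFacts.SLRow.Chev.isSL_E6 F) hq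

/-- `E₇(q)`, `q ≥ 4` even -/
theorem e7 (hq : 4 ≤ Nat.card F) : ∃ U : Sylow 2 ↥(chevE7.group F), KBig U.1 :=
  kbig_of_isSL (Cfsg.Agent.KFacts.SLRow.Chev.isSL_E7 F) hq

/-- `E₈(q)`, `q ≥ 4` even -/
theorem e8 (hq : 4 ≤ Nat.card F) : ∃ U : Sylow 2 ↥(chevE8.group F), KBig U.1 :=
  kbig_of_isSL (Cfsg.Agent.KFacts.SLRow.Chev.isSL_E8 F) hq

end Rows

end Cfsg.Agent.OddHalf.Quat.RowSL
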