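import Cfsg.Agent.OddHalf.Quat.Big
import Cfsg.Agent.OddHalf.Quat.BigMap
import Cfsg.Agent.OddHalf.SpN.SylU
import Cfsg.Agent.OddHalf.SpN.Cent2
import Cfsg.Agent.OddHalf.SpN.Red

/-!
# Node Q: `KBig` for `PSp_2n(q)`, `n ≥ 3`, `q ≥ 4` even
-/

set_option autoImplicit false
set_option linter.unusedSectionVars false

namespace Cfsg.Agent.OddHalf.Quat.SpRow

open Cfsg Cfsg.Agent.ClassicalGeometry.SympBasic Cfsg.Agent.ClassicalGeometry.SympAutSemi Cfsg.Agent.OddHalf.SpN
  Cfsg.Agent.OddHalf.SpN.Frame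
open scoped commutatorElement

variable {n : ℕ} {F : Type*} [Field F]

/-- the indices `1, 2, 3` -/
structure Tri (i j k : Ix n) : Prop where
  ij : Dj i j
  ik : Dj i k
  jk : Dj j k
  pi : 0 < Fd i
  pj : 0 < Fd j
  pk : 0 < Fd k
  oi : ∀ l, Dj i l → 0 < Fd i + Fd l
  oj : ∀ l, Dj i l → Dj j l → 0 < Fd j + Fd l

theorem dj_inl {a b : Fin n} (h : a ≠ b) : Dj (Sum.inl a : Ix n) (Sum.inl b) :=
  ⟨fun e => h (Sum.inl_injective e), fun e => by cases e⟩

theorem ex_le (l : Ix n) : ex l ≤ n := Nat.sub_le _ _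

theorem pos_of_ex {i l : Ix n} (hi : Fd i = 5 ^ ex i) (h : ex l < ex i) : 0 < Fd i + Fd l := by
  have h1 : (5 : ℤ) ^ ex l < 5 ^ ex i := pow_lt_pow_right₀ (by norm_num) h
  have h2 : (0 : ℤ) < 5 ^ ex l := by positivity
  rcases Fd_cases l with h3 | h3 <;> rw [hi, h3] <;> omega

theorem exists_tri (hn : 3 ≤ n) : ∃ i j k : Ix n, Tri i j k ∧ i = Sum.inl ⟨0, by omega⟩ ∧ j = Sum.inl ⟨1, by omega⟩ := by
  have e : ∀ a : Fin n, ex (Sum.inl a : Ix n) = n - a := fun _ => rfl
  have hF : ∀ a : Fin n, Fd (Sum.inl a : Ix n) = 5 ^ ex (Sum.inl a : Ix n) := fun _ => rfl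
  have hp : ∀ a : Fin n, 0 < Fd (Sum.inl a : Ix n) := fun a => by rw [hF]; positivity
  refine ⟨Sum.inl ⟨0, by omega⟩, Sum.inl ⟨1, by omega⟩, Sum.inl ⟨2, by omega⟩, ⟨dj_inl (by simp), dj_inl (by simp),
    dj_inl (by simp), hp _, hp _, hp _, ?_, ?_⟩, rfl, rfl⟩
  · intro l hl
    have h1 := ex_ne hl
    have h2 := ex_le l
    apply pos_of_ex (hF _)
    rw [e] at h1 ⊢
    simp only at h1 ⊢
    omega
  · intro l hl hl'
    have h1 := ex_ne hl
    have h3 := ex_ne hl'
    have h2 := ex_le l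
    apply pos_of_ex (hF _)
    rw [e] at h1 h3 ⊢
    simp only at h1 h3 ⊢
    omega

section two

variable [CharP F 2] {i j k : Ix n} (T : Tri i j k)
include T

theorem ne_neg_i {p q : Ix n} (hd : Dj p q) (h : 0 < Fd p + Fd q) : p ≠ neg i := by
  rintro rfl
  have h1 := T.oi (neg q) (dj_neg_right.2 (dj_neg_left.1 hd))
  rw [Fd_neg] at h h1
  omega

theorem comm_y {u : Sy n F} (hu : u ∈ Upos n F) (a : F) : Commute (sy i a) u := by
  induction hu using Subgroup.closure_induction with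
  | mem x hx =>
    rcases hx with ⟨p, q, hd, h, c, rfl⟩ | ⟨p, h, c, rfl⟩
    · exact sy_sx_comm (ne_neg_i T hd h) (ne_neg_i T hd.symm (by omega)) _ _
    · refine sy_comm ?_ _ _
      rintro rfl
      have := T.pi
      rw [Fd_neg] at h
      omega
  | one => exact Commute.one_right _
  | mul x y _ _ hx hy => exact hx.mul_right hy
  | inv x _ hx => exact hx.inv_right

theorem comm_x {u : Sy n F} (hu : u ∈ Upos n F) (a : F) : Commute (sx i j a) u := by
  have key : ∀ (p q : Ix n) (c : F), Dj p q → 0 < Fd p + Fd q → p = neg j → Commute (sx i j a) (sx p q c) := by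
    rintro p q c hd h rfl
    have hq : q = i := by
      by_contra hne
      have h1 := ne_neg_i T hd.symm (by omega)
      have h2 : Dj i q := ⟨fun e => hne e.symm, fun e => h1 (by rw [e, neg_neg])⟩
      have h3 := T.oj (neg q) (dj_neg_right.2 h2) (dj_neg_right.2 (dj_neg_left.1 hd))
      rw [Fd_neg] at h h3
      omega
    rw [hq, sx_symm i j]
    exact sx_comm' _ _
  induction hu using Subgroup.closure_induction with
  | mem x hx =>
    rcases hx with ⟨p, q, hd, h, c, rfl⟩ | ⟨p, h, c, rfl⟩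
    · by_cases h1 : p = neg j
      · exact key p q c hd h h1
      by_cases h2 : q = neg j
      · rw [sx_symm p q]
        exact key q p c hd.symm (by omega) h2
      exact sx_comm (ne_neg_i T hd h) h1 (ne_neg_i T hd.symm (by omega)) h2 _ _
    · refine (sy_sx_comm ?_ ?_ _ _).symm
      · intro e
        have := T.pi
        rw [e, Fd_neg] at this
        omega
      · intro e
        have := T.pj
        rw [e, Fd_neg] at this
        omega
  | one => exact Commute.one_right _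
  | mul x y _ _ hx hy => exact hx.mul_right hy
  | inv x _ hx => exact hx.inv_right

theorem ij_pos : 0 < Fd i + Fd j := by
  have := T.pi
  have := T.pj
  omega

/-- the centre -/
theorem mem_iff {A : Sy n F} : A ∈ XZ (Upos n F) ↔ ∃ a b, A = sy i a * sx i j b := by
  constructor
  · rintro ⟨-, -, hc⟩
    have hc' : ∀ u ∈ Upos n F, Commute A u := fun u hu => (hc u hu).symm
    have hy := hc' _ (sy_mem_Upos (n := n) T.pi (1 : F))
    have hx : ∀ l, Dj i l → Commute A (sx i l 1) := fun l hl => hc' _ (sx_mem_Upos hl (T.oi l hl) 1)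
    obtain ⟨a, b, d, e⟩ := FQ_Sy T.ij hy hx (fun l hl hl' =>
      (cx_of_comm hl' (hc' _ (sx_mem_Upos hl' (T.oj l hl hl') 1))).colj i T.ij.1 hl.1)
    have h1 : ent A i j = 0 := (cy_of_comm (hc' _ (sy_mem_Upos (n := n) T.pj (1 : F)))).col i T.ij.1
    have h2 : ent A i j = d := by
      have e1 : neg j ≠ i := fun e => T.ij.2 e.symm
      have e2 : neg i ≠ j := fun e => T.ij.2 (by rw [← e, neg_neg])
      have e3 : i ≠ j := T.ij.1
      have hd' : Dj i (neg j) := dj_neg_right.2 T.ij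
      rw [e, ent, map_mul, map_mul, Equiv.Perm.mul_apply, Equiv.Perm.mul_apply]
      simp only [rho_sx T.ij, rho_sx hd', rho_sy, Pi.add_apply, Pi.smul_apply, smul_eq_mul, be_apply, neg_neg,
        if_true, e1, e2, e3, e3.symm, neg_ne, ne_neg, if_false, e1.symm, e2.symm]
      ring
    rw [h2] at h1
    rw [h1, sx_zero, mul_one] at e
    exact ⟨a, b, e⟩
  · rintro ⟨a, b, rfl⟩
    have h1 : sy i a ∈ Upos n F := sy_mem_Upos T.pi a
    have h2 : sx i j b ∈ Upos n F := sx_mem_Upos T.ij (ij_pos T) b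
    refine ⟨mul_mem h1 h2, ?_, fun u hu => ?_⟩
    · have h3 := (comm_y T h2 a).eq
      calc sy i a * sx i j b * (sy i a * sx i j b) = sy i a * (sx i j b * sy i a) * sx i j b := by group
        _ = sy i a * (sy i a * sx i j b) * sx i j b := by rw [h3]
        _ = (sy i a * sy i a) * (sx i j b * sx i j b) := by group
        _ = 1 := by rw [sy_sq, sx_sq, one_mul]
    · exact ((comm_y T hu a).mul_left (comm_x T hu b)).symm.eq

theorem inj {a b a' b' : F} (h : sy i a * sx i j b = sy i a' * sx i j b') : a = a' ∧ b = b' := by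
  have e1 : neg j ≠ i := fun e => T.ij.2 e.symm
  have e2 : neg i ≠ j := fun e => T.ij.2 (by rw [← e, neg_neg])
  have e3 : i ≠ j := T.ij.1
  have e4 : neg i ≠ neg j := fun e => e3 (neg_inj.1 e)
  have key : ∀ a b : F, rho n F (sy i a * sx i j b) (be n F (neg i)) i = a ∧
      rho n F (sy i a * sx i j b) (be n F (neg i)) j = b := by
    intro a b
    rw [map_mul, Equiv.Perm.mul_apply]
    constructor <;>
    · simp only [rho_sx T.ij, rho_sy, Pi.add_apply, Pi.smul_apply, smul_eq_mul, be_apply, neg_neg,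
        if_true, e1, e2, e3, e3.symm, neg_ne, ne_neg, if_false, e1.symm, e2.symm, e4, e4.symm]
      ring
  have h1 := key a b
  have h2 := key a' b'
  rw [h] at h1
  exact ⟨h1.1.symm.trans h2.1, h1.2.symm.trans h2.2⟩

end two

section comm

variable [CharP F 2]

theorem cm_x {i j k : Ix n} (hij : Dj i j) (hjk : Dj j k) (hik : Dj i k) (a b : F) :
    ⁅sx i j a, sx (neg j) k b⁆ = sx i k (a * b) := by
  rw [commutatorElement_def, mul_inv_eq_iff_eq_mul, mul_inv_eq_iff_eq_mul, mul_assoc]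
  exact sx_rel hij hjk hik a b

theorem cm_y {i j : Ix n} (hij : Dj i j) (a b : F) :
    ⁅sy i a, sx (neg i) j b⁆ = sx i j (a * b) * sy j (a * b ^ 2) := by
  rw [commutatorElement_def, mul_inv_eq_iff_eq_mul, mul_inv_eq_iff_eq_mul, mul_assoc (sx i j (a * b) * sy j (a * b ^ 2))]
  exact sy_rel hij a b

/-- `X ≤ [U,U,U]` -/
theorem three {i j k : Ix n} (T : Tri i j k) {θ : F} (h0 : θ ≠ 0) (h1 : θ ≠ 1) {x : Sy n F} (hx : x ∈ XZ (Upos n F)) :
    x ∈ ⁅⁅Upos n F, Upos n F⁆, Upos n F⁆ := by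
  obtain ⟨a, b, rfl⟩ := (mem_iff T).1 hx
  set U := Upos n F
  have oi := T.oi
  have oj := T.oj
  have pi := T.pi
  have pj := T.pj
  have pk := T.pk
  -- `e₁ - e₃`
  have s1 : ∀ c : F, sx i (neg k) c ∈ ⁅U, U⁆ := by
    intro c
    have hij' : Dj i (neg j) := dj_neg_right.2 T.ij
    have h2 := cm_x hij' (dj_neg_left.2 (dj_neg_right.2 T.jk)) (dj_neg_right.2 T.ik) c (1 : F)
    rw [mul_one, neg_neg] at h2
    rw [← h2]
    exact Subgroup.commutator_mem_commutator (sx_mem_Upos hij' (oi _ hij') c)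
      (sx_mem_Upos (dj_neg_right.2 T.jk) (oj _ (dj_neg_right.2 T.ik) (dj_neg_right.2 T.jk)) 1)
  -- `e₁ + e₂`
  have s2 : ∀ c : F, sx i j c ∈ ⁅⁅U, U⁆, U⁆ := by
    intro c
    have h2 := cm_x (dj_neg_right.2 T.ik) (dj_neg_left.2 T.jk.symm) T.ij c (1 : F)
    rw [mul_one, neg_neg] at h2
    rw [← h2]
    exact Subgroup.commutator_mem_commutator (s1 c) (sx_mem_Upos T.jk.symm (by omega) 1)
  -- `2 e₂`
  have s3 : ∀ c : F, sy j c ∈ ⁅U, U⁆ := by
    intro c
    have hkj : Dj (neg k) j := dj_neg_left.2 T.jk.symm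
    have hp : 0 < Fd (neg k) + Fd j := by
      have := oj (neg k) (dj_neg_right.2 T.ik) (dj_neg_right.2 T.jk)
      omega
    have h2 : ∀ a b : F, sx k j (a * b) * sy j (a * b ^ 2) ∈ ⁅U, U⁆ := by
      intro a b
      rw [← cm_y T.jk.symm a b]
      exact Subgroup.commutator_mem_commutator (sy_mem_Upos pk a) (sx_mem_Upos hkj hp b)
    have h3 : (1 : F) + θ ≠ 0 := by
      intro h
      apply h1
      have := CharTwo.add_self_eq_zero (1 : F)
      linear_combination h - this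
    set s := c * (1 + θ)⁻¹ with hs
    have h4 := mul_mem (inv_mem (h2 s 1)) (h2 (s * θ⁻¹) θ)
    have h5 : s * θ⁻¹ * θ = s := by field_simp
    have h6 : s * θ⁻¹ * θ ^ 2 = s * θ := by field_simp
    rw [h5, h6, mul_one, one_pow, mul_one, mul_inv_rev, inv_eq_of_mul_eq_one_left (sy_sq j s), mul_assoc,
      inv_mul_cancel_left, ← sy_add] at h4
    have h7 : s + s * θ = c := by rw [hs]; field_simp
    rwa [h7] at h4
  -- `2 e₁`
  have s4 : ∀ c : F, sy i c ∈ ⁅⁅U, U⁆, U⁆ := by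
    intro c
    have hji : Dj (neg j) i := dj_neg_left.2 T.ij.symm
    have hp : 0 < Fd (neg j) + Fd i := by
      have := oi (neg j) (dj_neg_right.2 T.ij)
      omega
    have h2 := cm_y T.ij.symm c (1 : F)
    rw [mul_one, one_pow, mul_one] at h2
    have h3 : ⁅sy j c, sx (neg j) i (1 : F)⁆ ∈ ⁅⁅U, U⁆, U⁆ :=
      Subgroup.commutator_mem_commutator (s3 c) (sx_mem_Upos hji hp 1)
    rw [h2] at h3
    have h4 := mul_mem (inv_mem (s2 c)) h3
    rwa [sx_symm i j, inv_mul_cancel_left] at h4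
  exact mul_mem (s4 a) (s2 b)

theorem sh_mem (lam : Fin n → Fˣ) {u : Sy n F} (hu : u ∈ Upos n F) : sh lam * u * (sh lam)⁻¹ ∈ Upos n F := by
  have h1 : Upos n F ≤ (Upos n F).comap (MulAut.conj (sh lam)).toMonoidHom := by
    conv_lhs => rw [Upos]
    rw [Subgroup.closure_le]
    rintro _ (⟨p, q, hd, h, c, rfl⟩ | ⟨p, h, c, rfl⟩)
    · change sh lam * sx p q c * (sh lam)⁻¹ ∈ Upos n F
      rw [sh_sx]
      exact sx_mem_Upos hd h _
    · change sh lam * sy p c * (sh lam)⁻¹ ∈ Upos n F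
      rw [sh_sy]
      exact sy_mem_Upos h _
  exact h1 hu

theorem sh_norm (lam : Fin n → Fˣ) : sh lam ∈ Subgroup.normalizer (Upos n F : Set (Sy n F)) := by
  rw [Subgroup.mem_normalizer_iff]
  intro u
  refine ⟨fun h => sh_mem lam h, fun h => ?_⟩
  have h1 := sh_mem lam⁻¹ h
  rw [map_inv] at h1
  have h2 : (sh lam)⁻¹ * (sh lam * u * (sh lam)⁻¹) * (sh lam)⁻¹⁻¹ = u := by group
  rwa [h2] at h1

theorem mv (hn : 3 ≤ n) {θ : F} (h0 : θ ≠ 0) (h1 : θ ≠ 1) {w : Sy n F} (hw : w ∈ XZ (Upos n F)) (hw1 : w ≠ 1) :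
    ∃ r ∈ Subgroup.normalizer (Upos n F : Set (Sy n F)), r * w ≠ w * r := by
  obtain ⟨i, j, k, T, hi, hj⟩ := exists_tri (n := n) hn
  obtain ⟨a, b, rfl⟩ := (mem_iff T).1 hw
  set lam : Fin n → Fˣ := Function.update 1 ⟨0, by omega⟩ (Units.mk0 θ h0) with hlam
  have e1 : ev lam i = Units.mk0 θ h0 := by
    rw [hi]
    change lam ⟨0, by omega⟩ = _
    rw [hlam, Function.update_self]
  have e2 : ev lam j = 1 := by
    rw [hj]
    change lam ⟨1, by omega⟩ = _
    rw [hlam, Function.update_of_ne (by simp)]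
    rfl
  refine ⟨sh lam, sh_norm lam, fun h => ?_⟩
  have h2 : sh lam * (sy i a * sx i j b) * (sh lam)⁻¹ = sy i a * sx i j b := by rw [h, mul_inv_cancel_right]
  have h3 : sh lam * (sy i a * sx i j b) * (sh lam)⁻¹ =
      (sh lam * sy i a * (sh lam)⁻¹) * (sh lam * sx i j b * (sh lam)⁻¹) := by group
  rw [h3, sh_sy, sh_sx, e1, e2, Units.val_mk0, Units.val_one, mul_one] at h2
  obtain ⟨h4, h5⟩ := inj T h2
  apply hw1
  have hb : b = 0 := by
    by_contra hb
    exact h1 (mul_right_cancel₀ hb (by rw [one_mul]; exact h5))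
  have ha : a = 0 := by
    by_contra ha
    have h6 : θ ^ 2 = 1 := mul_right_cancel₀ ha (by rw [one_mul]; exact h4)
    have h7 : (θ - 1) * (θ - 1) = 0 := by
      have := two0 (F := F)
      linear_combination h6 + (1 - θ) * this
    exact h1 (sub_eq_zero.1 (mul_self_eq_zero.1 h7))
  rw [ha, hb, sy_zero, sx_zero, one_mul]

variable [Finite F]

theorem kbig (hn : 3 ≤ n) {θ : F} (h0 : θ ≠ 0) (h1 : θ ≠ 1) : KBig (Upos n F) := by
  obtain ⟨i, j, k, T, -, -⟩ := exists_tri (n := n) hn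
  exact KBig.of_three isPGroup_Upos (fun x hx => three T h0 h1 hx) (fun w hw hw1 => mv hn h0 h1 hw hw1)

end comm

/-- **the groups `PSp_2n(q)`** -/
theorem row {F : Type*} [Field F] [Fintype F] {n a : ℕ} (hF : Fintype.card F = 2 ^ a) (ha : 2 ≤ a) (hn : 3 ≤ n) :
    ∃ U : Sylow 2 (Cfsg.PSp n F), KBig (U : Subgroup (Cfsg.PSp n F)) := by
  have hp2 : Fact (Nat.Prime 2) := ⟨Nat.prime_two⟩
  have hc2 : CharP F 2 := charP_of_card_eq_prime_pow hF
  obtain ⟨θ, h0, h1⟩ : ∃ θ : F, θ ≠ 0 ∧ θ ≠ 1 := by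
    classical
    by_contra hcon
    push Not at hcon
    have : (Finset.univ : Finset F) ⊆ {0, 1} := by
      intro x _
      by_cases hx : x = 0
      · simp [hx]
      · simp [hcon x hx]
    have h3 := Finset.card_le_card this
    rw [Finset.card_univ, hF] at h3
    have h4 : ({0, 1} : Finset F).card ≤ 2 := Finset.card_le_two
    have h5 : 2 ^ 2 ≤ 2 ^ a := Nat.pow_le_pow_right (by norm_num) ha
    omega
  have e : Cfsg.PSp n F ≃* Sy n F :=
    (QuotientGroup.quotientMulEquivOfEq (center_Sy (by omega))).trans QuotientGroup.quotientBot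
  apply exists_kbig_of_equiv e.symm
  have hodd : ¬ 2 ∣ (Upos n F).index := by
    have := odd_index_Upos (n := n) (F := F)
    rwa [← Nat.not_even_iff_odd, even_iff_two_dvd] at this
  exact ⟨isPGroup_Upos.toSylow hodd, kbig hn h0 h1⟩

end Cfsg.Agent.OddHalf.Quat.SpRow
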