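import Cfsg.Agent.OddHalf.Quat.BigMap
import Cfsg.Agent.StdRank2.SpJe
import Cfsg.Agent.StdRank2.OutSpGraph

/-!
# Node Q: `KBig` for `PSp₄(q)`, `q ≥ 4` even
-/

set_option autoImplicit false
set_option linter.unusedSectionVars false

namespace Cfsg.Agent.OddHalf.Quat.SpFourRow

open Subgroup
open Cfsg.Agent.StdRank2
open Cfsg.Agent.TitsThree.B2Pkg Cfsg.Agent.TitsThree.RankTwoIdentB2
  Cfsg.Agent.TitsThree.CoreB2 Cfsg.Agent.TitsThree.RankTwoIdx Cfsg.Agent.TitsThree.RankTwoRGD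
  Cfsg.Agent.TitsThree.StdData
open Cfsg.Agent.StdRank2.OddLift Cfsg.Agent.StdRank2.B2Lift Cfsg.Agent.StdRank2.B2Std
  Cfsg.Agent.StdRank2.B2Torus Cfsg.Agent.StdRank2.B2Act Cfsg.Agent.StdRank2.B2Act.Std
  Cfsg.Agent.StdRank2.B2Par Cfsg.Agent.StdRank2.B2Par.Std Cfsg.Agent.StdRank2.B2Self
  Cfsg.Agent.StdRank2.OutB2Par Cfsg.Agent.StdRank2.OutB2Aut
  Cfsg.Agent.StdRank2.OutB2Tw Cfsg.Agent.StdRank2.OutB2Data Cfsg.Agent.StdRank2.OutB2Decomp
  Cfsg.Agent.StdRank2.SpFrame Cfsg.Agent.StdRank2.SpSelf Cfsg.Agent.StdRank2.SpJe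

universe u

section field

variable {F : Type*} [Field F]

theorem one_of_pow [CharP F 2] {c : F} {n : ℕ} (h : c ^ 2 ^ n = 1) : c = 1 := by
  have : ExpChar F 2 := ExpChar.prime Nat.prime_two
  have h1 := (ExpChar.pow_prime_pow_mul_eq_one_iff 2 n 1 c).1 (by rw [mul_one]; exact h)
  rwa [pow_one] at h1

theorem exists_ne_zero_one [Finite F] (hF : 4 ≤ Nat.card F) : ∃ θ : F, θ ≠ 0 ∧ θ ≠ 1 := by
  classical
  have := Fintype.ofFinite F
  rw [Nat.card_eq_fintype_card] at hF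
  by_contra hcon
  push Not at hcon
  have : (Finset.univ : Finset F) ⊆ {0, 1} := by
    intro x _
    by_cases hx : x = 0
    · simp [hx]
    · simp [hcon x hx]
  have h3 := Finset.card_le_card this
  rw [Finset.card_univ] at h3
  have h4 : ({0, 1} : Finset F).card ≤ 2 := Finset.card_le_two
  omega

/-- a proper fixed field -/
theorem fix_sq_le [Finite F] {ρ : F ≃+* F} (hρ : ρ ≠ 1) :
    Nat.card {a : F // ρ a = a} * Nat.card {a : F // ρ a = a} ≤ Nat.card F := by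
  obtain ⟨a, ha⟩ : ∃ a, ρ a ≠ a := by
    by_contra hcon
    push Not at hcon
    exact hρ (RingEquiv.ext hcon)
  rw [← Nat.card_prod]
  apply Nat.card_le_card_of_injective (fun z : {a : F // ρ a = a} × {a : F // ρ a = a} => (z.1 : F) + z.2 * a)
  rintro ⟨⟨k, hk⟩, ⟨l, hl⟩⟩ ⟨⟨k', hk'⟩, ⟨l', hl'⟩⟩ h
  have h1 : k + l * a = k' + l' * a := h
  have h2 : ρ (k + l * a) = ρ (k' + l' * a) := by rw [h1]
  rw [map_add, map_add, map_mul, map_mul, hk, hl, hk', hl'] at h2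
  have h3 : (l - l') * (ρ a - a) = 0 := by linear_combination h2 - h1
  rcases mul_eq_zero.1 h3 with h4 | h4
  · have h5 : l = l' := sub_eq_zero.1 h4
    subst h5
    have h6 : k = k' := add_right_cancel h1
    subst h6
    rfl
  · exact absurd (sub_eq_zero.1 h4) ha

end field

variable {F : Type*} [Field F] [Finite F] [CharP F 2]
variable {A : Type u} [Group A] [Finite A] (S : Std (stdSp F) A) [IsSimpleGroup A]

/-- the centre of `U` -/
theorem mem_iff {v : A} : v ∈ XZ S.U ↔ v ∈ S.VI ⊓ S.VJ := by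
  have hc2 : (2 : F) = 0 := by exact_mod_cast CharP.cast_eq_zero F 2
  constructor
  · rintro ⟨hv, -, hc⟩
    obtain ⟨a, p, b, q, rfl⟩ := exists_nf_sp S hv
    have h1 := hc _ (nf_mem (m := S.m) 1 (tt 0) 0 (tt 0))
    have h2 := hc _ (nf_mem (m := S.m) 0 (tt 0) 0 (tt 1))
    change nf S.m 1 (tt 0) 0 (tt 0) * _ = _ * nf S.m 1 (tt 0) 0 (tt 0) at h1
    change nf S.m 0 (tt 0) 0 (tt 1) * _ = _ * nf S.m 0 (tt 0) 0 (tt 1) at h2
    rw [mul_sp, mul_sp] at h1 h2
    have e1 := (nf_inj_sp S h1).2.2.1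
    have e2 := (nf_inj_sp S h2).2.2.1
    have hq : q = 0 := by linear_combination -e1
    have ha : a = 0 := by linear_combination e2
    subst hq ha
    exact ⟨mem_VI_iff.2 ⟨_, _, _, rfl⟩, mem_VJ_iff.2 ⟨_, _, _, rfl⟩⟩
  · intro hv
    obtain ⟨b, p, rfl⟩ := (SpSelf.mem_inf S).1 hv
    have e1 : S.m.z₁ (tt p) * S.m.y b = nf S.m 0 (tt p) b (tt 0) := by
      unfold B2Std.nf
      rw [show S.m.x 0 = 1 from add_zero' S.rel.x_add, ← tt_one, show S.m.z₂ 1 = 1 from mul_one' S.rel.z₂_mul,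
        one_mul, mul_one]
    rw [e1]
    refine ⟨nf_mem _ _ _ _, ?_, fun u hu => ?_⟩
    · rw [mul_sp, ← nf_one S.rel]
      have e2 : p + 0 * 0 * 0 + p = 0 := by linear_combination p * hc2
      have e3 : b + 0 * 0 + b = 0 := by linear_combination b * hc2
      rw [e2, e3, add_zero, tt_one]
    · have := comm_Z S hu p b
      rwa [mul_inv_eq_iff_eq_mul] at this

/-- `N_K(U)` fixes no involution of `Z(U)` -/
theorem mv (hF : 4 ≤ Nat.card F) {w : A} (hw : w ∈ XZ S.U) (hw1 : w ≠ 1) :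
    ∃ r ∈ normalizer (S.U : Set A), r * w ≠ w * r := by
  obtain ⟨θ, h0, h1⟩ := exists_ne_zero_one hF
  have hN : ∀ g ∈ S.H, g ∈ normalizer (S.U : Set A) := by
    intro g hg
    rw [Std.normalizer_U S]
    exact le_sup_right (a := S.U) hg
  have e0 : ∀ p b : F, S.m.z₁ (tt p) * S.m.y b = nf S.m 0 (tt p) b (tt 0) := by
    intro p b
    unfold B2Std.nf
    rw [show S.m.x 0 = 1 from add_zero' S.rel.x_add, ← tt_one, show S.m.z₂ 1 = 1 from mul_one' S.rel.z₂_mul,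
      one_mul, mul_one]
  obtain ⟨b, p, rfl⟩ := (SpSelf.mem_inf S).1 ((mem_iff S).1 hw)
  by_cases hp : p = 0
  · subst hp
    have hb : b ≠ 0 := by
      rintro rfl
      apply hw1
      rw [e0, ← nf_one S.rel, tt_one]
    have hp' : (tt θ).c ≠ 0 := h0
    have hq' : (tt (1 : F)).c ≠ 0 := one_ne_zero
    refine ⟨hII S.m (tt θ) (tt 1), hN _ (hII_mem_H hp' hq'), ?_⟩
    intro hh
    have hz : S.m.z₁ (tt (0 : F)) = 1 := by rw [← tt_one]; exact mul_one' S.rel.z₁_mul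
    rw [hz, one_mul] at hh
    have h2 := hII_y S.rel hp' hq' b
    rw [hh, mul_inv_cancel_right] at h2
    have h3 := S.y_injective h2
    have h4 : b = θ * (1 : F)⁻¹ * b := h3
    rw [inv_one, mul_one] at h4
    exact h1 (mul_right_cancel₀ hb (by rw [one_mul]; exact h4.symm))
  · refine ⟨hI S.m θ, hN _ (hI_mem_H h0), ?_⟩
    intro hh
    have h2 := hI_z₁ S.rel h0 (tt p)
    have h3 := hI_y S.rel h0 b
    have h4 : hI S.m θ * (S.m.z₁ (tt p) * S.m.y b) * (hI S.m θ)⁻¹ = S.m.z₁ (tt p) * S.m.y b := by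
      rw [hh, mul_inv_cancel_right]
    have h5 : hI S.m θ * (S.m.z₁ (tt p) * S.m.y b) * (hI S.m θ)⁻¹ =
        (hI S.m θ * S.m.z₁ (tt p) * (hI S.m θ)⁻¹) * (hI S.m θ * S.m.y b * (hI S.m θ)⁻¹) := by group
    rw [h5, h2, h3, sc_tt, e0, e0] at h4
    have h6 := (nf_inj_sp S h4).2.1
    have h7 : θ * θ = 1 := mul_right_cancel₀ hp (by rw [one_mul]; exact h6)
    have h8 : (θ - 1) * (θ - 1) = 0 := by
      have hc2 : (2 : F) = 0 := by exact_mod_cast CharP.cast_eq_zero F 2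
      linear_combination h7 + (1 - θ) * hc2
    exact h1 (sub_eq_zero.1 (mul_self_eq_zero.1 h8))

/-- fixed points of field type -/
theorem card_fld {φ : MulAut A} {u : A} (hu : u ∈ S.U) {c : Fˣ × Fˣ} {ρ : F ≃+* F}
    (e : φ = MulAut.conj u * (dg S c * fd nSp S ρ)) {B : Subgroup A} (hB : B ≤ S.U) (hfix : ∀ v ∈ B, φ v = v) :
    Nat.card B ≤ Nat.card {a : F // ρ a = a} * (Nat.card {a : F // ρ a = a} *
      (Nat.card {a : F // ρ a = a} * Nat.card {a : F // ρ a = a})) := by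
  have h1 := card_le_mul B S.VI {a : F | (c.1 : F) * (c.2 : F)⁻¹ * ρ a = a} (fun x a => PX S x a)
    (by
      intro x hx
      obtain ⟨a, p, b, q, hq⟩ := exists_nf_sp S (hB hx)
      refine ⟨a, ?_, ⟨_, _, _, hq⟩⟩
      have h2 := hfix x hx
      rw [hq, apply_nf S e] at h2
      have h3 : PX S (B2Std.nf S.m a (tt p) b (tt q)) a := ⟨_, _, _, rfl⟩
      have h4 := PX.conj (S := S) (g := B2Std.nf S.m ((c.1 : F) * (c.2 : F)⁻¹ * ρ a)
        (tt ((c.1 : F) * c.1 * ρ p)) ((c.1 : F) * c.2 * ρ b) (tt ((c.2 : F) * c.2 * ρ q)))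
        (a := (c.1 : F) * (c.2 : F)⁻¹ * ρ a) ⟨_, _, _, rfl⟩ hu
      rw [h2] at h4
      exact h4.uniq h3)
    (by
      intro x hx y hy a hxa hya
      have h2 := hxa.inv.mul hya
      rw [neg_add_cancel] at h2
      exact mem_VI_iff.2 h2)
  refine h1.trans (Nat.mul_le_mul (card_fix_le _ ρ) ?_)
  have h1' := card_le_mul (B ⊓ S.VI) (S.VI ⊓ S.VJ) {a : F | (c.2 : F) * c.2 * ρ a = a} (fun x a => PZ S x (tt a))
    (by
      rintro x ⟨hx, -⟩
      obtain ⟨a, p, b, q, hq⟩ := exists_nf_sp S (hB hx)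
      refine ⟨q, ?_, ⟨_, _, _, hq⟩⟩
      have h2 := hfix x hx
      rw [hq, apply_nf S e] at h2
      obtain ⟨r, hr⟩ := exists_PZ hu
      have h3 : PZ S (B2Std.nf S.m a (tt p) b (tt q)) (tt q) := ⟨_, _, _, rfl⟩
      have h4 := PZ.conj (S := S) (g := B2Std.nf S.m ((c.1 : F) * (c.2 : F)⁻¹ * ρ a)
        (tt ((c.1 : F) * c.1 * ρ p)) ((c.1 : F) * c.2 * ρ b) (tt ((c.2 : F) * c.2 * ρ q)))
        (q := tt ((c.2 : F) * c.2 * ρ q)) ⟨_, _, _, rfl⟩ hr
      rw [h2] at h4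
      have h5 := h4.uniq h3
      have h6 : r * tt ((c.2 : F) * c.2 * ρ q) * r⁻¹ = tt ((c.2 : F) * c.2 * ρ q) := by
        rw [← comm_of_w (p := tt ((c.2 : F) * c.2 * ρ q)) rfl r]; group
      rw [h6] at h5
      exact tt_inj h5)
    (by
      rintro x ⟨hx, hxI⟩ y ⟨hy, hyI⟩ a hxa hya
      have h2 := hxa.inv.mul hya
      rw [inv_mul_cancel] at h2
      exact Subgroup.mem_inf.mpr ⟨mul_mem (inv_mem hxI) hyI, mem_VJ_iff.2 h2⟩)
  refine h1'.trans (Nat.mul_le_mul (card_fix_le _ ρ) ?_)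
  exact card_Z S hu e inf_le_right (fun v hv => hfix v hv.1.1)

/-- fixed points of graph type -/
theorem card_gr {φ : MulAut A} (hF : 3 ≤ Nat.card F) (hU : ∀ v ∈ S.U, φ v ∈ S.U)
    (h1 : ∀ v ∈ S.VI, φ v ∈ S.VJ) (h2 : ∀ v ∈ S.VJ, φ v ∈ S.VI) {B : Subgroup A} (hB : B ≤ S.U)
    (hfix : ∀ v ∈ B, φ v = v) : Nat.card B ≤ Nat.card F * Nat.card F := by
  obtain ⟨k1, k2⟩ := OutSpGraph.gm_swap S
  obtain ⟨u, hu, c, ρ, e⟩ := decomp (N := nSp) (S := S) (φ := φ * OutSpGraph.gm S) (tySp hF)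
    (fun v hv => hU _ (OutSpGraph.gm_U S hv)) (fun v hv => h2 _ (k1 v hv)) (fun v hv => h1 _ (k2 v hv))
  -- the group `y(F)` goes to `z₁(F)`
  have hy : ∀ b, φ (S.m.y b) = B2Std.nf S.m 0 (tt ((c.1 : F) * c.1 * ρ b)) 0 (tt 0) := by
    intro b
    have e1 : S.m.y b = OutSpGraph.gm S (S.m.z₁ (tt b)) := (OutSpGraph.gm_z₁ S (tt b)).symm
    have e2 : S.m.z₁ (tt b) = B2Std.nf S.m 0 (tt b) 0 (tt 0) := z₁_eq_nf S.rel _
    have e3 := apply_nf S e 0 b 0 0
    rw [map_zero, mul_zero, mul_zero, mul_zero, comm_Z S hu, MulAut.mul_apply, ← e2, ← e1] at e3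
    exact e3
  have e5 := card_le_mul B S.VI (Set.univ : Set F) (fun x a => PX S x a)
    (fun x hx => (exists_PX (hB hx)).imp fun a ha => ⟨Set.mem_univ _, ha⟩)
    (by
      intro x hx y hy a hxa hya
      have h2 := hxa.inv.mul hya
      rw [neg_add_cancel] at h2
      exact mem_VI_iff.2 h2)
  have hu1 : Nat.card (Set.univ : Set F) = Nat.card F := Nat.card_congr (Equiv.Set.univ F)
  rw [hu1] at e5
  refine e5.trans (Nat.mul_le_mul le_rfl ?_)
  have hZ : ∀ x ∈ B ⊓ S.VI, ∃ p b, x = B2Std.nf S.m 0 (tt p) b (tt 0) := by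
    rintro x ⟨hx, hxI⟩
    have h3 : x ∈ S.VJ := by
      have := h1 x hxI
      rwa [hfix x hx] at this
    obtain ⟨b, p, e6⟩ := (SpSelf.mem_inf S).1 (Subgroup.mem_inf.2 ⟨hxI, h3⟩)
    refine ⟨p, b, ?_⟩
    rw [e6]
    unfold B2Std.nf
    rw [show S.m.x 0 = 1 from add_zero' S.rel.x_add, ← tt_one, show S.m.z₂ 1 = 1 from mul_one' S.rel.z₂_mul,
      one_mul, mul_one]
  have e6 := card_le_mul (B ⊓ S.VI) ⊥ (Set.univ : Set F) (fun x p => ∃ b, x = B2Std.nf S.m 0 (tt p) b (tt 0))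
    (fun x hx => (hZ x hx).imp fun p hp => ⟨Set.mem_univ _, hp⟩)
    (by
      rintro x hx y hy' p ⟨b, hb⟩ ⟨b', hb'⟩
      have h7 : x * B2Std.nf S.m 0 (tt 0) (b' - b) (tt 0) = y := by
        rw [hb, hb', mul_sp]
        congr 2 <;> ring_nf
      have h8 : x⁻¹ * y = S.m.y (b' - b) := by
        rw [← h7, inv_mul_cancel_left]
        exact (y_eq_nf S.rel _).symm
      have h9 := hfix _ (mul_mem (inv_mem hx.1) hy'.1)
      rw [h8, hy, y_eq_nf S.rel] at h9
      have h10 := (S.nf_inj h9).2.2.1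
      rw [mem_bot, h8, ← h10]
      exact add_zero' S.rel.y_add)
  rw [hu1, inf_bot_eq, card_bot, mul_one] at e6
  exact e6

/-- **`KBig` for `Sp₄`** -/
theorem kbig (hF : 4 ≤ Nat.card F) : KBig S.U := by
  refine ⟨fun w hw hw1 => mv S hF hw hw1, fun α hα2 hαU hαX C hCU hCα => ?_⟩
  have hcard : Nat.card C ≤ Nat.card F * Nat.card F := by
    rcases par_or (S := S) (φ := α) hαU with ⟨h1, h2⟩ | ⟨h1, h2⟩
    · obtain ⟨u, hu, c, ρ, e⟩ := decomp (N := nSp) (S := S) (φ := α) (tySp (by omega)) hαU h1 h2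
      by_cases hρ : ρ = 1
      · exfalso
        subst hρ
        obtain ⟨n, hn⟩ : ∃ n : ℕ, α ^ 2 ^ n = 1 := by
          obtain ⟨n, hn⟩ := hα2 ⟨α, mem_zpowers α⟩
          exact ⟨n, by simpa using congrArg Subtype.val hn⟩
        have hact : ∀ p b : F, α (B2Std.nf S.m 0 (tt p) b (tt 0)) =
            B2Std.nf S.m 0 (tt ((c.1 : F) * c.1 * p)) ((c.1 : F) * c.2 * b) (tt 0) := by
          intro p b
          have e3 := apply_nf S e 0 p b 0
          rw [map_zero, mul_zero, mul_zero, comm_Z S hu] at e3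
          exact e3
        have hpow : ∀ (k : ℕ) (p b : F), (α ^ k) (B2Std.nf S.m 0 (tt p) b (tt 0)) =
            B2Std.nf S.m 0 (tt (((c.1 : F) * c.1) ^ k * p)) (((c.1 : F) * c.2) ^ k * b) (tt 0) := by
          intro k
          induction k with
          | zero => intro p b; rw [pow_zero, pow_zero, pow_zero, one_mul, one_mul]; rfl
          | succ k ih =>
            intro p b
            have e1 : ((c.1 : F) * c.1) ^ (k + 1) * p = ((c.1 : F) * c.1) ^ k * ((c.1 : F) * c.1 * p) := by ring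
            have e2 : ((c.1 : F) * c.2) ^ (k + 1) * b = ((c.1 : F) * c.2) ^ k * ((c.1 : F) * c.2 * b) := by ring
            rw [e1, e2, ← ih, ← hact, ← MulAut.mul_apply, ← pow_succ]
        have h3 := hpow (2 ^ n) 1 1
        rw [hn, MulAut.one_apply] at h3
        obtain ⟨-, h4, h5, -⟩ := nf_inj_sp S h3
        rw [mul_one] at h4 h5
        have h6 := one_of_pow h4.symm
        have h7 := one_of_pow h5.symm
        obtain ⟨x, hx, hαx⟩ := hαX
        obtain ⟨b, p, rfl⟩ := (SpSelf.mem_inf S).1 ((mem_iff S).1 hx)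
        apply hαx
        have e1 : S.m.z₁ (tt p) * S.m.y b = nf S.m 0 (tt p) b (tt 0) := by
          unfold B2Std.nf
          rw [show S.m.x 0 = 1 from add_zero' S.rel.x_add, ← tt_one, show S.m.z₂ 1 = 1 from mul_one' S.rel.z₂_mul,
            one_mul, mul_one]
        rw [e1, hact, h6, h7, one_mul, one_mul]
      · have h3 := card_fld S hu e hCU hCα
        have h4 := fix_sq_le hρ
        set r := Nat.card {a : F // ρ a = a}
        calc Nat.card C ≤ r * (r * (r * r)) := h3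
          _ = (r * r) * (r * r) := by ring
          _ ≤ _ := Nat.mul_le_mul h4 h4
    · exact card_gr S (by omega) hαU h1 h2 hCU hCα
  have hT : Nat.card (stdSp F).T = Nat.card F :=
    Nat.card_congr ⟨fun p => p.c, fun c => tt c, fun _ => rfl, fun _ => rfl⟩
  have hUc := S.card_U
  rw [hT] at hUc
  have h1 : Nat.card C * C.relIndex S.U = Nat.card S.U := by
    have h2 := card_mul_index (C.subgroupOf S.U)
    rw [Nat.card_congr (subgroupOfEquivOfLe hCU).toEquiv] at h2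
    exact h2
  by_contra hcon
  push Not at hcon
  set q := Nat.card F
  have h5 : q * q * (q * q) ≤ q * q * 4 := by
    calc q * q * (q * q) = q ^ 2 * q ^ 2 := by ring
      _ = Nat.card C * C.relIndex S.U := by rw [h1, hUc]
      _ ≤ q * q * 4 := Nat.mul_le_mul hcard hcon
  have h6 : q * q ≤ 4 := Nat.le_of_mul_le_mul_left h5 (by positivity)
  nlinarith

/-- **the groups `PSp₄(q)`** -/
theorem row {F : Type*} [Field F] [Fintype F] {a : ℕ} (hF : Fintype.card F = 2 ^ a) (ha : 2 ≤ a) :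
    ∃ U : Sylow 2 (Cfsg.PSp 2 F), KBig (U : Subgroup (Cfsg.PSp 2 F)) := by
  have hp2 : Fact (Nat.Prime 2) := ⟨Nat.prime_two⟩
  have hc2 : CharP F 2 := charP_of_card_eq_prime_pow hF
  have hF4 : 4 ≤ Nat.card F := by
    rw [Nat.card_eq_fintype_card, hF]
    calc 4 = 2 ^ 2 := by norm_num
      _ ≤ 2 ^ a := Nat.pow_le_pow_right (by norm_num) ha
  have hs : IsSimpleGroup (Cfsg.PSp 2 F) :=
    Cfsg.Agent.S0270.result 2 le_rfl (fun _ => by rw [← Nat.card_eq_fintype_card]; omega)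
  obtain ⟨S⟩ := Cfsg.Agent.StdRank2.B2Inst.exists_std_Sp (F := F) (by omega)
  have hZ : Odd (Nat.card (center (Cfsg.PSp 2 F))) := by
    rcases (inferInstance : (center (Cfsg.PSp 2 F)).Normal).eq_bot_or_eq_top with h | h
    · rw [h, card_bot]; exact odd_one
    · exfalso
      have h1 : B2Std.nf S.m 1 (tt 0) 0 (tt 0) * B2Std.nf S.m 0 (tt 0) 0 (tt 1) =
          B2Std.nf S.m 0 (tt 0) 0 (tt 1) * B2Std.nf S.m 1 (tt 0) 0 (tt 0) := by
        have h2 : B2Std.nf S.m 0 (tt (0 : F)) 0 (tt 1) ∈ center (Cfsg.PSp 2 F) := by rw [h]; exact mem_top _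
        exact mem_center_iff.1 h2 _
      rw [mul_sp, mul_sp] at h1
      have h3 := (nf_inj_sp S h1).2.2.1
      have h4 : (0 : F) = 1 := by linear_combination h3
      exact zero_ne_one h4
  obtain ⟨P, hP⟩ := Std.exists_sylow S scal_Sp hZ
  exact ⟨P, by rw [hP]; exact kbig S hF4⟩

end Cfsg.Agent.OddHalf.Quat.SpFourRow
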