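import Cfsg.Agent.OddHalf.Quat.BigLoc
import Cfsg.Agent.OddHalf.Quat.BigMap
import Cfsg.Agent.LieRecognition.SzMatrix

/-!
# Node Q: `KBig` for the Suzuki groups
-/

set_option autoImplicit false

namespace Cfsg.Agent.OddHalf.Quat.SzRow

open Cfsg Cfsg.Agent.LieRecognition.SzMatrix

variable {F : Type*} [Field F] {θ : F →+* F} {e : ℕ}

/-- The subgroup of the elements `u 0 b`. -/
def zen (H : Good F θ e) : Subgroup ↥(Cfsg.Lie.Sz F e) where
  carrier := {g | ∃ b : F, g = H.u 0 b}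
  mul_mem' := by
    rintro _ _ ⟨b, rfl⟩ ⟨c, rfl⟩
    exact ⟨b + c, by rw [H.u_mul]; simp⟩
  one_mem' := ⟨0, H.u_zero.symm⟩
  inv_mem' := by
    rintro _ ⟨b, rfl⟩
    exact ⟨b, by rw [H.u_inv]; simp⟩

theorem conj_u (H : Good F θ e) (a b c d : F) (k : Fˣ) :
    H.u a b * H.d k * H.u c d * (H.u a b * H.d k)⁻¹ =
      H.u (c * k ^ 2 * (θ k)⁻¹) (d * θ k + a * θ (c * k ^ 2 * (θ k)⁻¹) + (c * k ^ 2 * (θ k)⁻¹) * θ a) := by
  rw [mul_inv_eq_iff_eq_mul, mul_assoc, H.d_mul_u, ← mul_assoc, ← mul_assoc, H.u_mul, H.u_mul]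
  congr 2
  · ring
  · linear_combination (-(c * (k : F) ^ 2 * (θ k)⁻¹ * θ a)) * H.two

theorem conj_zen (H : Good F θ e) (a b d : F) (k : Fˣ) :
    H.u a b * H.d k * H.u 0 d * (H.u a b * H.d k)⁻¹ = H.u 0 (θ k * d) := by
  rw [conj_u]
  simp only [zero_mul, map_zero, mul_zero, add_zero]
  rw [mul_comm]

/-- an element which maps an element of `zen#` into `zen` lies in the Borel subgroup -/
theorem mem_borel (H : Good F θ e) {g : ↥(Cfsg.Lie.Sz F e)} {b c : F} (hb : b ≠ 0)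
    (h : g * H.u 0 b * g⁻¹ = H.u 0 c) : g ∈ H.borel := by
  by_contra hcon
  obtain ⟨s, hs, hβ⟩ := H.bruhat_sz g hcon
  obtain ⟨a', b', k, hk⟩ := (H.mem_borel_iff' _).1 hβ
  have hg : g = s * H.w * ((s * H.w)⁻¹ * g) := by group
  rw [hk] at hg
  have h1 : H.w * H.u 0 (θ k * b) * H.w⁻¹ = s⁻¹ * H.u 0 c * s := by
    rw [← conj_zen H a' b', ← h, hg]; group
  have h2 : H.w * H.u 0 (θ k * b) * H.w⁻¹ ∈ H.unip := by
    rw [h1]; exact mul_mem (mul_mem (inv_mem hs) (H.u_mem_unip _ _)) hs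
  have h3 := H.inter_trivial _ h2 (by
    have : H.w⁻¹ * (H.w * H.u 0 (θ k * b) * H.w⁻¹) * H.w = H.u 0 (θ k * b) := by group
    rw [this]; exact H.u_mem_borel _ _)
  have h4 : H.u 0 (θ k * b) = 1 := by
    have : H.u 0 (θ k * b) = H.w⁻¹ * (H.w * H.u 0 (θ k * b) * H.w⁻¹) * H.w := by group
    rw [this, h3]; group
  rw [← H.u_zero] at h4
  rcases mul_eq_zero.mp (H.u_inj h4).2 with h5 | h5
  · exact theta_ne_zero θ k h5
  · exact hb h5

theorem loc [Finite F] (H : Good F θ e) (hF : ∃ c : F, c ≠ 0 ∧ c ≠ 1) : Loc (zen H) H.unip where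
  sq := by
    rintro _ ⟨b, rfl⟩
    rw [H.u_mul, ← H.u_zero]
    congr 1
    · simp
    · rw [zero_mul, add_zero, H.add_self]
  two := by
    obtain ⟨c, hc0, hc1⟩ := hF
    refine ⟨H.u 0 1, ⟨1, rfl⟩, H.u 0 c, ⟨c, rfl⟩, ?_, ?_, ?_⟩
    · rw [← H.u_zero]; exact fun h => one_ne_zero (H.u_inj h).2
    · rw [← H.u_zero]; exact fun h => hc0 (H.u_inj h).2
    · exact fun h => hc1 (H.u_inj h).2.symm
  le := by rintro _ ⟨b, rfl⟩; exact H.u_mem_unip 0 b
  pgr := by
    rintro ⟨g, hg⟩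
    obtain ⟨a, b, rfl⟩ := (H.mem_unip_iff g).1 hg
    refine ⟨2, Subtype.ext ?_⟩
    change H.u a b ^ 2 ^ 2 = 1
    have h1 : H.u a b * H.u a b = H.u 0 (a * θ a) := by
      rw [H.u_mul]; congr 1
      · exact H.add_self a
      · rw [H.add_self, zero_add]
    have h2 : H.u a b ^ 2 ^ 2 = (H.u a b * H.u a b) * (H.u a b * H.u a b) := by
      rw [show (2 : ℕ) ^ 2 = 4 from rfl]; simp only [pow_succ, pow_zero, one_mul, mul_assoc]
    rw [h2, h1, H.u_mul, ← H.u_zero]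
    congr 1
    · simp
    · rw [zero_mul, add_zero, H.add_self]
  cent := by
    intro g hg
    have h1 := hg _ (H.u_mem_unip 0 1)
    have hb : g ∈ H.borel := mem_borel H one_ne_zero (c := 1) (by rw [h1]; group)
    obtain ⟨a, b, k, rfl⟩ := (H.mem_borel_iff' _).1 hb
    have h2 : H.u a b * H.d k * H.u 0 1 * (H.u a b * H.d k)⁻¹ = H.u 0 1 := by rw [h1]; group
    rw [conj_zen, mul_one] at h2
    have hk : k = 1 := Units.ext (θ.injective (by rw [(H.u_inj h2).2, Units.val_one, map_one]))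
    subst hk
    have key : ∀ c : F, a * θ c + c * θ a = 0 := by
      intro c
      have h3 := hg _ (H.u_mem_unip c 0)
      have h4 : H.u a b * H.d 1 * H.u c 0 * (H.u a b * H.d 1)⁻¹ = H.u c 0 := by rw [h3]; group
      rw [conj_u] at h4
      have h5 := (H.u_inj h4).2
      simpa using h5
    have ha : a = 0 := by
      by_contra ha
      have h6 : θ a = a := by
        have := key 1
        rw [map_one, mul_one, one_mul] at this
        calc θ a = (a + θ a) + a := by rw [add_comm a, add_assoc, H.add_self, add_zero]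
          _ = a := by rw [this, zero_add]
      have h7 : ∀ c : F, θ c = c := by
        intro c
        have := key c
        rw [h6, mul_comm c a, ← mul_add] at this
        have h8 := (mul_eq_zero.mp this).resolve_left ha
        calc θ c = (θ c + c) + c := by rw [add_assoc, H.add_self, add_zero]
          _ = c := by rw [h8, zero_add]
      obtain ⟨c, hc0, hc1⟩ := hF
      have h9 := H.sq c
      rw [h7, h7, pow_two] at h9
      apply hc1
      exact (mul_left_cancel₀ hc0 (by rw [mul_one]; exact h9)).symm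
    subst ha
    exact ⟨b, by rw [H.d_one, mul_one]⟩
  ti := by
    rintro g _ ⟨b, rfl⟩ hb ⟨c, hc⟩ _ ⟨d, rfl⟩
    have hb0 : b ≠ 0 := by rintro rfl; exact hb H.u_zero
    obtain ⟨a, b', k, rfl⟩ := (H.mem_borel_iff' _).1 (mem_borel H hb0 hc)
    exact ⟨_, conj_zen H a b' d k⟩
  tr := by
    rintro _ ⟨b, rfl⟩ _ ⟨c, rfl⟩ hb hc
    have hb0 : b ≠ 0 := by rintro rfl; exact hb H.u_zero
    have hc0 : c ≠ 0 := by rintro rfl; exact hc H.u_zero
    obtain ⟨k, hk⟩ := (Finite.surjective_of_injective θ.injective) (c / b)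
    have hk0 : k ≠ 0 := by
      rintro rfl
      rw [map_zero] at hk
      exact div_ne_zero hc0 hb0 hk.symm
    refine ⟨H.u 0 0 * H.d (Units.mk0 k hk0), ?_⟩
    rw [conj_zen]
    congr 1
    rw [Units.val_mk0, hk, div_mul_cancel₀ _ hb0]
  ab := by
    rintro g h hg hh _ ⟨d, rfl⟩
    obtain ⟨c, hc⟩ := hg _ ⟨1, rfl⟩
    obtain ⟨c', hc'⟩ := hh _ ⟨1, rfl⟩
    obtain ⟨a, b, k, rfl⟩ := (H.mem_borel_iff' _).1 (mem_borel H one_ne_zero hc)
    obtain ⟨a', b', k', rfl⟩ := (H.mem_borel_iff' _).1 (mem_borel H one_ne_zero hc')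
    rw [conj_zen, conj_zen, conj_zen, conj_zen]
    congr 1
    ring

theorem card_zen [Finite F] (H : Good F θ e) : Nat.card (zen H) = Nat.card F := by
  refine (Nat.card_eq_of_bijective (fun b : F => (⟨H.u 0 b, b, rfl⟩ : zen H)) ⟨?_, ?_⟩).symm
  · intro b c h; exact (H.u_inj (congrArg Subtype.val h)).2
  · rintro ⟨_, b, rfl⟩; exact ⟨b, rfl⟩

theorem row {m : ℕ} (hm : 1 ≤ m) [Fintype F] (hF : Fintype.card F = 2 ^ (2 * m + 1)) :
    ∃ U : Sylow 2 ↥(Cfsg.Lie.Sz F (2 ^ (m + 1))), KBig (U : Subgroup ↥(Cfsg.Lie.Sz F (2 ^ (m + 1)))) := by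
  classical
  set H := good hF
  have h8 : 2 < Fintype.card F := by
    rw [hF]
    calc 2 < 2 ^ 3 := by norm_num
      _ ≤ 2 ^ (2 * m + 1) := Nat.pow_le_pow_right (by norm_num) (by omega)
  obtain ⟨c, hc⟩ : ∃ c : F, c ∉ ({0, 1} : Finset F) := by
    by_contra hcon
    push Not at hcon
    have h1 : (Finset.univ : Finset F) ⊆ {0, 1} := fun x _ => hcon x
    have h2 := Finset.card_le_card h1
    have h3 : ({0, 1} : Finset F).card ≤ 2 := Finset.card_le_two
    rw [Finset.card_univ] at h2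
    omega
  simp only [Finset.mem_insert, Finset.mem_singleton, not_or] at hc
  have : Finite ↥(Cfsg.Lie.Sz F (2 ^ (m + 1))) := inferInstance
  exact exists_kbig_odd (loc H ⟨c, hc.1, hc.2⟩) ⟨m, rfl⟩
    (by rw [card_zen, Nat.card_eq_fintype_card, hF])

end Cfsg.Agent.OddHalf.Quat.SzRow
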