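import Cfsg.Agent.OddHalf.Quat.BigMap
import Cfsg.Agent.KFacts.TwESix.Tor
import Cfsg.Agent.KFacts.TwESix.Faith
import Cfsg.Agent.KFacts.TwESix.OutTwo
import Cfsg.Agent.KFacts.RgdLieCharP
import Cfsg.Agent.S1070

/-!
# Node Q: `KBig` for `²E₆(q)`, `q ≥ 4` even (helper661)

`kbig` : from the root group datum of type `F₄` (`Facts.Dat`). `ρ = e + f`, `e = e₁ + e₂`, all of them positive long
roots, so `X ρ ≤ [U, U, U]`; `C(Q_ρ) = X ρ`; the torus moves the elements of `X ρ`.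
-/

set_option autoImplicit false
set_option linter.unusedSectionVars false

namespace Cfsg.Agent.OddHalf.Quat.RowTwE6

open CoxeterSystem Cfsg.Agent.ChevalleyStructure.CoxeterGeom Cfsg.Agent.Tits.Roots Cfsg.Agent.Tits.Core
  Cfsg.Agent.Tits.RootComb Cfsg.Agent.Tits.Exchange Cfsg.Agent.Nodes.Reps Cfsg.Agent.Nodes.BNOf
  Cfsg.Agent.Nodes.Coroot Cfsg.Agent.Nodes.Bruhat Cfsg.Agent.Nodes.OppDec
  Cfsg.Agent.KFacts.RgdSL Cfsg.Agent.KFacts.RgdTI Cfsg.Agent.KFacts.RgdCent Cfsg.Agent.KFacts.RgdOdd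
  Cfsg.Agent.Nodes.RGDTwE6 Cfsg.Agent.KFacts.TwESix.Comb Cfsg.Agent.KFacts.TwESix.CombRho
  Cfsg.Agent.KFacts.TwESix.Facts Cfsg.Agent.KFacts.TwESix.QRho
open scoped commutatorElement

section

variable {W Y : Type*} [Group W] [Group Y] {cs : CoxeterSystem CoxeterMatrix.F₄ W} {T : Subgroup Y} {n : Fin 4 → Y}
  {X : (Fin 4 → ℤ) → Subgroup Y}

theorem le_comm (R : RGD cs isCartan 2 T n X) {x y : Fin 4 → ℤ} (hx : x ∈ rts) (hy : y ∈ rts)
    (hl : bf x x = bf y y) (h : 2 * bf x y = - bf x x) {P Q : Subgroup Y} (hP : X x ≤ P) (hQ : X y ≤ Q) :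
    X (x + y) ≤ ⁅P, Q⁆ := by
  have : Finite W := finiteW cs
  have hA := a2 cs ((mem_rts cs).2 hx) ((mem_rts cs).2 hy) hl h
  intro w hw
  obtain ⟨u, hu, hu1⟩ := exists_ne_one R ((mem_rts cs).2 hx)
  obtain ⟨v, hv, rfl⟩ := hA.comm_surj R hu hu1 hw
  exact Subgroup.commutator_mem_commutator (hP hu) (hQ hv)

theorem rad_pos {b : Fin 4 → ℤ} (hb : IsRoot cs isCartan b) (h : 1 ≤ b 0) : b ∈ RGD.Pos cs isCartan := by
  obtain ⟨h1, h2, h3⟩ := Cfsg.Agent.KFacts.TwESix.Faith.pos_of_zero b ((mem_rts cs).1 hb) h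
  refine ⟨hb, fun i => ?_⟩
  fin_cases i
  · exact (show (0 : ℤ) ≤ b 0 by omega)
  · exact h1
  · exact h2
  · exact h3

/-- **`KBig` from the root group datum.** -/
theorem kbig [Finite Y] {R : RGD cs isCartan 2 T n X} (D : Dat R) (hNC : NoCent cs isCartan T X)
    (hGG : GG cs isCartan T X = ⊤) (hmv : ∀ w ∈ X rho, w ≠ 1 → ∃ t ∈ T, t * w * t⁻¹ ≠ w) :
    KBig (RGD.Sup X (RGD.Pos cs isCartan)) := by
  have : Finite W := finiteW cs
  set U : Subgroup Y := RGD.Sup X (RGD.Pos cs isCartan) with hU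
  have hXU : ∀ x ∈ RGD.Pos cs isCartan, X x ≤ U := fun x hx => RGD.le_Sup hx
  have hp : ∀ x : Fin 4 → ℤ, x ∈ rts → (∀ i, 0 ≤ x i) → X x ≤ U := fun x hx h0 =>
    hXU x ⟨(mem_rts cs).2 hx, h0⟩
  have hXρ : X rho ≤ ⁅⁅U, U⁆, U⁆ := by
    have e1 : rho = ![1, 3, 4, 2] + ![1, 0, 0, 0] := by decide +kernel
    have e2 : (![1, 3, 4, 2] : Fin 4 → ℤ) = ![0, 1, 0, 0] + ![1, 2, 4, 2] := by decide +kernel
    rw [e1]
    refine le_comm R (by decide +kernel) (by decide +kernel) (by decide +kernel) (by decide +kernel) ?_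
      (hp _ (by decide +kernel) (by decide +kernel))
    rw [e2]
    exact le_comm R (by decide +kernel) (by decide +kernel) (by decide +kernel) (by decide +kernel)
      (hp _ (by decide +kernel) (by decide +kernel)) (hp _ (by decide +kernel) (by decide +kernel))
  have hQU : QQ cs X ≤ U := QQ_le fun b hb h1 => hXU b (rad_pos hb h1)
  -- the centre
  have hcen : ∀ x ∈ XZ U, x ∈ X rho := by
    rintro x ⟨hx, -, hxc⟩
    exact Cfsg.Agent.KFacts.TwESix.Faith.cent_Q D hNC (by rw [hGG]; exact Subgroup.mem_top x)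
      fun v hv => (hxc v (hQU hv)).symm
  refine KBig.of_three R.isPGroup_Upos (fun x hx => hXρ (hcen x hx)) ?_
  intro w hw hw1
  obtain ⟨t, ht, h1⟩ := hmv w (hcen w hw) hw1
  refine ⟨t, ?_, fun h2 => h1 (by rw [h2, mul_inv_cancel_right])⟩
  apply Subgroup.mem_normalizer_fintype
  intro y hy
  have h2 : U ≤ U.comap (MulAut.conj t).toMonoidHom := by
    refine RGD.Sup_le fun a ha v hv => ?_
    exact hXU a ha (tor_mem R ha.1 ht hv)
  exact h2 hy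

end

open Cfsg.Lie

universe u

/-- **The row `²E₆(q)`, `q ≥ 4` even.** -/
theorem row {F : Type u} [Field F] [Fintype F] {q a : ℕ} (hF : Fintype.card F = q ^ 2) (hqa : q = 2 ^ a)
    (ha : 2 ≤ a) : ∃ U : Sylow 2 ↥(twistedE6 F q), KBig (U : Subgroup ↥(twistedE6 F q)) := by
  have : Fact (Nat.Prime 2) := ⟨Nat.prime_two⟩
  have hq2 : 2 < q := by
    rw [hqa]
    calc 2 < 2 ^ 2 := by norm_num
      _ ≤ 2 ^ a := Nat.pow_le_pow_right (by norm_num) ha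
  have hq : IsPrimePow q := by
    rw [hqa]
    exact Nat.prime_two.isPrimePow.pow (by omega)
  have : CharP F 2 := by
    have h1 : Fintype.card F = 2 ^ (a * 2) := by rw [hF, hqa, pow_mul]
    exact charP_of_card_eq_prime_pow h1
  obtain ⟨φ, hφ, hqq⟩ := Cfsg.Agent.ChevalleyStructure.TwE6Basic.exists_frob hq hF
  let cs := CoxeterMatrix.F₄.toCoxeterSystem
  obtain ⟨h1, h2⟩ := Cfsg.Agent.S1070.result (K := F) hq hF
  have : Finite CoxeterMatrix.F₄.Group := finiteW cs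
  have hG1 := Cfsg.Agent.KFacts.TwESix.OutTwo.G1_top cs hφ hqq
  have hc : Subgroup.center ↥(twistedE6 F q) = ⊥ := by
    refine Cfsg.Agent.KFacts.RgdLieCharP.center_eq_bot ?_
    by_contra hcon
    push Not at hcon
    exact h2 ⟨⟨hcon⟩⟩
  have hNC : NoCent cs isCartan (Cfsg.Agent.Nodes.RGDTwE6.T F q) (Cfsg.Agent.Nodes.RGDTwE6.X φ q) :=
    Cfsg.Agent.KFacts.RgdLieCharP.noCent_of_center hG1 hc
  have hD : Dat (rgd cs hφ hqq 2) := Cfsg.Agent.KFacts.TwESix.Dat.dat cs hφ hqq hF hq.one_lt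
  have hK : KBig (RGD.Sup (Cfsg.Agent.Nodes.RGDTwE6.X φ q) (RGD.Pos cs isCartan)) := by
    refine kbig hD hNC (Cfsg.Agent.KFacts.RgdRigid.GG_eq_top hG1) fun w hw hw1 => ?_
    obtain ⟨t, ht, h⟩ := Cfsg.Agent.KFacts.TwESix.Tor.hne cs hφ hqq hF hq2 (rho_root cs) rho_long
    exact ⟨t, (Subgroup.mem_inf.1 ht).1, h w hw hw1⟩
  have hodd := Cfsg.Agent.KFacts.TwESix.OutTwo.not_dvd_index hφ hqq cs 2
  exact ⟨IsPGroup.toSylow (RGD.isPGroup_Upos (rgd cs hφ hqq 2)) hodd, hK⟩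

/-- the row in the form of `Lie2`-type hypotheses: `|F| = 4 ^ a` -/
theorem row_equiv {F : Type u} [Field F] [Fintype F] {a : ℕ} (hF : Fintype.card F = 4 ^ a) (ha : 2 ≤ a)
    {K : Type*} [Group K] (e : K ≃* ↥(twistedE6 F (2 ^ a))) : ∃ U : Sylow 2 K, KBig (U : Subgroup K) :=
  exists_kbig_of_equiv e.symm (row (by
    rw [hF, ← pow_mul, show (4 : ℕ) = 2 ^ 2 from rfl, ← pow_mul, mul_comm 2 a]) rfl ha)

end Cfsg.Agent.OddHalf.Quat.RowTwE6
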