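import Cfsg.Agent.OddHalf.Quat.BigLoc
import Cfsg.Agent.KFacts.TwF4.Perf
import Cfsg.Agent.KFacts.TwF4.TorEx

/-!
# Node Q: `KBig` for `²F₄(q)`, `q ≥ 8`
-/

set_option autoImplicit false

namespace Cfsg.Agent.OddHalf.Quat.TwF4Row

open Cfsg Cfsg.Lie Cfsg.Agent.KFacts.TwF4 Cfsg.Agent.SplitTwo Cfsg.Agent.SplitTwo.ZS

universe u

section

variable {F : Type*} [Field F] {σ : F →+* F} {G : Type u} [Group G] (S : Full σ G)

theorem T_z (c d : Fˣ) (u : F) : S.h c d * S.e 2 0 u * (S.h c d)⁻¹ =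
    S.e 2 0 ((chE σ 2 c d : F) * σ (chE σ 2 c d : F) * u) := by
  rw [S.h_e, mul_zero]

theorem exists_T [Finite F] (v : Fˣ) : ∃ c : Fˣ, ∀ u, S.h c 1 * S.e 2 0 u * (S.h c 1)⁻¹ = S.e 2 0 (v * u) := by
  obtain ⟨w, hw⟩ := Cfsg.Agent.KFacts.TwF4.TorEx.exists_pw S (e := (1, 1)) (by decide) v
  refine ⟨w⁻¹, fun u => ?_⟩
  rw [T_z]
  congr 2
  rw [← hw]
  simp [Cfsg.Agent.KFacts.TwF4.TorEx.pw, chE_two]

/-- an element which maps an element of `Z#` into `Z` acts as an element of the torus -/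
theorem act [Finite F] {g x : G} (hx : x ∈ S.Zc 2) (hx1 : x ≠ 1) (hg : g * x * g⁻¹ ∈ S.Zc 2) :
    ∃ k : F, ∀ u, g * S.e 2 0 u * g⁻¹ = S.e 2 0 (k * u) := by
  obtain ⟨p, hp, t, ht, rfl⟩ := S.mem_of_conj hx hx1 hg
  obtain ⟨c, d, rfl⟩ := S.mem_T.1 ht
  refine ⟨(chE σ 2 c d : F) * σ (chE σ 2 c d : F), fun u => ?_⟩
  have e1 : p * S.h c d * S.e 2 0 u * (p * S.h c d)⁻¹ = p * (S.h c d * S.e 2 0 u * (S.h c d)⁻¹) * p⁻¹ := by group
  rw [e1, T_z, S.comm_PL hp ⟨_, rfl⟩, mul_assoc, mul_inv_cancel, mul_one]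

theorem loc [Finite F] [Finite G] (hF : ∃ c : Fˣ, c ≠ 1) (hR : S.R.p = 2) : Loc (S.Zc 2) S.Q where
  sq := by
    rintro _ ⟨u, rfl⟩
    rw [S.e_mul, add_zero, zero_mul, add_zero, ← two_mul, S.two, zero_mul, S.e_zero]
  two := by
    obtain ⟨c, hc⟩ := hF
    refine ⟨S.e 2 0 1, ⟨1, rfl⟩, S.e 2 0 c, ⟨c, rfl⟩, ?_, ?_, ?_⟩
    · exact fun h => one_ne_zero (S.e_eq_one h).2
    · exact fun h => c.ne_zero (S.e_eq_one h).2
    · exact fun h => hc (Units.ext ((S.injE _ _ _ _ _ h).2.symm.trans Units.val_one.symm))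
  le := by
    intro x hx
    have h1 := S.Zc_le 2 (by exact_mod_cast hx)
    exact X_le_J (by norm_num) (by norm_num) h1
  pgr := Cfsg.Agent.KFacts.TwF4.Perf.two_Q S hR
  cent := by
    intro g hg
    rw [← S.centralizer_Q, Subgroup.mem_centralizer_iff]
    exact fun x hx => (hg x hx).symm
  ti := by
    rintro g x hx hx1 hg _ ⟨u, rfl⟩
    obtain ⟨k, hk⟩ := act S hx hx1 hg
    exact ⟨_, (hk u).symm⟩
  tr := by
    rintro _ ⟨u, rfl⟩ _ ⟨v, rfl⟩ hu hv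
    have hu0 : u ≠ 0 := by rintro rfl; exact hu (S.e_zero _)
    have hv0 : v ≠ 0 := by rintro rfl; exact hv (S.e_zero _)
    obtain ⟨c, hc⟩ := exists_T S (Units.mk0 (v / u) (div_ne_zero hv0 hu0))
    refine ⟨S.h c 1, ?_⟩
    rw [hc, Units.val_mk0, div_mul_cancel₀ _ hu0]
  ab := by
    rintro g h hg hh _ ⟨d, rfl⟩
    have h1 : S.e 2 0 1 ≠ 1 := fun h => one_ne_zero (S.e_eq_one h).2
    obtain ⟨k, hk⟩ := act S (g := g) ⟨1, rfl⟩ h1 (hg _ ⟨1, rfl⟩)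
    obtain ⟨l, hl⟩ := act S (g := h) ⟨1, rfl⟩ h1 (hh _ ⟨1, rfl⟩)
    rw [hk, hl, hk, hl]
    congr 1
    ring

theorem card_Zc : Nat.card (S.Zc 2) = Nat.card F := by
  refine (Nat.card_eq_of_bijective (fun u : F => (⟨S.e 2 0 u, u, rfl⟩ : S.Zc 2)) ⟨?_, ?_⟩).symm
  · intro b c h; exact (S.injE _ _ _ _ _ (congrArg Subtype.val h)).2
  · rintro ⟨_, b, rfl⟩; exact ⟨b, rfl⟩

end

theorem row {K : Type u} [Field K] [Fintype K] {m : ℕ} (hm : 1 ≤ m) (hK : Fintype.card K = 2 ^ (2 * m + 1)) :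
    ∃ U : Sylow 2 ↥(twistedF4 K (2 ^ m)), KBig (U : Subgroup ↥(twistedF4 K (2 ^ m))) := by
  classical
  obtain ⟨φ, hφ⟩ := Cfsg.Agent.ChevalleyStructure.TwF4.TwistedFix.exists_rln hK
  have := Cfsg.Agent.ChevalleyStructure.TwF4.Twisted.charP_two hK
  have h8 : 2 < Fintype.card K := by
    rw [hK]
    calc 2 < 2 ^ 3 := by norm_num
      _ ≤ 2 ^ (2 * m + 1) := Nat.pow_le_pow_right (by norm_num) (by omega)
  obtain ⟨c, hc⟩ : ∃ c : K, c ∉ ({0, 1} : Finset K) := by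
    by_contra hcon
    push Not at hcon
    have h1 : (Finset.univ : Finset K) ⊆ {0, 1} := fun x _ => hcon x
    have h2 := Finset.card_le_card h1
    have h3 : ({0, 1} : Finset K).card ≤ 2 := Finset.card_le_two
    rw [Finset.card_univ] at h2
    omega
  simp only [Finset.mem_insert, Finset.mem_singleton, not_or] at hc
  set S := Cfsg.Agent.KFacts.TwF4.Inst.full hK hφ with hS
  have hU : ∃ c : Kˣ, c ≠ 1 := ⟨Units.mk0 c hc.1, fun h => hc.2 (congrArg Units.val h)⟩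
  have : Finite ↥(twistedF4 K (2 ^ m)) := inferInstance
  exact exists_kbig_odd (loc S hU rfl) ⟨m, rfl⟩ (by rw [card_Zc, Nat.card_eq_fintype_card, hK])

end Cfsg.Agent.OddHalf.Quat.TwF4Row
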