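import Cfsg.Agent.OddHalf.Quat.Good
import Cfsg.Agent.OddHalf.Quat.RowPSL
import Cfsg.Agent.OddHalf.Quat.RowPSU
import Cfsg.Agent.OddHalf.Quat.RowSp
import Cfsg.Agent.OddHalf.Quat.RowSpFour
import Cfsg.Agent.OddHalf.Quat.RowL2
import Cfsg.Agent.OddHalf.Quat.RowSz
import Cfsg.Agent.OddHalf.Quat.RowTwF4
import Cfsg.Agent.OddHalf.Quat.RowHexBig
import Cfsg.Agent.OddHalf.Quat.RowTwE6
import Cfsg.Agent.OddHalf.Quat.RowSL
import Cfsg.Agent.OddHalf.Quat.RowF4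
import Cfsg.Agent.OddHalf.Quat.RowOMinus
import Cfsg.Agent.OddHalf.Quat.KTwoU
import Cfsg.Agent.OddHalf.Quat.KTwoTri
import Cfsg.Agent.OddHalf.Quat.KTwoE6
import Cfsg.Agent.OddHalf.Quat.NoThreeL
import Cfsg.Agent.OddHalf.Quat.NoThreeU
import Cfsg.Agent.OddHalf.Quat.NoThreeE
import Cfsg.Agent.OddHalf.Quat.NoThreeSp
import Cfsg.Agent.OddHalf.Quat.NoThreeT.Main
import Cfsg.Agent.OddHalf.D4.Cut

/-!
# Node Q: the simple groups of Lie type in characteristic 2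

`good_two`: `K` simple (`Z(K) = 1`), `LieTwo K`, not in the list of the treated groups `K`: `KGood K`.
-/

set_option autoImplicit false

namespace Cfsg.Agent.OddHalf.Quat

open Subgroup Cfsg Cfsg.Agent.OddHalf.Iface Cfsg.Agent.OddHalf.D7.Cases Cfsg.Agent.OddHalf.D4.Cut
  Cfsg.Agent.OddHalf.Iso5

universe u

theorem KGood.three {K : Type u} [Group K] (h : NoThree K) : KGood K := Or.inl h

theorem KGood.big {K : Type u} [Group K] (h : ∃ U : Sylow 2 K, KBig (U : Subgroup K)) : KGood K := Or.inr (Or.inl h)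

theorem KGood.two {K : Type u} [Group K] (h : ∃ (U : Sylow 2 K) (V : Subgroup K), KTwo (U : Subgroup K) V) :
    KGood K := Or.inr (Or.inr (Or.inl h))

namespace GoodTwo

variable {K : Type u} [Group K]

theorem eq_one {a : ℕ} (ha : 1 ≤ a) (h : ¬ 2 ≤ a) : a = 1 := by omega

theorem four_le {a q : ℕ} (ha : 2 ≤ a) (h : q = 2 ^ a) : 4 ≤ q := by
  rw [h]
  exact Nat.pow_le_pow_right (n := 2) (by norm_num) ha

theorem card_four {F : Type} [Fintype F] {a : ℕ} (ha : 2 ≤ a) (h : Fintype.card F = 2 ^ a) : 4 ≤ Nat.card F := by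
  rw [Nat.card_eq_fintype_card]
  exact four_le ha h

theorem sq {N a : ℕ} (h : N = 4 ^ a) : N = (2 ^ a) ^ 2 := by
  rw [h, ← pow_mul, show (4 : ℕ) = 2 ^ 2 from rfl, ← pow_mul, mul_comm 2 a]

theorem l2e (hz : center K = ⊥) (h : L2e K) : KGood K := by
  obtain ⟨F, _, _, a, ha, hF, ⟨e⟩⟩ := h
  by_cases h4 : a = 4
  · subst h4
    have : Fact (Nat.Prime 2) := ⟨Nat.prime_two⟩
    exact .three (NoThreeL.two 2 4 (by norm_num) hF (by norm_num) (by norm_num) hz e)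
  · exact .big (exists_kbig_of_equiv e.symm (LTwo.row hF ha h4))

theorem u3e (h : U3e K) : KGood K := by
  obtain ⟨F, _, _, a, ha, hF, ⟨e⟩⟩ := h
  exact .big (exists_kbig_of_equiv e.symm (UniRow.row (sq hF) le_rfl rfl ha))

theorem sze (h : Sze K) : KGood K := by
  obtain ⟨F, _, _, m, hm, hF, ⟨e⟩⟩ := h
  exact .big (exists_kbig_of_equiv e.symm (SzRow.row (by omega) hF))

theorem l3e (h : L3e K) : KGood K := by
  obtain ⟨F, _, _, a, ha, hF, ⟨e⟩⟩ := h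
  exact .big (exists_kbig_of_equiv e.symm (PSLRow.row hF le_rfl (by omega)))

theorem sp4e (h : Sp4e K) : KGood K := by
  obtain ⟨F, _, _, a, ha, hF, ⟨e⟩⟩ := h
  exact .big (exists_kbig_of_equiv e.symm (SpFourRow.row hF ha))

theorem g2e (h : G2e K) : KGood K := by
  obtain ⟨F, _, _, a, ha, hF, ⟨e⟩⟩ := h
  exact .big (RowHex.g2 (by omega) hF e)

theorem u4e (h : U4e K) : KGood K := by
  obtain ⟨F, _, _, a, ha, hF, ⟨e⟩⟩ := h
  exact .big (exists_kbig_of_equiv e.symm (UniRow.row (sq hF) (by norm_num) rfl ha))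

theorem u5e (h : U5e K) : KGood K := by
  obtain ⟨F, _, _, a, ha, hF, ⟨e⟩⟩ := h
  exact .big (exists_kbig_of_equiv e.symm (UniRow.row (sq hF) (by norm_num) rfl ha))

theorem u52 (hz : center K = ⊥) (h : U52 K) : KGood K := by
  obtain ⟨F, _, _, hF, ⟨e⟩⟩ := h
  exact .three (NoThreeU.unitary hF (by norm_num) (by norm_num) hz e)

theorem d4t2 (h : D4t2 K) : KGood K := by
  obtain ⟨F, _, _, hF, ⟨e⟩⟩ := h
  exact .two (KTwoTri.main hF e)

theorem d4te (h : D4te K) : KGood K := by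
  obtain ⟨F, _, _, a, ha, hF, ⟨e⟩⟩ := h
  exact .big (RowHex.d4 ha hF e)

theorem ln2 (hz : center K = ⊥) (h : Ln2 K) : KGood K := by
  obtain ⟨F, _, _, n, hF, hn, ⟨e⟩⟩ := h
  exact .three (NoThreeL.linear hF (by omega) hz e)

theorem lne (h : Lne K) : KGood K := by
  obtain ⟨F, _, _, a, n, ha, hF, hn, ⟨e⟩⟩ := h
  exact .big (exists_kbig_of_equiv e.symm (PSLRow.row hF (by omega) ha))

theorem un2 (h : Un2 K) : KGood K := by
  obtain ⟨F, _, _, n, hF, hn, ⟨e⟩⟩ := h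
  exact .two (KTwoU.main hF hn e)

theorem une (h : Une K) : KGood K := by
  obtain ⟨F, _, _, a, n, ha, hF, hn, ⟨e⟩⟩ := h
  exact .big (exists_kbig_of_equiv e.symm (UniRow.row (sq hF) (by omega) rfl ha))

theorem sp2 (hz : center K = ⊥) (h : Sp2 K) : KGood K := by
  obtain ⟨F, _, _, m, hF, hm, ⟨e⟩⟩ := h
  exact .three (NoThreeSp.sp hF (by omega) hz e)

theorem spe (h : Spe K) : KGood K := by
  obtain ⟨F, _, _, a, m, ha, hF, hm, ⟨e⟩⟩ := h
  exact .big (exists_kbig_of_equiv e.symm (SpRow.row hF ha hm))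

theorem op2 (hz : center K = ⊥) (h : Op2 K) : KGood K := by
  obtain ⟨F, _, _, m, hF, hm, ⟨e⟩⟩ := h
  exact .three (NoThreeU.plus hF hm hz e)

theorem ope (h : Ope K) : KGood K := by
  obtain ⟨F, _, _, a, m, ha, hF, hm, ⟨e⟩⟩ := h
  have : Fact (Nat.Prime 2) := ⟨Nat.prime_two⟩
  have : CharP F 2 := charP_of_card_eq_prime_pow (f := a) hF
  exact .big (exists_kbig_of_equiv e.symm (RowSL.oplus F (by omega) (card_four ha hF)))

theorem om2 (hz : center K = ⊥) (h : Om2 K) : KGood K := by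
  obtain ⟨F, _, _, m, b, c, hF, hm, hbc, ⟨e⟩⟩ := h
  exact .three (NoThreeU.minus hF hm b c hbc hz e)

theorem ome (h : Ome K) : KGood K := by
  obtain ⟨F, _, _, a, m, b, c, ha, hF, hm, hbc, ⟨e⟩⟩ := h
  exact .big (RowOMinus.main ha hF hm hbc e)

theorem f4e (h : F4e K) : KGood K := by
  obtain ⟨F, _, _, a, ha, hF, ⟨e⟩⟩ := h
  exact .big (RowF4.main ha hF e)

theorem f4t (h : Fam2F4 K) : KGood K := by
  obtain ⟨F, _, _, m, hm, hF, ⟨e⟩⟩ := h
  exact .big (exists_kbig_of_equiv e.symm (TwF4Row.row hm hF))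

theorem e62 (h : E62 K) : KGood K := by
  obtain ⟨F, _, _, hF, ⟨e⟩⟩ := h
  exact .three (NoThreeE.e6 hF e)

theorem e6e (h : E6e K) : KGood K := by
  obtain ⟨F, _, _, a, ha, hF, ⟨e⟩⟩ := h
  have : Fact (Nat.Prime 2) := ⟨Nat.prime_two⟩
  have : CharP F 2 := charP_of_card_eq_prime_pow (f := a) hF
  exact .big (exists_kbig_of_equiv e.symm (RowSL.e6 F (card_four ha hF)))

theorem e72 (h : E72 K) : KGood K := by
  obtain ⟨F, _, _, hF, ⟨e⟩⟩ := h
  exact .three (NoThreeE.e7 hF e)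

theorem e7e (h : E7e K) : KGood K := by
  obtain ⟨F, _, _, a, ha, hF, ⟨e⟩⟩ := h
  have : Fact (Nat.Prime 2) := ⟨Nat.prime_two⟩
  have : CharP F 2 := charP_of_card_eq_prime_pow (f := a) hF
  exact .big (exists_kbig_of_equiv e.symm (RowSL.e7 F (card_four ha hF)))

theorem e82 (h : E82 K) : KGood K := by
  obtain ⟨F, _, _, hF, ⟨e⟩⟩ := h
  exact .three (NoThreeE.e8 hF e)

theorem e8e (h : E8e K) : KGood K := by
  obtain ⟨F, _, _, a, ha, hF, ⟨e⟩⟩ := h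
  have : Fact (Nat.Prime 2) := ⟨Nat.prime_two⟩
  have : CharP F 2 := charP_of_card_eq_prime_pow (f := a) hF
  exact .big (exists_kbig_of_equiv e.symm (RowSL.e8 F (card_four ha hF)))

theorem e6t2 (h : E6t2 K) : KGood K := by
  obtain ⟨F, _, _, hF, ⟨e⟩⟩ := h
  exact .two (KTwoE6.main hF e)

theorem e6te (h : E6te K) : KGood K := by
  obtain ⟨F, _, _, a, ha, hF, ⟨e⟩⟩ := h
  exact .big (RowTwE6.row_equiv hF ha e)

end GoodTwo

open GoodTwo

variable {G : Type u} [Group G] {K : Subgroup G}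

/-- **Node Q: `K` simple of Lie type in characteristic 2** -/
theorem good_two (hz : center ↥K = ⊥) (h : LieTwo ↥K) (hl : ¬ Listed K) : KGood ↥K := by
  by_cases hs : SmallRank ↥K
  · rcases hs with ⟨F, _, _, a, ha, hF, ⟨e⟩⟩ | ⟨F, _, _, a, ha, hF, ⟨e⟩⟩ | ⟨F, _, _, m, hm, hF, ⟨e⟩⟩ |
      ⟨F, _, _, a, ha, hF, h3⟩ | ⟨F, _, _, a, ha, hF, h3⟩ | ⟨F, _, _, hF, ⟨e⟩⟩ | ⟨F, _, _, a, ha, hF, ⟨e⟩⟩
    · refine l2e hz ⟨F, _, _, a, ?_, hF, ⟨e⟩⟩
      by_contra hlt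
      have : a = 2 := by omega
      subst this
      exact h.2.1 (isAlternating_of_l24 (by simpa using hF) e)
    · exact u3e ⟨F, _, _, a, ha, hF, ⟨e⟩⟩
    · refine sze ⟨F, _, _, m, ?_, hF, ⟨e⟩⟩
      by_contra hlt
      have : m = 1 := by omega
      subst this
      exact hl (Or.inl ⟨F, _, _, by simpa using hF, ⟨e⟩⟩)
    · rcases h3 with ⟨⟨e⟩⟩ | ⟨⟨e⟩⟩ | ⟨⟨e⟩⟩
      · refine l3e ⟨F, _, _, a, ?_, hF, ⟨e⟩⟩
        by_contra hlt
        have : a = 2 := by omega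
        subst this
        exact hl (Or.inr (Or.inr (Or.inr (Or.inr (Or.inr (Or.inr (Or.inr (Or.inr (Or.inr (Or.inl
          ⟨F, _, _, by simpa using hF, ⟨e⟩⟩))))))))))
      · exact sp4e ⟨F, _, _, a, ha, hF, ⟨e⟩⟩
      · refine g2e ⟨F, _, _, a, ?_, hF, ⟨e⟩⟩
        by_contra hlt
        have : a = 2 := by omega
        subst this
        exact hl (Or.inr (Or.inr (Or.inr (Or.inr (Or.inr (Or.inr (Or.inr (Or.inr (Or.inr (Or.inr (Or.inr
          (Or.inr (Or.inl ⟨F, _, _, by simpa using hF, ⟨e⟩⟩)))))))))))))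
    · rcases h3 with ⟨⟨e⟩⟩ | ⟨⟨e⟩⟩
      · exact u4e ⟨F, _, _, a, ha, hF, ⟨e⟩⟩
      · exact u5e ⟨F, _, _, a, ha, hF, ⟨e⟩⟩
    · exact u52 hz ⟨F, _, _, hF, ⟨e⟩⟩
    · by_cases h2 : 2 ≤ a
      · exact d4te ⟨F, _, _, a, h2, hF, ⟨e⟩⟩
      · have := eq_one ha h2
        subst this
        exact d4t2 ⟨F, _, _, by simpa using hF, ⟨e⟩⟩
  rcases d7_cases h hs hl with h | h | h | h | h | h | h | h | h | h | h | h
  · obtain ⟨F, _, _, a, n, ha, hF, hn, hna, ⟨e⟩⟩ := h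
    by_cases h2 : 2 ≤ a
    · exact lne ⟨F, _, _, a, n, h2, hF, hn, ⟨e⟩⟩
    · have := eq_one ha h2
      subst this
      refine ln2 hz ⟨F, _, _, n, by simpa using hF, ?_, ⟨e⟩⟩
      by_contra hlt
      exact h2 (hna (by omega))
  · obtain ⟨F, _, _, a, n, ha, hF, hn, ⟨e⟩⟩ := h
    by_cases h2 : 2 ≤ a
    · exact une ⟨F, _, _, a, n, h2, hF, hn, ⟨e⟩⟩
    · have := eq_one ha h2
      subst this
      exact un2 ⟨F, _, _, n, by simpa using hF, hn, ⟨e⟩⟩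
  · obtain ⟨F, _, _, a, m, ha, hF, hm, hma, ⟨e⟩⟩ := h
    by_cases h2 : 2 ≤ a
    · exact spe ⟨F, _, _, a, m, h2, hF, hm, ⟨e⟩⟩
    · have := eq_one ha h2
      subst this
      refine sp2 hz ⟨F, _, _, m, by simpa using hF, ?_, ⟨e⟩⟩
      by_contra hlt
      exact h2 (hma (by omega))
  · obtain ⟨F, _, _, a, m, ha, hF, hm, hma, ⟨e⟩⟩ := h
    by_cases h2 : 2 ≤ a
    · exact ope ⟨F, _, _, a, m, h2, hF, hm, ⟨e⟩⟩
    · have := eq_one ha h2
      subst this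
      refine op2 hz ⟨F, _, _, m, by simpa using hF, ?_, ⟨e⟩⟩
      by_contra hlt
      exact h2 (hma (by omega))
  · obtain ⟨F, _, _, a, m, b, c, ha, hF, hm, hbc, ⟨e⟩⟩ := h
    by_cases h2 : 2 ≤ a
    · exact ome ⟨F, _, _, a, m, b, c, h2, hF, hm, hbc, ⟨e⟩⟩
    · have := eq_one ha h2
      subst this
      exact om2 hz ⟨F, _, _, m, b, c, by simpa using hF, hm, hbc, ⟨e⟩⟩
  · obtain ⟨F, _, _, a, ha, hF, h⟩ := h
    exact f4e ⟨F, _, _, a, ha, hF, h⟩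
  · obtain ⟨F, _, _, a, ha, hF, h⟩ := h
    by_cases h2 : 2 ≤ a
    · exact e6e ⟨F, _, _, a, h2, hF, h⟩
    · have := eq_one ha h2
      subst this
      exact e62 ⟨F, _, _, by simpa using hF, h⟩
  · obtain ⟨F, _, _, a, ha, hF, h⟩ := h
    by_cases h2 : 2 ≤ a
    · exact e7e ⟨F, _, _, a, h2, hF, h⟩
    · have := eq_one ha h2
      subst this
      exact e72 ⟨F, _, _, by simpa using hF, h⟩
  · obtain ⟨F, _, _, a, ha, hF, h⟩ := h
    by_cases h2 : 2 ≤ a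
    · exact e8e ⟨F, _, _, a, h2, hF, h⟩
    · have := eq_one ha h2
      subst this
      exact e82 ⟨F, _, _, by simpa using hF, h⟩
  · obtain ⟨F, _, _, a, ha, hF, h⟩ := h
    by_cases h2 : 2 ≤ a
    · exact e6te ⟨F, _, _, a, h2, hF, h⟩
    · have := eq_one ha h2
      subst this
      exact e6t2 ⟨F, _, _, by simpa using hF, h⟩
  · exact f4t h
  · exact .three (NoThreeT.tits h)

end Cfsg.Agent.OddHalf.Quat
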