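import Cfsg.Agent.OddHalf.Quat.KF
import Cfsg.Agent.KFacts.LargeAut

/-!
# `KTwo` for groups with a large extraspecial subgroup

`kTwo_of_large`: `Q` large extraspecial, irreducible, `U ≥ Q` a 2-subgroup with `Z(U) = ⟨z⟩`, whose fixed points on
`Q/⟨z⟩` have order 2, generated by the image of a conjugate `v` of `z` under an element interchanging `z` and `v`.
-/

set_option autoImplicit false

namespace Cfsg.Agent.OddHalf.Quat

open Subgroup
open Cfsg.Agent.Co2Type.Quad Cfsg.Agent.KFacts.LargeO2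

variable {K : Type*} [Group K] {Q U : Subgroup K} {z v n : K}

/-- automorphisms fixing `z` preserve `Q` -/
theorem map_Q [Finite K] (h : Large Q z) (hirr : Irr Q z) (hQ : ∃ x ∈ Q, x ≠ 1 ∧ x ≠ z) (hQ2 : IsPGroup 2 Q)
    (α : MulAut K) (hα : α z = z) : ∀ x ∈ Q, α x ∈ Q := by
  have hα' : α⁻¹ z = z := by
    calc α⁻¹ z = α⁻¹ (α z) := by rw [hα]
      _ = z := MulAut.inv_apply_self _ _ _
  have h1 : Q.map α.toMonoidHom ≤ Q := by
    refine le_of_normal h hirr hQ (hQ2.map _) ?_ ?_
    · rintro _ ⟨x, hx, rfl⟩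
      have h2 : α (x * z) = α (z * x) := by rw [h.comm_z x hx]
      rw [map_mul, map_mul, hα] at h2
      exact h2
    · rintro u hu _ ⟨x, hx, rfl⟩
      have hu' : α⁻¹ u * z = z * α⁻¹ u := by
        have h2 : α⁻¹ (u * z) = α⁻¹ (z * u) := by rw [hu]
        rwa [map_mul, map_mul, hα'] at h2
      refine ⟨α⁻¹ u * x * (α⁻¹ u)⁻¹, h.conj_mem _ hu' x hx, ?_⟩
      show α (α⁻¹ u * x * (α⁻¹ u)⁻¹) = u * α x * u⁻¹
      rw [map_mul, map_mul, map_inv, MulAut.apply_inv_self]
  intro x hx
  exact h1 ⟨x, hx, rfl⟩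

theorem kTwo_of_large [Finite K] (h : Large Q z) (hirr : Irr Q z) (hU2 : IsPGroup 2 U) (hQU : Q ≤ U)
    (hUz : ∀ u ∈ U, u * z = z * u) (hZ : ∀ x ∈ U, (∀ u ∈ U, u * x = x * u) → x = 1 ∨ x = z)
    (hv : v ∈ Q) (hv2 : v * v = 1) (hv1 : v ≠ 1) (hvz : v ≠ z)
    (hfix : ∀ x ∈ Q, (∀ d ∈ U, d * x * d⁻¹ = x ∨ d * x * d⁻¹ = x * z) → x = 1 ∨ x = z ∨ x = v ∨ x = v * z)
    (hvD : ∀ d ∈ U, d * v * d⁻¹ = v ∨ d * v * d⁻¹ = v * z)
    (hn : n * z * n⁻¹ = v) (hn' : n * v * n⁻¹ = z)
    (hout : ¬ 4 ∣ (MulAut.conj : K →* MulAut K).range.index) (hbig : 512 < Nat.card U) :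
    ∃ V : Subgroup K, KTwo U V := by
  have hzz : z * z = 1 := h.z_sq
  have hz1 : z ≠ 1 := h.z_ne
  have hvz' : v * z = z * v := h.comm_z v hv
  have hvzi : v⁻¹ = v := inv_eq_of_mul_eq_one_left hv2
  have hzi : z⁻¹ = z := inv_eq_of_mul_eq_one_left hzz
  have m1 : v * z * v = z := by rw [hvz', mul_assoc, hv2, mul_one]
  have m2 : z * (v * z) = v := by rw [← mul_assoc, ← hvz', mul_assoc, hzz, mul_one]
  have m3 : v * z * z = v := by rw [mul_assoc, hzz, mul_one]
  have m4 : v * (v * z) = z := by rw [← mul_assoc, hv2, one_mul]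
  have m5 : v * z * (v * z) = 1 := by rw [← mul_assoc, m1, hzz]
  let V : Subgroup K :=
    { carrier := {x | x = 1 ∨ x = z ∨ x = v ∨ x = v * z}
      one_mem' := Or.inl rfl
      mul_mem' := by
        rintro a b (rfl | rfl | rfl | rfl) (rfl | rfl | rfl | rfl) <;>
          simp only [Set.mem_ofPred_eq, one_mul, mul_one, hzz, hv2, m1, m2, m3, m4, m5, true_or, or_true, ← hvz']
      inv_mem' := by
        rintro a (rfl | rfl | rfl | rfl)
        · left; exact inv_one
        · right; left; exact hzi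
        · right; right; left; exact hvzi
        · right; right; right
          rw [mul_inv_rev, hzi, hvzi, hvz'] }
  have hVQ : V ≤ Q := by
    rintro x (rfl | rfl | rfl | rfl)
    · exact one_mem _
    · exact h.z_mem
    · exact hv
    · exact mul_mem hv h.z_mem
  have hmemV : ∀ x : K, x ∈ V ↔ x ∈ Q ∧ ∀ d ∈ U, d * x * d⁻¹ = x ∨ d * x * d⁻¹ = x * z := by
    intro x
    constructor
    · intro hx
      refine ⟨hVQ hx, ?_⟩
      intro d hd
      have hdz : d * z * d⁻¹ = z := by rw [hUz d hd, mul_inv_cancel_right]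
      rcases hx with rfl | rfl | rfl | rfl
      · left; group
      · left; exact hdz
      · exact hvD d hd
      · have e : d * (v * z) * d⁻¹ = d * v * d⁻¹ * (d * z * d⁻¹) := by group
        rw [e, hdz]
        rcases hvD d hd with h1 | h1
        · left; rw [h1]
        · right; rw [h1]
    · rintro ⟨hx, hx'⟩
      exact hfix x hx hx'
  refine ⟨V, hVQ.trans hQU, ?_, ?_, ?_, ?_, hout, hbig⟩
  · rintro x (rfl | rfl | rfl | rfl)
    · exact one_mul 1
    · exact hzz
    · exact hv2
    · exact m5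
  · have h1 : (V : Set K) ⊆ ({1, z, v, v * z} : Set K) := fun x hx => hx
    have h2 : Nat.card V ≤ ({1, z, v, v * z} : Set K).ncard := Set.ncard_le_ncard h1 (Set.toFinite _)
    have h3 : ({1, z, v, v * z} : Set K).ncard ≤ 4 := by
      classical
      have e : ({1, z, v, v * z} : Set K) = (({1, z, v, v * z} : Finset K) : Set K) := by simp
      rw [e, Set.ncard_coe_finset]
      exact Finset.card_le_four
    omega
  · intro α hα x hx
    -- `α(U) = U`
    have hsurj : ∀ u ∈ U, ∃ u' ∈ U, α u' = u := by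
      intro u hu
      let f : U → U := fun u => ⟨α u, hα u u.2⟩
      have hf : Function.Injective f := fun a b hab => Subtype.ext (α.injective (congrArg Subtype.val hab))
      obtain ⟨u', hu'⟩ := (Finite.injective_iff_surjective.1 hf) ⟨u, hu⟩
      exact ⟨u', u'.2, congrArg Subtype.val hu'⟩
    have hαz : α z = z := by
      rcases hZ (α z) (hα z (hQU h.z_mem)) (fun u hu => by
        obtain ⟨u', hu', rfl⟩ := hsurj u hu
        rw [← map_mul, ← map_mul, hUz u' hu']) with h1 | h1
      · exact absurd (α.injective (h1.trans (map_one α).symm)) hz1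
      · exact h1
    obtain ⟨hxQ, hxU⟩ := (hmemV x).1 hx
    rw [hmemV]
    refine ⟨map_Q h hirr ⟨v, hv, hv1, hvz⟩ (hU2.to_le hQU) α hαz x hxQ, ?_⟩
    intro d hd
    obtain ⟨d', hd', rfl⟩ := hsurj d hd
    rcases hxU d' hd' with h1 | h1
    · left; rw [← map_inv, ← map_mul, ← map_mul, h1]
    · right; rw [← map_inv, ← map_mul, ← map_mul, h1, map_mul, hαz]
  · refine ⟨z, Or.inr (Or.inl rfl), hz1, ?_, n, ?_, ?_⟩
    · rintro x ⟨hx, -, hx'⟩
      exact hZ x hx hx'
    · rintro x (rfl | rfl | rfl | rfl)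
      · left; group
      · right; right; left; exact hn
      · right; left; exact hn'
      · right; right; right
        have e : n * (v * z) * n⁻¹ = n * v * n⁻¹ * (n * z * n⁻¹) := by group
        rw [e, hn, hn', hvz']
    · intro h1
      have h2 : n * z * n⁻¹ = z := by rw [h1, mul_inv_cancel_right]
      exact hvz (hn.symm.trans h2)

/-! ### Transport -/

theorem range_index {X Y : Type*} [Group X] [Group Y] (e : X ≃* Y) :
    (MulAut.conj : X →* MulAut X).range.index = (MulAut.conj : Y →* MulAut Y).range.index := by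
  let c : MulAut Y ≃* MulAut X := MulAut.congr e.symm
  have h1 : (MulAut.conj : X →* MulAut X).range = ((MulAut.conj : Y →* MulAut Y).range).map c.toMonoidHom := by
    ext α
    constructor
    · rintro ⟨x, rfl⟩
      refine ⟨MulAut.conj (e x), ⟨e x, rfl⟩, MulEquiv.ext fun y => ?_⟩
      show e.symm (e x * e y * (e x)⁻¹) = x * y * x⁻¹
      rw [← map_inv, ← map_mul, ← map_mul, e.symm_apply_apply]
    · rintro ⟨_, ⟨y, rfl⟩, rfl⟩
      refine ⟨e.symm y, MulEquiv.ext fun x => ?_⟩
      show e.symm y * x * (e.symm y)⁻¹ = e.symm (y * e x * y⁻¹)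
      rw [map_mul, map_mul, map_inv, e.symm_apply_apply]
  rw [h1]
  have h2 := Subgroup.index_map_equiv ((MulAut.conj : Y →* MulAut Y).range) c
  exact h2

theorem KTwo.map_equiv {X Y : Type*} [Group X] [Group Y] {U V : Subgroup Y} (h : KTwo U V) (e : Y ≃* X) :
    KTwo (U.map e.toMonoidHom) (V.map e.toMonoidHom) where
  le := Subgroup.map_mono h.le
  sq := by
    rintro _ ⟨x, hx, rfl⟩
    show e x * e x = 1
    rw [← map_mul, h.sq x hx, map_one]
  card := by
    have : Nat.card (V.map e.toMonoidHom) = Nat.card V :=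
      (Nat.card_congr (e.subgroupMap V).toEquiv).symm
    rw [this]; exact h.card
  inv := by
    rintro α hα _ ⟨x, hx, rfl⟩
    have h1 := h.inv (MulAut.congr e.symm α) (fun u hu => by
      obtain ⟨u', hu', h2⟩ := hα (e u) ⟨u, hu, rfl⟩
      have h3 : MulAut.congr e.symm α u = u' := by
        show e.symm (α (e u)) = u'
        rw [← h2]
        exact e.symm_apply_apply u'
      rw [h3]; exact hu') x hx
    refine ⟨_, h1, ?_⟩
    show e (e.symm (α (e x))) = α (e x)
    exact e.apply_symm_apply _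
  w := by
    obtain ⟨w, hw, hw1, hX, r, hr, hrw⟩ := h.w
    refine ⟨e w, ⟨w, hw, rfl⟩, fun h0 => hw1 (e.injective (h0.trans (map_one e).symm)), ?_, e r, ?_, ?_⟩
    · rintro _ ⟨⟨x, hx, rfl⟩, hxx, hxU⟩
      rcases hX x ⟨hx, e.injective (by
          have h1 : e x * e x = 1 := hxx
          rw [map_mul, h1, map_one]), fun u hu => e.injective (by
          have h1 : e u * e x = e x * e u := hxU (e u) ⟨u, hu, rfl⟩
          rw [map_mul, map_mul, h1])⟩ with h1 | h1
      · left; rw [h1]; exact map_one e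
      · right; rw [h1]; rfl
    · rintro _ ⟨x, hx, rfl⟩
      refine ⟨r * x * r⁻¹, hr x hx, ?_⟩
      show e (r * x * r⁻¹) = e r * e x * (e r)⁻¹
      rw [map_mul, map_mul, map_inv]
    · intro h1
      apply hrw
      apply e.injective
      rw [map_mul, map_mul, h1]
  out := by
    rw [range_index e.symm]; exact h.out
  big := by
    have : Nat.card (U.map e.toMonoidHom) = Nat.card U :=
      (Nat.card_congr (e.subgroupMap U).toEquiv).symm
    rw [this]; exact h.big

end Cfsg.Agent.OddHalf.Quat
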