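import Mathlib

/-!
# Node Q, `L₂(q)`: arithmetic and quaternion groups (helper341)

* `exists_prime`: for odd `n ≥ 3` the numbers `n² + n + 1` and `n² - n + 1` have prime divisors `≥ 5`;
* `cube_of_sq`: `a³ = b²` in `ℕ` gives `a = c²`, `b = c³`;
* `exists_ij`: a quaternion subgroup of order 8 and a homomorphism to a commutative group with at most one involution.
-/

set_option autoImplicit false

namespace Cfsg.Agent.OddHalf.Quat.KZArith

theorem exists_prime_of {m : ℕ} (h2 : ¬ 2 ∣ m) (h9 : ¬ 9 ∣ m) (h3 : 3 < m) : ∃ r, r.Prime ∧ 5 ≤ r ∧ r ∣ m := by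
  by_contra hcon
  push Not at hcon
  have h0 : m ≠ 0 := by omega
  have h1 : ∀ {d : ℕ}, d.Prime → d ∣ m → d = 3 := by
    intro d hd hdm
    by_contra hne
    have h4 : ¬ 5 ≤ d := fun h => hcon d hd h hdm
    have h5 := hd.two_le
    have h6 : d = 2 ∨ d = 4 := by omega
    rcases h6 with rfl | rfl
    · exact h2 hdm
    · exact absurd hd (by norm_num)
  have h7 := Nat.eq_prime_pow_of_unique_prime_dvd h0 h1
  set k := m.primeFactorsList.length with hk
  rcases Nat.lt_or_ge k 2 with h8 | h8
  · have h9 : k = 0 ∨ k = 1 := by omega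
    rcases h9 with h | h <;> rw [h] at h7 <;> omega
  · apply h9
    rw [h7]
    exact pow_dvd_pow 3 h8

theorem exists_prime {n : ℕ} (hn : n % 2 = 1) (h3 : 3 ≤ n) :
    (∃ r, r.Prime ∧ 5 ≤ r ∧ r ∣ n ^ 2 + n + 1) ∧ ∃ r, r.Prime ∧ 5 ≤ r ∧ r ∣ n ^ 2 - n + 1 := by
  have hle : n ≤ n ^ 2 := by nlinarith
  constructor
  · apply exists_prime_of
    · intro h
      have h1 : (n ^ 2 + n + 1) % 2 = 0 := Nat.mod_eq_zero_of_dvd h
      rw [pow_two, Nat.add_mod, Nat.add_mod (n * n), Nat.mul_mod, hn] at h1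
      omega
    · intro h
      have h1 : (n ^ 2 + n + 1) % 9 = 0 := Nat.mod_eq_zero_of_dvd h
      rw [pow_two, Nat.add_mod, Nat.add_mod (n * n), Nat.mul_mod] at h1
      have h2 : n % 9 < 9 := Nat.mod_lt _ (by norm_num)
      interval_cases (n % 9) <;> omega
    · nlinarith
  · obtain ⟨k, rfl⟩ : ∃ k, n = k + 1 := ⟨n - 1, by omega⟩
    have e : (k + 1) ^ 2 - (k + 1) + 1 = k * k + k + 1 := by
      have : (k + 1) ^ 2 = k * k + k + (k + 1) := by ring
      omega
    rw [e]
    apply exists_prime_of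
    · intro h
      have h1 : (k * k + k + 1) % 2 = 0 := Nat.mod_eq_zero_of_dvd h
      have h2 : k % 2 = 0 := by omega
      rw [Nat.add_mod, Nat.add_mod (k * k), Nat.mul_mod, h2] at h1
      omega
    · intro h
      have h1 : (k * k + k + 1) % 9 = 0 := Nat.mod_eq_zero_of_dvd h
      rw [Nat.add_mod, Nat.add_mod (k * k), Nat.mul_mod] at h1
      have h2 : k % 9 < 9 := Nat.mod_lt _ (by norm_num)
      interval_cases (k % 9) <;> omega
    · nlinarith

/-- `n² + n + 1 ∣ n³ - 1` -/
theorem dvd_sub (n : ℕ) (hn : 1 ≤ n) : n ^ 2 + n + 1 ∣ n ^ 3 - 1 := by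
  obtain ⟨k, rfl⟩ : ∃ k, n = k + 1 := ⟨n - 1, by omega⟩
  refine ⟨k, ?_⟩
  have : (k + 1) ^ 3 = ((k + 1) ^ 2 + (k + 1) + 1) * k + 1 := by ring
  omega

/-- `n² - n + 1 ∣ n³ + 1` -/
theorem dvd_add (n : ℕ) (hn : 1 ≤ n) : n ^ 2 - n + 1 ∣ n ^ 3 + 1 := by
  obtain ⟨k, rfl⟩ : ∃ k, n = k + 1 := ⟨n - 1, by omega⟩
  have e : (k + 1) ^ 2 - (k + 1) + 1 = k * k + k + 1 := by
    have : (k + 1) ^ 2 = k * k + k + (k + 1) := by ring
    omega
  rw [e]
  exact ⟨k + 2, by ring⟩

theorem cube_of_sq {a b : ℕ} (h : a ^ 3 = b ^ 2) : ∃ c, a = c ^ 2 ∧ b = c ^ 3 := by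
  rcases Nat.eq_zero_or_pos a with rfl | ha
  · exact ⟨0, by norm_num, by
      have : b ^ 2 = 0 := by rw [← h]; norm_num
      simpa using this⟩
  · have h1 : a ∣ b := by
      have h2 : a ^ 2 ∣ b ^ 2 := by rw [← h]; exact pow_dvd_pow a (by norm_num)
      exact (Nat.pow_dvd_pow_iff (by norm_num)).1 h2
    obtain ⟨c, rfl⟩ := h1
    have h3 : a = c ^ 2 := by
      have h4 : a ^ 2 * a = a ^ 2 * c ^ 2 := by rw [← pow_succ, h]; ring
      exact Nat.eq_of_mul_eq_mul_left (by positivity) h4
    refine ⟨c, h3, ?_⟩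
    rw [h3]; ring

/-- a quaternion group of order 8 and a homomorphism to a group with at most one involution -/
theorem exists_ij {A B : Type*} [Group A] [Group B] (hcomm : ∀ x y : B, x * y = y * x)
    (huniq : ∀ x y : B, x * x = 1 → y * y = 1 → x ≠ 1 → y ≠ 1 → x = y) (f : A →* B) (Q : Subgroup A)
    (e : Q ≃* QuaternionGroup 2) : ∃ i ∈ Q, ∃ j ∈ Q, f i = 1 ∧ f j * f j = 1 ∧ i * i ≠ 1 ∧ i * i * (i * i) = 1 ∧
      j * i * j⁻¹ = i⁻¹ := by
  set a : A := ((e.symm (QuaternionGroup.a 1) : Q) : A) with ha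
  set b : A := ((e.symm (QuaternionGroup.xa 0) : Q) : A) with hb
  have haQ : a ∈ Q := (e.symm _).2
  have hbQ : b ∈ Q := (e.symm _).2
  have lift : ∀ (x y : Q), e x = e y → (x : A) = y := fun x y h => congrArg Subtype.val (e.injective h)
  have e1 : a * a * (a * a) = 1 := by
    have := lift (e.symm (QuaternionGroup.a 1) * e.symm (QuaternionGroup.a 1) *
      (e.symm (QuaternionGroup.a 1) * e.symm (QuaternionGroup.a 1))) 1 (by
        simp only [map_mul, MulEquiv.apply_symm_apply, map_one]; decide)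
    exact this
  have e2 : a * a ≠ 1 := by
    intro h
    have h1 : (e.symm (QuaternionGroup.a 1) * e.symm (QuaternionGroup.a 1) : Q) = 1 := Subtype.ext h
    have h2 := congrArg e h1
    simp only [map_mul, MulEquiv.apply_symm_apply, map_one] at h2
    exact absurd h2 (by decide)
  have e3 : b * b = a * a := by
    have := lift (e.symm (QuaternionGroup.xa 0) * e.symm (QuaternionGroup.xa 0))
      (e.symm (QuaternionGroup.a 1) * e.symm (QuaternionGroup.a 1)) (by
        simp only [map_mul, MulEquiv.apply_symm_apply]; decide)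
    exact this
  have e4 : b * a = a⁻¹ * b := by
    have := lift (e.symm (QuaternionGroup.xa 0) * e.symm (QuaternionGroup.a 1))
      ((e.symm (QuaternionGroup.a 1))⁻¹ * e.symm (QuaternionGroup.xa 0)) (by
        simp only [map_mul, map_inv, MulEquiv.apply_symm_apply]; decide)
    exact this
  have faa : f a * f a = 1 := by
    have h1 : a * a = a * b * a⁻¹ * b⁻¹ := by
      have h2 : b * a⁻¹ = a * b := by
        calc b * a⁻¹ = a * (a⁻¹ * b) * a⁻¹ := by group
          _ = a * (b * a) * a⁻¹ := by rw [e4]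
          _ = a * b := by group
      calc a * a = a * (a * b) * b⁻¹ := by group
        _ = a * (b * a⁻¹) * b⁻¹ := by rw [h2]
        _ = _ := by group
    rw [← map_mul, h1, map_mul, map_mul, map_mul, map_inv, map_inv, hcomm (f a * f b) (f a)⁻¹]
    group
  have fbb : f b * f b = 1 := by rw [← map_mul, e3, map_mul, faa]
  by_cases h1 : f a = 1
  · exact ⟨a, haQ, b, hbQ, h1, fbb, e2, e1, by rw [e4]; group⟩
  · by_cases h2 : f b = 1
    · refine ⟨b, hbQ, a, haQ, h2, faa, by rw [e3]; exact e2, by rw [e3]; exact e1, ?_⟩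
      have h3 : a * b * a = b := by
        calc a * b * a = a * (b * a) := by group
          _ = a * (a⁻¹ * b) := by rw [e4]
          _ = b := by group
      have h4 : a⁻¹ = a * (b * b) := by
        rw [e3]
        calc a⁻¹ = a⁻¹ * (a * a * (a * a)) := by rw [e1, mul_one]
          _ = a * (a * a) := by group
      have h5 : b * b * b = b⁻¹ := by
        have h6 : b * b * (b * b) = 1 := by rw [e3]; exact e1
        calc b * b * b = (b * b * (b * b)) * b⁻¹ := by group
          _ = b⁻¹ := by rw [h6, one_mul]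
      calc a * b * a⁻¹ = a * b * (a * (b * b)) := by rw [← h4]
        _ = (a * b * a) * (b * b) := by group
        _ = b * (b * b) := by rw [h3]
        _ = b * b * b := by group
        _ = b⁻¹ := h5
    · have h3 : f a = f b := huniq _ _ faa fbb h1 h2
      have h4 : a * b * (a * b) = b * b := by
        calc a * b * (a * b) = a * (b * a) * b := by group
          _ = a * (a⁻¹ * b) * b := by rw [e4]
          _ = b * b := by group
      refine ⟨a * b, mul_mem haQ hbQ, a, haQ, ?_, faa, ?_, ?_, ?_⟩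
      · rw [map_mul, ← h3, faa]
      · rw [h4, e3]; exact e2
      · rw [h4, e3]; exact e1
      · have h5 : b⁻¹ * a⁻¹ * b = a := by
          calc b⁻¹ * a⁻¹ * b = b⁻¹ * (a⁻¹ * b) := by group
            _ = b⁻¹ * (b * a) := by rw [e4]
            _ = a := by group
        have h6 : a * b * a⁻¹ = b⁻¹ := by
          have h3 : a * b * a = b := by
            calc a * b * a = a * (b * a) := by group
              _ = a * (a⁻¹ * b) := by rw [e4]
              _ = b := by group
          have h4 : a⁻¹ = a * (b * b) := by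
            rw [e3]
            calc a⁻¹ = a⁻¹ * (a * a * (a * a)) := by rw [e1, mul_one]
              _ = a * (a * a) := by group
          have h5 : b * b * b = b⁻¹ := by
            have h6 : b * b * (b * b) = 1 := by rw [e3]; exact e1
            calc b * b * b = (b * b * (b * b)) * b⁻¹ := by group
              _ = b⁻¹ := by rw [h6, one_mul]
          calc a * b * a⁻¹ = a * b * (a * (b * b)) := by rw [← h4]
            _ = (a * b * a) * (b * b) := by group
            _ = b * (b * b) := by rw [h3]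
            _ = b * b * b := by group
            _ = b⁻¹ := h5
        calc a * (a * b) * a⁻¹ = a * (a * b * a⁻¹) := by group
          _ = a * b⁻¹ := by rw [h6]
          _ = (b⁻¹ * a⁻¹ * b) * b⁻¹ := by rw [h5]
          _ = (a * b)⁻¹ := by group

end Cfsg.Agent.OddHalf.Quat.KZArith
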