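import Cfsg.Agent.OddHalf.Quat.KF
import Cfsg.Agent.OddHalf.Quat.KZArith
import Cfsg.Agent.UGT.SL.GamL2
import Cfsg.Agent.Lib.PSL2Torus
import Cfsg.Agent.GH.L2AutFix

/-!
# Node Q, `L₂(q)`, `q = q₀³` odd: the fact `KZ` (helper341)

`kz (R : Cfsg.Agent.GH.L2Aut.Rep F L) (h : Nat.card F = q₀ ^ 3) : KZ L`: every involution of `L ≅ PSL(2,F)` commutes with an element of
prime order `r ≥ 5` whose centralizer in `Aut(L)` contains no quaternion group.
-/

set_option autoImplicit false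
set_option linter.style.haveILetI false

namespace Cfsg.Agent.OddHalf.Quat.KZL2

open Matrix Cfsg.Agent.Lib.SL2Mat Cfsg.Agent.Lib.AutSL2 Cfsg.Agent.Lib.AutSL2Out
open Cfsg.Agent.GH.L2Aut Cfsg.Agent.OddHalf.Quat.KZArith

variable {F : Type*} [Field F] [Finite F] {L : Type*} [Group L] (R : Cfsg.Agent.GH.L2Aut.Rep F L)

local notation "SL2" => Matrix.SpecialLinearGroup (Fin 2) F
local notation "M2" => Matrix (Fin 2) (Fin 2) F

/-- an element fixing `π X`, `X` of odd order, commutes with `X` -/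
theorem comm_of_fix {h : GL (Fin 2) F} {X : SL2} {r : ℕ} (hr : Odd r) (hX : X ^ r = 1)
    (hfix : R.gl h (R.π X) = R.π X) : h.1 * X.1 = X.1 * h.1 := by
  rw [R.gl_apply] at hfix
  rcases R.π_eq_iff.1 hfix with h1 | h1
  · exact of_conjGL_eq h1
  · exfalso
    have h2 : conjGL h (X ^ r) = 1 := by rw [hX, map_one]
    rw [map_pow, h1, hr.neg_pow, hX] at h2
    exact R.neg_one_ne_one h2

theorem nonscalar {X : SL2} (hX : R.π X ≠ 1) (c : F) : X.1 ≠ c • (1 : M2) := by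
  intro h
  apply hX
  rw [R.ker]
  have h1 := X.2
  rw [h] at h1
  have h2 : c ^ 2 = 1 := by
    have h3 : (c • (1 : M2)).det = c ^ 2 := by
      rw [Matrix.det_smul, Matrix.det_one, mul_one, Fintype.card_fin]
    rw [← h3, h1]
  have h4 : (c - 1) * (c + 1) = 0 := by linear_combination h2
  have h5 : c = 1 ∨ c = -1 := by
    rcases mul_eq_zero.1 h4 with h | h
    · left; linear_combination h
    · right; linear_combination h
  rcases h5 with h3 | h3
  · left
    apply Subtype.ext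
    rw [h, h3, one_smul]; rfl
  · right
    apply Subtype.ext
    rw [h, h3, neg_smul, one_smul]; rfl

/-- a lift of odd order -/
theorem exists_odd_lift {x : L} {r : ℕ} (hr : Odd r) (hx : x ^ r = 1) : ∃ X : SL2, R.π X = x ∧ X ^ r = 1 := by
  obtain ⟨X, rfl⟩ := R.surj x
  rw [← map_pow] at hx
  rcases (R.ker _).1 hx with h | h
  · exact ⟨X, rfl, h⟩
  · exact ⟨-X, R.π_neg X, by rw [hr.neg_pow, h, neg_neg]⟩

/-- the elements of `PGL` fixing `x ≠ 1` of odd order commute -/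
theorem pgl_comm {x : L} {r : ℕ} (hr : Odd r) (hx : x ^ r = 1) (hx1 : x ≠ 1) {α β : MulAut L}
    (hα : R.fld α = 1) (hβ : R.fld β = 1) (hαx : α x = x) (hβx : β x = x) : α * β = β * α := by
  obtain ⟨X, rfl, hX⟩ := exists_odd_lift R hr hx
  obtain ⟨g, rfl⟩ := R.mem_PGL.1 (R.mem_PGL_iff_fld.2 hα)
  obtain ⟨h, rfl⟩ := R.mem_PGL.1 (R.mem_PGL_iff_fld.2 hβ)
  have h1 := comm_of_fix R hr hX hαx
  have h2 := comm_of_fix R hr hX hβx
  obtain ⟨a, b, hab⟩ := exists_ab (nonscalar R hx1) h1.symm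
  obtain ⟨a', b', hab'⟩ := exists_ab (nonscalar R hx1) h2.symm
  rw [← map_mul, ← map_mul]
  congr 1
  apply Units.ext
  show g.1 * h.1 = h.1 * g.1
  rw [hab, hab']
  simp only [add_mul, mul_add, smul_mul_assoc, mul_smul_comm, one_mul, mul_one]
  module

/-- no quaternion group in the centraliser if there is no field automorphism of order 2 -/
theorem not_quat_of {x : L} {r : ℕ} (hr : Odd r) (hx : x ^ r = 1) (hx1 : x ≠ 1) (Q : Subgroup (MulAut L))
    (hQ : ∀ α ∈ Q, α x = x) (hτ : ∀ i ∈ Q, ∀ j ∈ Q, R.fld i = 1 → R.fld j ≠ 1 → R.fld j * R.fld j = 1 → i * i ≠ 1 →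
      i * i * (i * i) = 1 → j * i * j⁻¹ = i⁻¹ → False) : ¬ Nonempty (Q ≃* QuaternionGroup 2) := by
  rintro ⟨e⟩
  obtain ⟨i, hi, j, hj, h1, h2, h3, h4, h5⟩ := exists_ij (fun x y : F ≃+* F => ringEquiv_comm x y)
    (fun x y => Cfsg.Agent.UGT.SL.ringAut_involution_unique) R.fld Q e
  by_cases h6 : R.fld j = 1
  · have h7 := pgl_comm R hr hx hx1 h1 h6 (hQ i hi) (hQ j hj)
    apply h3
    have h8 : i = i⁻¹ := by
      rw [← h5, ← h7]; group
    calc i * i = i * i⁻¹ := by rw [← h8]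
      _ = 1 := mul_inv_cancel i
  · exact hτ i hi j hj h1 h6 h2 h3 h4 h5

/-! ### The split case -/

omit [Finite F] in
theorem dg_pow (b : F) (hb : b ≠ 0) (n : ℕ) : ent (dg b hb ^ n) 0 0 = b ^ n ∧ ent (dg b hb ^ n) 0 1 = 0 ∧
    ent (dg b hb ^ n) 1 0 = 0 ∧ ent (dg b hb ^ n) 1 1 = (b⁻¹) ^ n := by
  induction n with
  | zero => exact ⟨by rw [pow_zero, pow_zero]; rfl, rfl, rfl, by rw [pow_zero, pow_zero]; rfl⟩
  | succ n ih =>
    obtain ⟨h1, h2, h3, h4⟩ := ih
    rw [pow_succ (dg b hb) n]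
    refine ⟨?_, ?_, ?_, ?_⟩ <;> rw [ent_mul] <;>
      simp only [h1, h2, h3, h4, dg_00, dg_01, dg_10, dg_11, mul_zero, zero_mul, add_zero, zero_add, pow_succ]

omit [Finite F] in
theorem dg_pow_eq_one {b : F} {hb : b ≠ 0} {n : ℕ} (h : b ^ n = 1) : dg b hb ^ n = 1 := by
  obtain ⟨h1, h2, h3, h4⟩ := dg_pow b hb n
  apply ext_ent
  · rw [h1, h]; rfl
  · rw [h2]; rfl
  · rw [h3]; rfl
  · rw [h4, inv_pow, h, inv_one]; rfl

theorem gl_eq_iff {g h : GL (Fin 2) F} (hgh : R.gl g = R.gl h) : ∃ c : F, g.1 = c • h.1 := by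
  have h1 : R.gl (h⁻¹ * g) = 1 := by rw [map_mul, map_inv, hgh, inv_mul_cancel]
  obtain ⟨c, hc⟩ := R.gl_eq_one_iff.1 h1
  refine ⟨c, ?_⟩
  have h2 : g.1 = h.1 * (h⁻¹ * g).1 := by
    rw [← Units.val_mul]
    congr 1
    group
  rw [h2, hc, mul_smul_comm, mul_one]

omit [Finite F] in
theorem det_ne' (g : GL (Fin 2) F) : g.1.det ≠ 0 := (Matrix.GeneralLinearGroup.det g).ne_zero

/-- the contradiction in the split case -/
theorem split_case {τ : F ≃+* F} {ξ : F} (hξ0 : ξ ≠ 0) {r : ℕ} (hr : Odd r) (hξr : ξ ^ r = 1) (hξ1 : ξ ≠ 1)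
    (hcase : (τ ξ = ξ ∧ ∀ a, a ^ 2 = -1 → τ a = a) ∨ (τ ξ = ξ⁻¹ ∧ ∀ a, a ^ 2 = -1 → τ a ≠ a))
    {i j : MulAut L} (hi : i (R.π (dg ξ hξ0)) = R.π (dg ξ hξ0)) (hj : j (R.π (dg ξ hξ0)) = R.π (dg ξ hξ0))
    (h1 : R.fld i = 1) (h2 : R.fld j = τ) (h3 : i * i ≠ 1) (h4 : i * i * (i * i) = 1)
    (h5 : j * i * j⁻¹ = i⁻¹) : False := by
  have hX : dg ξ hξ0 ^ r = 1 := dg_pow_eq_one hξr
  have hξ2 : ξ * ξ ≠ 1 := by
    intro h
    apply hξ1
    have h6 : ξ ^ 2 = 1 := by rw [pow_two]; exact h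
    have h7 : ξ ^ Nat.gcd 2 r = 1 := by rw [pow_gcd_eq_one, h6, hξr]; exact ⟨rfl, rfl⟩
    rw [(Nat.coprime_two_left.2 hr), pow_one] at h7
    exact h7
  have hξi : ξ⁻¹ ≠ ξ := by
    intro h
    apply hξ2
    nth_rw 1 [← h]
    exact inv_mul_cancel₀ hξ0
  have cancel : ∀ y : F, y * ξ⁻¹ = ξ * y → y = 0 := by
    intro y hy
    have h6 : y * (ξ⁻¹ - ξ) = 0 := by linear_combination hy
    rcases mul_eq_zero.1 h6 with h | h
    · exact h
    · exact absurd (sub_eq_zero.1 h) hξi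
  have cancel' : ∀ y : F, y * ξ = ξ⁻¹ * y → y = 0 := by
    intro y hy
    have h6 : y * (ξ⁻¹ - ξ) = 0 := by linear_combination -hy
    rcases mul_eq_zero.1 h6 with h | h
    · exact h
    · exact absurd (sub_eq_zero.1 h) hξi
  -- `i` is diagonal
  obtain ⟨h, rfl⟩ := R.mem_PGL.1 (R.mem_PGL_iff_fld.2 h1)
  have hH := comm_of_fix R hr hX hi
  have e00 : (dg ξ hξ0).1 0 0 = ξ := rfl
  have e01 : (dg ξ hξ0).1 0 1 = 0 := rfl
  have e10 : (dg ξ hξ0).1 1 0 = 0 := rfl
  have e11 : (dg ξ hξ0).1 1 1 = ξ⁻¹ := rfl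
  have h01 : h.1 0 1 = 0 := by
    have h6 := congrFun (congrFun hH 0) 1
    rw [mat_mul, mat_mul, e00, e01, e11] at h6
    apply cancel
    linear_combination h6
  have h10 : h.1 1 0 = 0 := by
    have h6 := congrFun (congrFun hH 1) 0
    rw [mat_mul, mat_mul, e00, e10, e11] at h6
    apply cancel'
    linear_combination h6
  have hdet : h.1 0 0 * h.1 1 1 ≠ 0 := by
    have h6 := det_ne' h
    rw [Matrix.det_fin_two, h01, zero_mul, sub_zero] at h6
    exact h6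
  have h00 : h.1 0 0 ≠ 0 := left_ne_zero_of_mul hdet
  have h11 : h.1 1 1 ≠ 0 := right_ne_zero_of_mul hdet
  -- `a = h₀₀ / h₁₁` has `a² = -1`
  have hsq : ∀ (c : F), (h * h).1 = c • (1 : M2) → False := by
    intro c hc
    apply h3
    rw [← map_mul]
    exact R.gl_eq_one_iff.2 ⟨c, hc⟩
  have hhval : (h * h).1 = h.1 * h.1 := rfl
  have e1 : (h * h).1 0 0 = h.1 0 0 ^ 2 := by rw [hhval, mat_mul, h01]; ring
  have e2 : (h * h).1 1 1 = h.1 1 1 ^ 2 := by rw [hhval, mat_mul, h01]; ring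
  have e3 : (h * h).1 0 1 = 0 := by rw [hhval, mat_mul, h01]; ring
  have e4 : (h * h).1 1 0 = 0 := by rw [hhval, mat_mul, h10]; ring
  have hne : h.1 0 0 ^ 2 ≠ h.1 1 1 ^ 2 := by
    intro h6
    refine hsq (h.1 0 0 ^ 2) (mat_ext ?_ ?_ ?_ ?_)
    · rw [e1]; simp
    · rw [e3]; simp
    · rw [e4]; simp
    · rw [e2, ← h6]; simp
  have h4' : (h.1 0 0 ^ 2) ^ 2 = (h.1 1 1 ^ 2) ^ 2 := by
    rw [← map_mul, ← map_mul] at h4
    obtain ⟨c, hc⟩ := R.gl_eq_one_iff.1 h4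
    have hhv : (h * h * (h * h)).1 = (h * h).1 * (h * h).1 := rfl
    have h6 := congrFun (congrFun hc 0) 0
    have h7 := congrFun (congrFun hc 1) 1
    rw [hhv, mat_mul, e1, e3] at h6
    rw [hhv, mat_mul, e2, e3] at h7
    have h8 : (c • (1 : M2)) 0 0 = (c • (1 : M2)) 1 1 := by simp
    linear_combination h6 - h7 + h8
  have hneg : h.1 0 0 ^ 2 = -h.1 1 1 ^ 2 := by
    have h6 : (h.1 0 0 ^ 2 - h.1 1 1 ^ 2) * (h.1 0 0 ^ 2 + h.1 1 1 ^ 2) = 0 := by linear_combination h4'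
    rcases mul_eq_zero.1 h6 with h | h
    · exact absurd (sub_eq_zero.1 h) hne
    · exact eq_neg_of_add_eq_zero_left h
  set a : F := h.1 0 0 / h.1 1 1 with ha
  have ha2 : a ^ 2 = -1 := by
    rw [ha, div_pow, hneg, neg_div, div_self (pow_ne_zero 2 h11)]
  -- `j = gl g * fa τ`
  obtain ⟨g, hg⟩ := R.exists_eq j
  rw [h2] at hg
  have hgX : g.1 * (fieldAut τ (dg ξ hξ0)).1 = (dg ξ hξ0).1 * g.1 := by
    rw [hg] at hj
    have h6 : R.π (conjGL g (fieldAut τ (dg ξ hξ0))) = R.π (dg ξ hξ0) := by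
      rw [← R.gl_apply, ← R.fa_apply]
      exact hj
    rcases R.π_eq_iff.1 h6 with h7 | h7
    · exact of_conjGL_eq h7
    · exfalso
      have h8 : conjGL g (fieldAut τ (dg ξ hξ0 ^ r)) = 1 := by rw [hX, map_one, map_one]
      rw [map_pow, map_pow, h7, hr.neg_pow, hX] at h8
      exact R.neg_one_ne_one h8
  have f00 : (fieldAut τ (dg ξ hξ0)).1 0 0 = τ ξ := rfl
  have f01 : (fieldAut τ (dg ξ hξ0)).1 0 1 = 0 := map_zero τ
  have f10 : (fieldAut τ (dg ξ hξ0)).1 1 0 = 0 := map_zero τ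
  have f11 : (fieldAut τ (dg ξ hξ0)).1 1 1 = (τ ξ)⁻¹ := map_inv₀ τ ξ
  have g00 : g.1 0 0 * τ ξ = ξ * g.1 0 0 := by
    have h6 := congrFun (congrFun hgX 0) 0
    rw [mat_mul, mat_mul, f00, f10, e00, e01] at h6
    linear_combination h6
  have g01 : g.1 0 1 * (τ ξ)⁻¹ = ξ * g.1 0 1 := by
    have h6 := congrFun (congrFun hgX 0) 1
    rw [mat_mul, mat_mul, f01, f11, e00, e01] at h6
    linear_combination h6
  have g10 : g.1 1 0 * τ ξ = ξ⁻¹ * g.1 1 0 := by
    have h6 := congrFun (congrFun hgX 1) 0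
    rw [mat_mul, mat_mul, f00, f10, e10, e11] at h6
    linear_combination h6
  have g11 : g.1 1 1 * (τ ξ)⁻¹ = ξ⁻¹ * g.1 1 1 := by
    have h6 := congrFun (congrFun hgX 1) 1
    rw [mat_mul, mat_mul, f01, f11, e10, e11] at h6
    linear_combination h6
  have hgdet := det_ne' g
  rw [Matrix.det_fin_two] at hgdet
  -- the relation
  set h' := Matrix.GeneralLinearGroup.map τ.toRingHom h with hh'
  have k00 : h'.1 0 0 = τ (h.1 0 0) := rfl
  have k01 : h'.1 0 1 = 0 := by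
    show τ (h.1 0 1) = 0
    rw [h01, map_zero]
  have k10 : h'.1 1 0 = 0 := by
    show τ (h.1 1 0) = 0
    rw [h10, map_zero]
  have k11 : h'.1 1 1 = τ (h.1 1 1) := rfl
  obtain ⟨c, hc⟩ : ∃ c : F, (h * g * h').1 = c • g.1 := by
    apply gl_eq_iff R
    have h6 : R.gl h * (j * R.gl h) = j := by
      calc R.gl h * (j * R.gl h) = R.gl h * (j * R.gl h * j⁻¹) * j := by group
        _ = R.gl h * (R.gl h)⁻¹ * j := by rw [h5]
        _ = j := by group
    rw [hg] at h6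
    have h7 : R.gl (h * g * h') * R.fa τ = R.gl g * R.fa τ := by
      rw [← h6, map_mul, map_mul]
      calc R.gl h * R.gl g * R.gl h' * R.fa τ = R.gl h * R.gl g * (R.gl h' * R.fa τ) := by group
        _ = R.gl h * R.gl g * (R.fa τ * R.gl h) := by rw [← R.fa_mul_gl]
        _ = R.gl h * (R.gl g * R.fa τ * R.gl h) := by group
    exact mul_right_cancel h7
  have hval : (h * g * h').1 = h.1 * g.1 * h'.1 := rfl
  rw [hval] at hc
  have hent : ∀ k l, (h.1 * g.1 * h'.1) k l = c * g.1 k l := by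
    intro k l
    rw [hc]; rfl
  have c00 := hent 0 0
  have c01 := hent 0 1
  have c10 := hent 1 0
  have c11 := hent 1 1
  rw [mat_mul, mat_mul, mat_mul, h01, k00, k10] at c00
  rw [mat_mul, mat_mul, mat_mul, h01, k01, k11] at c01
  rw [mat_mul, mat_mul, mat_mul, h10, k00, k10] at c10
  rw [mat_mul, mat_mul, mat_mul, h10, k01, k11] at c11
  rcases hcase with ⟨hτξ, hτa⟩ | ⟨hτξ, hτa⟩
  · rw [hτξ] at g01 g10
    have g01' := cancel _ g01
    have g10' := cancel' _ g10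
    rw [g01', g10'] at hgdet
    have g00' : g.1 0 0 ≠ 0 := fun h => hgdet (by rw [h]; ring)
    have g11' : g.1 1 1 ≠ 0 := fun h => hgdet (by rw [h]; ring)
    have h6 : h.1 0 0 * τ (h.1 0 0) = c := by
      apply mul_right_cancel₀ g00'
      linear_combination c00
    have h7 : h.1 1 1 * τ (h.1 1 1) = c := by
      apply mul_right_cancel₀ g11'
      linear_combination c11
    have h8 : a * τ a = 1 := by
      rw [ha, map_div₀, div_mul_div_comm, h6, ← h7]
      exact div_self (mul_ne_zero h11 (by rw [Ne, map_eq_zero]; exact h11))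
    rw [hτa a ha2, ← pow_two, ha2] at h8
    have h9 : (2 : F) = 0 := by linear_combination -h8
    exact R.two h9
  · rw [hτξ] at g00 g11
    rw [inv_inv] at g11
    have g00' := cancel _ g00
    have g11' := cancel' _ g11
    rw [g00', g11'] at hgdet
    have g01' : g.1 0 1 ≠ 0 := fun h => hgdet (by rw [h]; ring)
    have g10' : g.1 1 0 ≠ 0 := fun h => hgdet (by rw [h]; ring)
    have h6 : h.1 0 0 * τ (h.1 1 1) = c := by
      apply mul_right_cancel₀ g01'
      linear_combination c01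
    have h7 : h.1 1 1 * τ (h.1 0 0) = c := by
      apply mul_right_cancel₀ g10'
      linear_combination c10
    apply hτa a ha2
    have hτ11 : τ (h.1 1 1) ≠ 0 := by rw [Ne, map_eq_zero]; exact h11
    rw [ha, map_div₀, div_eq_div_iff hτ11 h11, mul_comm _ (h.1 1 1), h7, h6]

/-! ### The element `ξ` -/

theorem isSquare_neg_one {E : Type*} [Field E] [Finite E] : IsSquare (-1 : E) ↔ Nat.card E % 4 ≠ 3 := by
  classical
  haveI := Fintype.ofFinite E
  rw [FiniteField.isSquare_neg_one_iff, Nat.card_eq_fintype_card]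

theorem exists_units {E : Type*} [Field E] [Finite E] {r : ℕ} (hr : r.Prime) (h : r ∣ Nat.card E - 1) :
    ∃ ξ : E, ξ ≠ 0 ∧ ξ ^ r = 1 ∧ ξ ≠ 1 := by
  haveI : Fact r.Prime := ⟨hr⟩
  rw [← Nat.card_units] at h
  obtain ⟨y, hy⟩ := exists_prime_orderOf_dvd_card' r h
  refine ⟨y, y.ne_zero, ?_, ?_⟩
  · rw [← Units.val_pow_eq_pow_val, ← hy, pow_orderOf_eq_one, Units.val_one]
  · intro h1
    have h2 : y = 1 := Units.ext h1
    rw [h2, orderOf_one] at hy
    exact hr.one_lt.ne hy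

theorem exists_xi (h2 : (2 : F) ≠ 0) {τ : F ≃+* F} (hτ : τ ≠ 1) (hττ : τ * τ = 1) {q : ℕ}
    (hq : Nat.card F = q ^ 3) :
    ∃ (r : ℕ) (ξ : F), r.Prime ∧ 5 ≤ r ∧ ξ ≠ 0 ∧ ξ ^ r = 1 ∧ ξ ≠ 1 ∧
      ((τ ξ = ξ ∧ ∀ a, a ^ 2 = -1 → τ a = a) ∨ (τ ξ = ξ⁻¹ ∧ ∀ a, a ^ 2 = -1 → τ a ≠ a)) := by
  obtain ⟨K, hK, hcard⟩ := exists_fixed_field τ
  have hord : orderOf τ = 2 := orderOf_eq_prime (by rw [pow_two]; exact hττ) hτ
  rw [hord] at hcard
  obtain ⟨q2, -, hq2⟩ := cube_of_sq (hq.symm.trans hcard)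
  have hoddF : Odd (Nat.card F) := odd_card h2
  have hoddK : Odd (Nat.card K) := by
    rw [hcard] at hoddF
    exact Nat.Odd.of_mul_left (by rw [pow_two] at hoddF; exact hoddF)
  have hodd2 : q2 % 2 = 1 := by
    rw [hq2] at hoddK
    exact Nat.odd_iff.1 (Nat.Odd.of_mul_right (m := q2 ^ 2) (by rw [← pow_succ]; exact hoddK))
  have hK1 : 1 < Nat.card K := Finite.one_lt_card
  have hq3 : 3 ≤ q2 := by
    by_contra hlt
    have h3 : q2 = 1 := by omega
    rw [h3] at hq2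
    omega
  have hττx : ∀ x, τ (τ x) = x := fun x => congrArg (fun γ : F ≃+* F => γ x) hττ
  obtain ⟨⟨r1, hr1, hr15, hr1d⟩, ⟨r2, hr2, hr25, hr2d⟩⟩ := exists_prime hodd2 hq3
  have hmod : q2 % 4 = 1 ∨ q2 % 4 = 3 := by omega
  have hmodK : Nat.card K % 4 = q2 % 4 := by
    rw [hq2, Nat.pow_mod]
    rcases hmod with h | h <;> rw [h]
  rcases hmod with hm | hm
  · obtain ⟨ξ, hξ0, hξr, hξ1⟩ := exists_units (E := K) hr1 (by
      rw [hq2]; exact hr1d.trans (dvd_sub q2 (by omega)))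
    refine ⟨r1, (ξ : F), hr1, hr15, fun h => hξ0 (Subtype.ext h), ?_, fun h => hξ1 (Subtype.ext h), Or.inl ⟨?_, ?_⟩⟩
    · exact congrArg Subtype.val hξr
    · exact (hK _).1 ξ.2
    · intro a ha
      have h3 : IsSquare (-1 : K) := by rw [isSquare_neg_one, hmodK, hm]; norm_num
      obtain ⟨b, hb⟩ := h3
      have hb' : (b : F) * b = -1 := (congrArg Subtype.val hb).symm
      have h4 : (a - b) * (a + b) = 0 := by linear_combination ha - hb'
      rw [← hK]
      rcases mul_eq_zero.1 h4 with h | h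
      · rw [sub_eq_zero.1 h]; exact b.2
      · rw [eq_neg_of_add_eq_zero_left h]; exact K.neg_mem b.2
  · have hd1 : r2 ∣ Nat.card K + 1 := by rw [hq2]; exact hr2d.trans (dvd_add q2 (by omega))
    have hd2 : r2 ∣ Nat.card F - 1 := by
      have h3 : Nat.card F - 1 = (Nat.card K + 1) * (Nat.card K - 1) := by
        rw [hcard]
        obtain ⟨k, hk⟩ : ∃ k, Nat.card K = k + 1 := ⟨Nat.card K - 1, by omega⟩
        rw [hk]
        have : (k + 1) ^ 2 = (k + 1 + 1) * k + 1 := by ring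
        rw [this]; simp
      rw [h3]
      exact hd1.mul_right _
    obtain ⟨ξ, hξ0, hξr, hξ1⟩ := exists_units (E := F) hr2 hd2
    refine ⟨r2, ξ, hr2, hr25, hξ0, hξr, hξ1, Or.inr ⟨?_, ?_⟩⟩
    · -- the norm of `ξ`
      have hN : ξ * τ ξ ∈ K := by
        rw [hK, map_mul, hττx, mul_comm]
      set N : K := ⟨ξ * τ ξ, hN⟩ with hNdef
      have hN0 : N ≠ 0 := by
        intro h
        have h3 : ξ * τ ξ = 0 := congrArg Subtype.val h
        rcases mul_eq_zero.1 h3 with h | h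
        · exact hξ0 h
        · exact hξ0 ((map_eq_zero τ).1 h)
      have e1 : N ^ r2 = 1 := by
        apply Subtype.ext
        show (ξ * τ ξ) ^ r2 = 1
        rw [mul_pow, ← map_pow, hξr, map_one, mul_one]
      have e2 : N ^ (Nat.card K - 1) = 1 := by
        classical
        haveI := Fintype.ofFinite K
        rw [Nat.card_eq_fintype_card]
        exact FiniteField.pow_card_sub_one_eq_one N hN0
      have hcop : Nat.Coprime r2 (Nat.card K - 1) := by
        rw [Nat.Prime.coprime_iff_not_dvd hr2]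
        intro h
        have h3 : r2 ∣ (Nat.card K + 1) - (Nat.card K - 1) := Nat.dvd_sub hd1 h
        have h4 : (Nat.card K + 1) - (Nat.card K - 1) = 2 := by omega
        rw [h4] at h3
        have := Nat.le_of_dvd (by norm_num) h3
        omega
      have e3 : N ^ Nat.gcd r2 (Nat.card K - 1) = 1 := by
        rw [pow_gcd_eq_one]; exact ⟨e1, e2⟩
      rw [hcop, pow_one] at e3
      have e4 : ξ * τ ξ = 1 := congrArg Subtype.val e3
      exact eq_inv_of_mul_eq_one_right e4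
    · intro a ha hτa
      have h3 : a ∈ K := (hK a).2 hτa
      have h4 : IsSquare (-1 : K) := ⟨⟨a, h3⟩, Subtype.ext (by
        show -1 = a * a
        rw [← pow_two, ha])⟩
      rw [isSquare_neg_one, hmodK] at h4
      exact h4 hm

/-! ### The fact -/

/-- **`KZ` for `L₂(q)`, `q = q₀³` odd.** -/
theorem kz (R : Cfsg.Agent.GH.L2Aut.Rep F L) (q : ℕ) (hq : Nat.card F = q ^ 3) : KZ L := by
  intro z hz
  have hzz : z * z = 1 := by rw [← pow_two, ← hz, pow_orderOf_eq_one]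
  have hz1 : z ≠ 1 := fun h => by rw [h, orderOf_one] at hz; omega
  have e := Cfsg.Agent.UGT.SL.toEquiv R
  have hoddF : Odd (Nat.card F) := odd_card R.two
  have hcop6 : ∀ {r n : ℕ}, r.Prime → 5 ≤ r → n ∣ r → Nat.Coprime n 6 := by
    intro r n hr hr5 hn
    apply Nat.Coprime.coprime_dvd_left hn
    have h2 : Nat.Coprime r 2 := (Nat.coprime_primes hr Nat.prime_two).2 (by omega)
    have h3 : Nat.Coprime r 3 := (Nat.coprime_primes hr Nat.prime_three).2 (by omega)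
    exact Nat.Coprime.mul_right h2 h3
  by_cases hτ : ∃ τ : F ≃+* F, τ ≠ 1 ∧ τ * τ = 1
  · obtain ⟨τ, hτ1, hττ⟩ := hτ
    obtain ⟨r, ξ, hr, hr5, hξ0, hξr, hξ1, hcase⟩ := exists_xi R.two hτ1 hττ hq
    have hrodd : Odd r := hr.odd_of_ne_two (by omega)
    -- an involution commuting with `π (dg ξ)`
    obtain ⟨ι, hι⟩ : ∃ ι : F, ι * ι = -1 := by
      obtain ⟨K, hK, hcard⟩ := exists_fixed_field τ
      have hord : orderOf τ = 2 := orderOf_eq_prime (by rw [pow_two]; exact hττ) hτ1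
      have h3 : IsSquare (-1 : F) := by
        rw [isSquare_neg_one, hcard, hord, Nat.pow_mod]
        have h4 : Nat.card K % 4 < 4 := Nat.mod_lt _ (by norm_num)
        interval_cases (Nat.card K % 4) <;> norm_num
      obtain ⟨ι, hι⟩ := h3
      exact ⟨ι, hι.symm⟩
    have hι0 : ι ≠ 0 := by
      rintro rfl
      rw [mul_zero] at hι
      exact one_ne_zero (neg_eq_zero.1 hι.symm)
    set z0 : L := R.π (dg ι hι0) with hz0
    have hιsq : dg ι hι0 * dg ι hι0 = -1 := by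
      have h3 : ι⁻¹ * ι⁻¹ = -1 := by rw [← mul_inv, hι, inv_neg, inv_one]
      apply ext_ent
      · rw [ent_mul, dg_00, dg_01, zero_mul, add_zero, hι]; rfl
      · rw [ent_mul, dg_01, mul_zero, zero_mul, add_zero]; exact (neg_zero (G := F)).symm
      · rw [ent_mul, dg_10, mul_zero, zero_mul, add_zero]; exact (neg_zero (G := F)).symm
      · rw [ent_mul, dg_10, dg_11, zero_mul, zero_add, h3]; rfl
    have hz0z : z0 * z0 = 1 := by rw [hz0, ← map_mul, hιsq, R.ker]; exact Or.inr rfl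
    have hz01 : z0 ≠ 1 := by
      intro h
      rw [hz0, R.ker] at h
      have h3 : (dg ι hι0 * dg ι hι0 : SL2) = 1 := by
        rcases h with h | h
        · rw [h, one_mul]
        · rw [h, neg_mul_neg, one_mul]
      rw [hιsq] at h3
      exact R.neg_one_ne_one h3
    obtain ⟨y, hy⟩ := Cfsg.Agent.Lib.PSL2Torus.conj_inv R.two e hz01 hz0z hz1 hzz
    set x0 : L := R.π (dg ξ hξ0) with hx0
    have hx0r : x0 ^ r = 1 := by rw [hx0, ← map_pow, dg_pow_eq_one hξr, map_one]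
    have hx01 : x0 ≠ 1 := by
      intro h
      rw [hx0, R.ker] at h
      apply hξ1
      rcases h with h | h
      · exact congrArg (fun m => ent m 0 0) h
      · exfalso
        have h3 : ξ = -1 := congrArg (fun m => ent m 0 0) h
        rw [h3, hrodd.neg_one_pow] at hξr
        have h4 : (2 : F) = 0 := by linear_combination -hξr
        exact R.two h4
    have hcomm : x0 * z0 = z0 * x0 := by
      rw [hx0, hz0, ← map_mul, ← map_mul]
      congr 1
      apply ext_ent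
      · rw [ent_mul, ent_mul]; simp [mul_comm]
      · rw [ent_mul, ent_mul]; simp
      · rw [ent_mul, ent_mul]; simp
      · rw [ent_mul, ent_mul]; simp [mul_comm]
    have hxr : (y * x0 * y⁻¹) ^ r = 1 := by rw [conj_pow, hx0r]; group
    have hx1 : y * x0 * y⁻¹ ≠ 1 := fun h => hx01 (conj_eq_one_iff.1 h)
    refine ⟨y * x0 * y⁻¹, ?_, hcop6 hr hr5 (orderOf_dvd_of_pow_eq_one hxr), ?_⟩
    · rw [← hy]
      calc y * x0 * y⁻¹ * (y * z0 * y⁻¹) = y * (x0 * z0) * y⁻¹ := by group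
        _ = y * (z0 * x0) * y⁻¹ := by rw [hcomm]
        _ = _ := by group
    · intro Q hQ
      refine not_quat_of R hrodd hxr hx1 Q hQ ?_
      intro i hi j hj h1 h2 h22 h3 h4 h5
      have hτj : R.fld j = τ := Cfsg.Agent.UGT.SL.ringAut_involution_unique h22 hττ h2 hτ1
      set γ : MulAut L := MulAut.conj y with hγ
      have hcf : ∀ α : MulAut L, R.fld (γ⁻¹ * α * γ) = R.fld α := by
        intro α
        rw [map_mul, map_mul, map_inv, ringEquiv_comm (R.fld γ)⁻¹ (R.fld α)]; group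
      have hfix : ∀ α ∈ Q, (γ⁻¹ * α * γ) x0 = x0 := by
        intro α hα
        show γ⁻¹ (α (y * x0 * y⁻¹)) = x0
        rw [hQ α hα, hγ, ← map_inv, MulAut.conj_apply]; group
      refine split_case R hξ0 hrodd hξr hξ1 hcase (i := γ⁻¹ * i * γ) (j := γ⁻¹ * j * γ) (hfix i hi) (hfix j hj)
        (by rw [hcf, h1]) (by rw [hcf, hτj]) ?_ ?_ ?_
      · intro h
        apply h3
        calc i * i = γ * ((γ⁻¹ * i * γ) * (γ⁻¹ * i * γ)) * γ⁻¹ := by group
          _ = 1 := by rw [h]; group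
      · calc γ⁻¹ * i * γ * (γ⁻¹ * i * γ) * (γ⁻¹ * i * γ * (γ⁻¹ * i * γ)) = γ⁻¹ * (i * i * (i * i)) * γ := by group
          _ = 1 := by rw [h4]; group
      · calc γ⁻¹ * j * γ * (γ⁻¹ * i * γ) * (γ⁻¹ * j * γ)⁻¹ = γ⁻¹ * (j * i * j⁻¹) * γ := by group
          _ = γ⁻¹ * i⁻¹ * γ := by rw [h5]
          _ = _ := by group
  · push Not at hτ
    obtain ⟨T, m, hT, hm⟩ := Cfsg.Agent.Lib.PSL2Torus.exists_torus R.two e hz1 hzz
    have hqodd : q % 2 = 1 := by
      rw [hq] at hoddF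
      exact Nat.odd_iff.1 (Nat.Odd.of_mul_right (m := q ^ 2) (by rw [← pow_succ]; exact hoddF))
    have hF1 : 1 < Nat.card F := Finite.one_lt_card
    have hq3 : 3 ≤ q := by
      by_contra hlt
      have h3 : q = 1 := by omega
      rw [h3] at hq
      omega
    obtain ⟨⟨r1, hr1, hr15, hr1d⟩, ⟨r2, hr2, hr25, hr2d⟩⟩ := exists_prime hqodd hq3
    obtain ⟨r, hr, hr5, hrm⟩ : ∃ r, r.Prime ∧ 5 ≤ r ∧ r ∣ m := by
      rcases hm with ⟨-, hm⟩ | ⟨-, hm⟩
      · refine ⟨r1, hr1, hr15, ?_⟩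
        have h3 : r1 ∣ 2 * m := by rw [hm, hq]; exact hr1d.trans (dvd_sub q (by omega))
        exact ((Nat.coprime_primes hr1 Nat.prime_two).2 (by omega)).dvd_of_dvd_mul_left h3
      · refine ⟨r2, hr2, hr25, ?_⟩
        have h3 : r2 ∣ 2 * m := by rw [hm, hq]; exact hr2d.trans (dvd_add q (by omega))
        exact ((Nat.coprime_primes hr2 Nat.prime_two).2 (by omega)).dvd_of_dvd_mul_left h3
    haveI : Fact r.Prime := ⟨hr⟩
    have hmpos : Nat.card T ≠ 0 := by
      rw [hT.card]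
      rcases hm with ⟨-, hm⟩ | ⟨-, hm⟩ <;> omega
    haveI : Finite T := Nat.finite_of_card_ne_zero hmpos
    obtain ⟨x, hx⟩ := exists_prime_orderOf_dvd_card' (G := T) r (by rw [hT.card]; exact hrm)
    have hxr : (x : L) ^ r = 1 := by
      rw [← hx]
      exact congrArg Subtype.val (pow_orderOf_eq_one x)
    have hx1 : (x : L) ≠ 1 := by
      intro h
      have h3 : x = 1 := Subtype.ext h
      rw [h3, orderOf_one] at hx
      exact hr.one_lt.ne hx
    refine ⟨x, hT.comm x x.2, hcop6 hr hr5 (orderOf_dvd_of_pow_eq_one hxr), ?_⟩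
    intro Q hQ
    refine not_quat_of R (hr.odd_of_ne_two (by omega)) hxr hx1 Q hQ ?_
    intro i _ j _ _ h2 h22 _ _ _
    exact hτ _ h2 h22

/-- **`KZ` for `L ≃* PSL(2,F)`, `|F| = q₀³` odd.** -/
theorem kz_psl (h2 : (2 : F) ≠ 0) (e : L ≃* Matrix.ProjectiveSpecialLinearGroup (Fin 2) F) (q : ℕ)
    (hq : Nat.card F = q ^ 3) : KZ L :=
  kz (Cfsg.Agent.GH.L2Aut.Rep.ofEquiv h2 e) q hq

end Cfsg.Agent.OddHalf.Quat.KZL2
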