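import Cfsg.Agent.OddHalf.Quat.Base
import Cfsg.Agent.OddHalf.Quat.KF

/-!
# Node Q: the kills for `NoThree`, `KBig`, `KZ`

* `Base.exists_sylow` : a Sylow 2-subgroup `S` of `G` containing `Q`, with `S ∩ C(z)` Sylow in `C(z)` and `S ∩ K₁` a
  given Sylow 2-subgroup of `K₁`;
* `Base.exists_ne` : `Om(S)` has another member;
* `Base.kill_three`, `Base.kill_big`, `Base.kill_z`.
-/

set_option autoImplicit false

namespace Cfsg.Agent.OddHalf.Quat

open Subgroup Cfsg Cfsg.Agent.Cit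

variable {G : Type*} [Group G]

/-- `|A : C_A(y)| ≤ |B|` if `B` contains all the commutators `[t, y]`, `t ∈ A` -/
theorem relIndex_le_of_comm [Finite G] {A B : Subgroup G} {y : G} (h : ∀ t ∈ A, t * y * t⁻¹ * y⁻¹ ∈ B) :
    (A ⊓ centralizer {y}).relIndex A ≤ Nat.card B := by
  classical
  let f : A ⧸ (A ⊓ centralizer {y}).subgroupOf A → B := Quotient.lift
    (fun t : A => (⟨(t : G) * y * (t : G)⁻¹ * y⁻¹, h t t.2⟩ : B)) (by
      rintro ⟨a, ha⟩ ⟨c, hc⟩ hac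
      have h1 : (⟨a, ha⟩ : A)⁻¹ * ⟨c, hc⟩ ∈ (A ⊓ centralizer {y}).subgroupOf A := QuotientGroup.leftRel_apply.1 hac
      rw [mem_subgroupOf] at h1
      have h2 : a⁻¹ * c * y = y * (a⁻¹ * c) := mem_centralizer_singleton_iff.1 h1.2
      apply Subtype.ext
      change a * y * a⁻¹ * y⁻¹ = c * y * c⁻¹ * y⁻¹
      have h3 : c * y * c⁻¹ = a * y * a⁻¹ := by
        calc c * y * c⁻¹ = a * (a⁻¹ * c * y) * c⁻¹ := by group
          _ = a * (y * (a⁻¹ * c)) * c⁻¹ := by rw [h2]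
          _ = a * y * a⁻¹ := by group
      rw [h3])
  have hf : Function.Injective f := by
    intro u v huv
    induction u using QuotientGroup.induction_on with
    | H a =>
      induction v using QuotientGroup.induction_on with
      | H c =>
        have h1 : (a : G) * y * (a : G)⁻¹ * y⁻¹ = c * y * (c : G)⁻¹ * y⁻¹ := congrArg Subtype.val huv
        have h2 : (a : G) * y * (a : G)⁻¹ = c * y * (c : G)⁻¹ := mul_right_cancel h1
        rw [QuotientGroup.eq, mem_subgroupOf]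
        refine ⟨A.mul_mem (A.inv_mem a.2) c.2, mem_centralizer_singleton_iff.2 ?_⟩
        change (a : G)⁻¹ * c * y = y * ((a : G)⁻¹ * c)
        calc (a : G)⁻¹ * c * y = (a : G)⁻¹ * (c * y * (c : G)⁻¹) * c := by group
          _ = (a : G)⁻¹ * (a * y * (a : G)⁻¹) * c := by rw [h2]
          _ = y * ((a : G)⁻¹ * c) := by group
  rw [relIndex, index]
  exact Nat.card_le_card_of_injective f hf

namespace Base

variable [Finite G] {z : G} {Q K₁ : Subgroup G}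

theorem K₁_inf_Q (b : Base z Q K₁) {x : G} (hx : x ∈ K₁) (hxQ : x ∈ Q) : x = 1 :=
  b.hyp.eq_one_of_mem (self_mem_cls Q) b.two (by rw [b.zz_eq]; exact b.ntr) hxQ hx

/-- choice of the Sylow 2-subgroup -/
theorem exists_sylow (b : Base z Q K₁) {U : Subgroup G} (hU : Syl U K₁) :
    ∃ S : Sylow 2 G, Syl ((S : Subgroup G) ⊓ centralizer {z}) (centralizer {z}) ∧ Q ≤ (S : Subgroup G) ∧
      (S : Subgroup G) ⊓ K₁ = U := by
  have : Fact (Nat.Prime 2) := ⟨Nat.prime_two⟩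
  have hUQ : U ≤ normalizer (Q : Set G) := hU.1.trans (b.K₁C.trans b.Qn)
  have h1 : IsPGroup 2 (Q ⊔ U : Subgroup G) := IsPGroup.to_sup_of_normal_left' b.two hU.2.1 hUQ
  obtain ⟨S₁, hS₁, hle⟩ := LB.exists_syl_ge h1 (sup_le b.QC (hU.1.trans b.K₁C))
  obtain ⟨S, hS⟩ := hS₁.2.1.exists_le_sylow
  have h2 : S₁ = (S : Subgroup G) ⊓ centralizer {z} :=
    LB.syl_eq_of_le hS₁ (S.isPGroup'.to_le inf_le_left) inf_le_right (le_inf hS hS₁.1)
  refine ⟨S, h2 ▸ hS₁, (le_sup_left.trans hle).trans hS, ?_⟩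
  have h3 : U ≤ (S : Subgroup G) ⊓ K₁ := le_inf ((le_sup_right.trans hle).trans hS) hU.1
  exact (LB.syl_eq_of_le hU (S.isPGroup'.to_le inf_le_left) inf_le_right h3).symm

/-- `Om(S)` has another member -/
theorem exists_ne (b : Base z Q K₁) (hn : ∃ L ∈ cls Q, L ≠ Q ∧ ∀ x ∈ Q, ∀ y ∈ L, x * y = y * x)
    (S : Sylow 2 G) : ∃ L ∈ OmS (cls Q) (S : Subgroup G), L ≠ Q := by
  have : Fact (Nat.Prime 2) := ⟨Nat.prime_two⟩
  obtain ⟨L, hL, hne, hc⟩ := hn
  have bL := b.of_mem hL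
  have h1 : IsPGroup 2 (Q ⊔ L : Subgroup G) := by
    refine IsPGroup.to_sup_of_normal_left' b.two bL.two ?_
    intro y hy
    rw [mem_normalizer_iff]
    intro x
    constructor
    · intro hx
      rw [← hc x hx y hy, mul_inv_cancel_right]; exact hx
    · intro hx
      have h3 := hc _ hx y hy
      have h4 : x = y⁻¹ * (y * x * y⁻¹ * y) := by group
      rw [h4, h3]
      have h5 : y⁻¹ * (y * (y * x * y⁻¹)) = y * x * y⁻¹ := by group
      rw [h5]; exact hx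
  obtain ⟨S', hS'⟩ := h1.exists_le_sylow
  obtain ⟨g, hg⟩ := MulAction.exists_smul_eq G S' S
  have hg' : cj g (S' : Subgroup G) = S := by rw [← hg]; rfl
  have hQ' : Q ∈ OmS (cls Q) (S' : Subgroup G) :=
    mem_OmS_of_le (self_mem_cls Q) (syl_self b.two) (le_sup_left.trans hS')
  have hL' : L ∈ OmS (cls Q) (S' : Subgroup G) :=
    mem_OmS_of_le hL (syl_self bL.two) (le_sup_right.trans hS')
  have h2 := cj_mem_OmS b.hyp.conj g hQ'
  have h3 := cj_mem_OmS b.hyp.conj g hL'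
  rw [hg'] at h2 h3
  by_cases h4 : cj g Q = Q
  · refine ⟨_, h3, fun h5 => hne ?_⟩
    rw [← h4, cj_inj] at h5
    exact h5
  · exact ⟨_, h2, h4⟩

/-- **`NoThree`** -/
theorem kill_three (b : Base z Q K₁)
    (h3 : ∃ c ∈ centralizer {z}, (∃ k : ℕ, c ^ 3 ^ k = 1) ∧ ∃ q ∈ Q, c * q ≠ q * c) (hK : NoThree ↥K₁) :
    False := by
  obtain ⟨c, hc, ⟨k, hck⟩, q, hq, hcq⟩ := h3
  set α : MulAut K₁ := K₁.normalizerMonoidHom ⟨c, b.Kn hc⟩ with hα
  have h1 : ∀ (j : ℕ) (β : MulAut K₁), β ^ 3 ^ j = 1 → β ∈ (MulAut.conj : K₁ →* MulAut K₁).range := by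
    intro j
    induction j with
    | zero =>
      intro β hβ
      rw [pow_zero, pow_one] at hβ
      rw [hβ]; exact one_mem _
    | succ j ih =>
      intro β hβ
      apply hK
      apply ih
      have h2 : β * β * β = β ^ 3 := by rw [pow_succ, pow_two]
      rw [h2, ← pow_mul, ← pow_succ', hβ]
  obtain ⟨⟨m, hm⟩, hmα⟩ := h1 k α (by
    have h2 : (⟨c, b.Kn hc⟩ : normalizer (K₁ : Set G)) ^ 3 ^ k = 1 := Subtype.ext hck
    rw [hα, ← map_pow, h2, map_one])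
  have h2 : ∀ x ∈ K₁, c * x * c⁻¹ = m * x * m⁻¹ := by
    intro x hx
    have h3 : (MulAut.conj (⟨m, hm⟩ : K₁)) ⟨x, hx⟩ = α ⟨x, hx⟩ := by rw [hmα]
    exact (congrArg Subtype.val h3).symm
  have hp : m⁻¹ * c ∈ Q := by
    rw [← b.cent]
    refine ⟨mem_centralizer_iff.2 fun x hx => ?_, Subgroup.mul_mem _ (Subgroup.inv_mem _ (b.K₁C hm)) hc⟩
    have h3 := h2 x hx
    calc x * (m⁻¹ * c) = m⁻¹ * (m * x * m⁻¹) * c := by group
      _ = m⁻¹ * (c * x * c⁻¹) * c := by rw [h3]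
      _ = m⁻¹ * c * x := by group
  set p := m⁻¹ * c with hpdef
  have hcmp : c = m * p := by rw [hpdef]; group
  have hmp : Commute m p := b.comm hm hp
  have h4 : m ^ 3 ^ k * p ^ 3 ^ k = 1 := by rw [← hmp.mul_pow, ← hcmp, hck]
  have h5 : p ^ 3 ^ k = 1 := by
    apply b.K₁_inf_Q _ (Q.pow_mem hp _)
    have h6 : p ^ 3 ^ k = (m ^ 3 ^ k)⁻¹ := eq_inv_of_mul_eq_one_right h4
    rw [h6]
    exact K₁.inv_mem (K₁.pow_mem hm _)
  have h6 : p = 1 := by
    obtain ⟨j, hj⟩ := b.two ⟨p, hp⟩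
    have hj' : p ^ 2 ^ j = 1 := congrArg Subtype.val hj
    have h7 : orderOf p ∣ 2 ^ j := orderOf_dvd_of_pow_eq_one hj'
    have h8 : orderOf p ∣ 3 ^ k := orderOf_dvd_of_pow_eq_one h5
    have h9 : Nat.Coprime (2 ^ j) (3 ^ k) := Nat.Coprime.pow _ _ (by norm_num)
    exact orderOf_eq_one_iff.1 (Nat.eq_one_of_dvd_coprimes h9 h7 h8)
  apply hcq
  rw [hcmp, h6, mul_one]
  exact b.comm hm hq

omit [Finite G] in
/-- elements of `S` commuting with `z` normalise `S ∩ K₁` -/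
theorem norm_T (b : Base z Q K₁) {S : Subgroup G} {t : G} (ht : t ∈ S) (htz : t * z = z * t) :
    ∀ x ∈ S ⊓ K₁, t * x * t⁻¹ ∈ S ⊓ K₁ := fun _ hx =>
  ⟨S.mul_mem (S.mul_mem ht hx.1) (S.inv_mem ht),
    (mem_normalizer_iff.1 (b.Kn (mem_centralizer_singleton_iff.2 htz)) _).1 hx.2⟩

/-- **`KBig`** -/
theorem kill_big (b : Base z Q K₁) (h8 : Nat.card Q = 8) (S : Sylow 2 G) (hQS : Q ≤ (S : Subgroup G))
    (hne : ∃ L ∈ OmS (cls Q) (S : Subgroup G), L ≠ Q)
    (hK : KBig (((S : Subgroup G) ⊓ K₁).subgroupOf K₁)) : False := by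
  have q := b.qk
  have hKS : Q ∈ OmS (cls Q) (S : Subgroup G) := mem_OmS_of_le (self_mem_cls Q) (syl_self b.two) hQS
  obtain ⟨w, -, hw1, hww, hwK, hwS, hwt, hfix, -⟩ := q.exists_w hKS hne
  rw [b.Kc_self] at hwK
  simp only [b.zz_eq] at hwt hfix
  set T := (S : Subgroup G) ⊓ K₁ with hT
  have hTz : ∀ t ∈ T, t * z = z * t := fun t ht => mem_centralizer_singleton_iff.1 (b.K₁C ht.2)
  set U := T.subgroupOf K₁ with hU
  have hmemU : ∀ u : K₁, u ∈ U ↔ (u : G) ∈ T := fun u => mem_subgroupOf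
  -- the subgroup `X`
  let X : Subgroup G :=
    { carrier := {x | x ∈ T ∧ x * x = 1 ∧ ∀ t ∈ T, t * x = x * t}
      one_mem' := ⟨T.one_mem, by simp, fun t _ => by simp⟩
      mul_mem' := by
        rintro x y ⟨hx, hx2, hxt⟩ ⟨hy, hy2, hyt⟩
        refine ⟨T.mul_mem hx hy, ?_, fun t ht => ?_⟩
        · calc x * y * (x * y) = x * (y * x) * y := by group
            _ = (x * x) * (y * y) := by rw [hxt y hy]; group
            _ = 1 := by rw [hx2, hy2, one_mul]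
        · rw [← mul_assoc, hxt t ht, mul_assoc, hyt t ht, mul_assoc]
      inv_mem' := by
        rintro x ⟨hx, hx2, hxt⟩
        refine ⟨T.inv_mem hx, by rw [← mul_inv_rev, hx2, inv_one], fun t ht => ?_⟩
        rw [eq_inv_mul_iff_mul_eq, ← mul_assoc, ← hxt t ht, mul_inv_cancel_right] }
  have hX : ∀ x, x ∈ X ↔ x ∈ T ∧ x * x = 1 ∧ ∀ t ∈ T, t * x = x * t := fun x => Iff.rfl
  have hXU : ∀ x : K₁, x ∈ XZ U ↔ (x : G) ∈ X := by
    intro x
    rw [hX]
    constructor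
    · rintro ⟨h1, h2, h3⟩
      exact ⟨(hmemU x).1 h1, congrArg Subtype.val h2, fun t ht =>
        congrArg Subtype.val (h3 ⟨t, ht.2⟩ ((hmemU _).2 ht))⟩
    · rintro ⟨h1, h2, h3⟩
      exact ⟨(hmemU x).2 h1, Subtype.ext h2, fun t ht => Subtype.ext (h3 t ((hmemU _).1 ht))⟩
  have hwX : w ∈ X := (hX w).2 ⟨⟨hwS, hwK⟩, hww, fun t ht => hwt t ht.1 (hTz t ht)⟩
  obtain ⟨r, hr, hrw⟩ := hK.mv ⟨w, hwK⟩ ((hXU _).2 hwX) (fun h => hw1 (congrArg Subtype.val h))
  have hrT : ∀ x, x ∈ T ↔ (r : G) * x * (r : G)⁻¹ ∈ T := by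
    intro x
    constructor
    · intro hx
      exact (hmemU _).1 ((mem_normalizer_iff.1 hr ⟨x, hx.2⟩).1 ((hmemU _).2 hx))
    · intro hx
      have h1 : x ∈ K₁ := by
        have h2 := K₁.mul_mem (K₁.mul_mem (K₁.inv_mem r.2) hx.2) r.2
        have h3 : (r : G)⁻¹ * (r * x * (r : G)⁻¹) * r = x := by group
        rwa [h3] at h2
      exact (hmemU _).1 ((mem_normalizer_iff.1 hr ⟨x, h1⟩).2 ((hmemU _).2 hx))
  have hrX : ∀ x ∈ X, (r : G) * x * (r : G)⁻¹ ∈ X := by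
    intro x hx
    rw [hX] at hx ⊢
    refine ⟨(hrT x).1 hx.1, ?_, fun t ht => ?_⟩
    · calc (r : G) * x * (r : G)⁻¹ * (r * x * (r : G)⁻¹) = r * (x * x) * (r : G)⁻¹ := by group
        _ = 1 := by rw [hx.2.1]; group
    · have h1 : (r : G)⁻¹ * t * r ∈ T := by
        rw [hrT]
        have h2 : (r : G) * ((r : G)⁻¹ * t * r) * (r : G)⁻¹ = t := by group
        rwa [h2]
      have h2 := hx.2.2 _ h1
      calc t * (r * x * (r : G)⁻¹) = r * (((r : G)⁻¹ * t * r) * x) * (r : G)⁻¹ := by group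
        _ = r * (x * ((r : G)⁻¹ * t * r)) * (r : G)⁻¹ := by rw [h2]
        _ = r * x * (r : G)⁻¹ * t := by group
  have hnT := fun {t : G} (ht : t ∈ (S : Subgroup G)) (htz : t * z = z * t) => b.norm_T ht htz
  have hXS : ∀ x ∈ X, ∀ t ∈ (S : Subgroup G), t * zz Q = zz Q * t → t * x * t⁻¹ ∈ X := by
    intro x hx t ht htz
    rw [b.zz_eq] at htz
    have htz' : t⁻¹ * z = z * t⁻¹ := by
      rw [inv_mul_eq_iff_eq_mul, ← mul_assoc, htz, mul_inv_cancel_right]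
    rw [hX] at hx ⊢
    refine ⟨hnT ht htz x hx.1, ?_, fun s hs => ?_⟩
    · calc t * x * t⁻¹ * (t * x * t⁻¹) = t * (x * x) * t⁻¹ := by group
        _ = 1 := by rw [hx.2.1]; group
    · have h1 := hnT ((S : Subgroup G).inv_mem ht) htz' s hs
      have h2 := hx.2.2 _ h1
      calc s * (t * x * t⁻¹) = t * ((t⁻¹ * s * t⁻¹⁻¹) * x) * t⁻¹ := by group
        _ = t * (x * (t⁻¹ * s * t⁻¹⁻¹)) * t⁻¹ := by rw [h2]
        _ = t * x * t⁻¹ * s := by group
  obtain ⟨L, hL, hLK, hzX, hLle, ⟨y, hy, x, hx, hyx⟩, hcom⟩ := q.dichotomy hKS (w := w)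
    (fun A h1 h2 r hr h3 => hfix A h1 h2 r (by rwa [b.zz_eq] at hr) h3) (X := X)
    (fun x hx => by rw [b.Kc_self]; exact hx.1.2) (fun x hx => hx.2.1)
    (fun x hx t ht htK => by
      rw [b.Kc_self] at htK
      exact ((hX x).1 hx).2.2 t ⟨ht, htK⟩ |>.symm) hXS hwX (r := r)
    (by rw [b.zz_eq]; exact mem_centralizer_singleton_iff.1 (b.K₁C r.2)) hrX
    (fun h => hrw (Subtype.ext h))
  rw [b.Kc_self] at hLle hcom
  have hyS : y ∈ (S : Subgroup G) := q.le_S hL hy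
  have hyz : y * z = z * y := by
    have := q.comm_members hKS hL hLK.symm z b.zQ y hy
    exact this.symm
  have hyz' : y⁻¹ * z = z * y⁻¹ := by
    rw [inv_mul_eq_iff_eq_mul, ← mul_assoc, hyz, mul_inv_cancel_right]
  set α : MulAut K₁ := K₁.normalizerMonoidHom ⟨y, b.Kn (mem_centralizer_singleton_iff.2 hyz)⟩ with hα
  have hαx : ∀ u : K₁, ((α u : K₁) : G) = y * u * y⁻¹ := fun u => rfl
  have h4 := hK.act α ?_ ?_ ⟨⟨x, hx.1.2⟩, (hXU _).2 hx, fun h => hyx ?_⟩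
    ((T ⊓ centralizer {y}).subgroupOf K₁) ?_ ?_
  · rw [hU, relIndex_subgroupOf inf_le_right] at h4
    have h5 : (T ⊓ centralizer {y}).relIndex T ≤ Nat.card (L ⊓ K₁ : Subgroup G) :=
      relIndex_le_of_comm fun t ht => hcom t ht.1 ht.2 y hy
    have hL8 : Nat.card L = 8 := by
      obtain ⟨g, rfl⟩ := hL.1
      rw [card_cj, h8]
    have h6 : Nat.card (L ⊓ K₁ : Subgroup G) ∣ Nat.card L := card_dvd_of_le inf_le_left
    have h7 : Nat.card (L ⊓ K₁ : Subgroup G) ≠ Nat.card L := by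
      intro h
      apply hLle
      have h9 := Subgroup.eq_of_le_of_card_ge (inf_le_left : L ⊓ K₁ ≤ L) h.ge
      rw [← h9]
      exact inf_le_right
    rw [hL8] at h6 h7
    have h9 : Nat.card (L ⊓ K₁ : Subgroup G) ≤ 4 := by
      have h10 := Nat.le_of_dvd (by norm_num) h6
      interval_cases h11 : Nat.card (L ⊓ K₁ : Subgroup G) <;> omega
    exact absurd (lt_of_lt_of_le h4 (h5.trans h9)) (lt_irrefl _)
  · have h5 : IsPGroup 2 (zpowers y) := (b.of_mem hL.1).two.to_le (zpowers_le.2 hy)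
    have h6 : IsPGroup 2 (zpowers (⟨y, b.Kn (mem_centralizer_singleton_iff.2 hyz)⟩ :
        normalizer (K₁ : Set G))) := by
      obtain ⟨k, hk⟩ := h5 ⟨y, mem_zpowers y⟩
      have hk' : y ^ 2 ^ k = 1 := congrArg Subtype.val hk
      rintro ⟨_, j, rfl⟩
      refine ⟨k, Subtype.ext (Subtype.ext ?_)⟩
      change (y ^ j) ^ 2 ^ k = 1
      rw [← zpow_natCast, ← zpow_mul, mul_comm, zpow_mul, zpow_natCast, hk', one_zpow]
    have h7 := h6.map (K₁.normalizerMonoidHom)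
    rwa [MonoidHom.map_zpowers] at h7
  · intro u hu
    rw [hmemU, hαx]
    exact hnT hyS hyz u ((hmemU u).1 hu)
  · have h5 := congrArg Subtype.val h
    rw [hαx] at h5
    exact mul_inv_eq_iff_eq_mul.1 h5
  · intro u hu
    rw [mem_subgroupOf] at hu
    exact (hmemU u).2 hu.1
  · intro u hu
    rw [mem_subgroupOf] at hu
    apply Subtype.ext
    rw [hαx]
    have h5 := mem_centralizer_singleton_iff.1 hu.2
    rw [← h5, mul_inv_cancel_right]

end Base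

end Cfsg.Agent.OddHalf.Quat
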