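import Cfsg.Agent.OddHalf.Quat.Kill
import Cfsg.Agent.Lib.NormalAbelian

/-!
# Node Q: the kill for `KTwo` (`U_3k(2)`, `³D₄(2)`, `²E₆(2)`)

Some `L ∈ Om(S)` acts nontrivially on `V`; then `zz L ∈ V`, the `T`-orbit of `zz L` is the set `E` of all the `zz M`,
`M ∈ Om(S)`, `M ≠ Q`, so `|E| ≤ 2`, and `|T| ≤ 2 · 16²`.
-/

set_option autoImplicit false

namespace Cfsg.Agent.OddHalf.Quat

open Subgroup Cfsg Cfsg.Agent.Cit

variable {G : Type*} [Group G]

/-- an independent set of `n` elements generates a subgroup of order at least `2 ^ n` -/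
theorem two_pow_le [Finite G] (F : Finset G) (h : ∀ x ∈ F, x ∉ closure ((F : Set G) \ {x})) :
    2 ^ F.card ≤ Nat.card (closure (F : Set G)) := by
  classical
  induction F using Finset.induction_on with
  | empty => simp
  | insert a F ha ih =>
    have h1 : ∀ x ∈ F, x ∉ closure ((F : Set G) \ {x}) := by
      intro x hx hc
      refine h x (Finset.mem_insert_of_mem hx) (closure_mono ?_ hc)
      intro y hy
      exact ⟨by simpa using Or.inr hy.1, hy.2⟩
    have h2 := ih h1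
    have h3 : closure (F : Set G) ≤ closure ((insert a F : Finset G) : Set G) :=
      closure_mono (by simp)
    have h4 : a ∉ closure (F : Set G) := by
      intro hc
      refine h a (Finset.mem_insert_self a F) (closure_mono ?_ hc)
      intro y hy
      refine ⟨by simpa using Or.inr hy, ?_⟩
      rintro rfl
      exact ha hy
    have h5 : a ∈ closure ((insert a F : Finset G) : Set G) := subset_closure (by simp)
    obtain ⟨k, hk⟩ := card_dvd_of_le h3
    have h6 : 0 < Nat.card (closure ((insert a F : Finset G) : Set G)) := Nat.card_pos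
    have hk2 : 2 ≤ k := by
      rcases Nat.lt_or_ge k 2 with hk2 | hk2
      · exfalso
        interval_cases k
        · omega
        · rw [mul_one] at hk
          have h7 := Subgroup.eq_of_le_of_card_ge h3 hk.le
          rw [h7] at h4
          exact h4 h5
      · exact hk2
    rw [Finset.card_insert_of_notMem ha, pow_succ, hk]
    exact Nat.mul_le_mul h2 hk2

/-- the orbit of `a` under `T` -/
theorem card_orbit [Finite G] (T : Subgroup G) (a : G) :
    Nat.card {x : G // ∃ t ∈ T, x = t * a * t⁻¹} = (T ⊓ centralizer {a}).relIndex T := by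
  classical
  symm
  rw [relIndex, index]
  have hiff : ∀ s ∈ T, ∀ t ∈ T, (s * a * s⁻¹ = t * a * t⁻¹ ↔ s⁻¹ * t ∈ T ⊓ centralizer {a}) := by
    intro s hs t ht
    constructor
    · intro h
      refine ⟨T.mul_mem (T.inv_mem hs) ht, mem_centralizer_singleton_iff.2 ?_⟩
      calc s⁻¹ * t * a = s⁻¹ * (t * a * t⁻¹) * t := by group
        _ = s⁻¹ * (s * a * s⁻¹) * t := by rw [h]
        _ = a * (s⁻¹ * t) := by group
    · intro h
      have h2 : s⁻¹ * t * a = a * (s⁻¹ * t) := mem_centralizer_singleton_iff.1 h.2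
      calc s * a * s⁻¹ = s * (a * (s⁻¹ * t)) * t⁻¹ := by group
        _ = s * (s⁻¹ * t * a) * t⁻¹ := by rw [h2]
        _ = t * a * t⁻¹ := by group
  let f : T ⧸ (T ⊓ centralizer {a}).subgroupOf T → {x : G // ∃ t ∈ T, x = t * a * t⁻¹} := Quotient.lift
    (fun t : T => (⟨(t : G) * a * (t : G)⁻¹, t, t.2, rfl⟩ : {x : G // ∃ t ∈ T, x = t * a * t⁻¹})) (by
      rintro ⟨s, hs⟩ ⟨t, ht⟩ hst
      have h1 : (⟨s, hs⟩ : T)⁻¹ * ⟨t, ht⟩ ∈ (T ⊓ centralizer {a}).subgroupOf T := QuotientGroup.leftRel_apply.1 hst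
      rw [mem_subgroupOf] at h1
      exact Subtype.ext ((hiff s hs t ht).2 h1))
  refine Nat.card_congr (Equiv.ofBijective f ⟨?_, ?_⟩)
  · intro u v huv
    induction u using QuotientGroup.induction_on with
    | H s =>
      induction v using QuotientGroup.induction_on with
      | H t =>
        rw [QuotientGroup.eq, mem_subgroupOf]
        exact (hiff s s.2 t t.2).1 (congrArg Subtype.val huv)
  · rintro ⟨x, t, ht, rfl⟩
    exact ⟨QuotientGroup.mk ⟨t, ht⟩, rfl⟩

namespace Base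

variable [Finite G] {z : G} {Q K₁ : Subgroup G}

/-- a 2-subgroup of `C(z)` meets `K₁` in a subgroup of index at most 16 -/
theorem relIndex_le (b : Base z Q K₁) (h8 : Nat.card Q = 8)
    (hout : ¬ 4 ∣ (MulAut.conj : K₁ →* MulAut K₁).range.index) {R : Subgroup G} (hR : IsPGroup 2 R)
    (hRz : R ≤ centralizer {z}) : K₁.relIndex R ≤ 16 := by
  have : Fact (Nat.Prime 2) := ⟨Nat.prime_two⟩
  set J := K₁ ⊔ Q with hJ
  have hQn : Q ≤ normalizer (K₁ : Set G) := b.QC.trans b.Kn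
  have h1 : K₁.relIndex J ≤ 8 := by
    rw [hJ, LB.relIndex_sup_of_normalizes hQn, ← h8]
    exact Nat.le_of_dvd Nat.card_pos (relIndex_dvd_card _ _)
  have h2 : J.relIndex R ≤ 2 := by
    obtain ⟨k, hk⟩ : ∃ k, J.relIndex R = 2 ^ k := by
      obtain ⟨k, hk⟩ := hR.index (J.subgroupOf R)
      exact ⟨k, hk⟩
    by_contra hcon
    apply hout
    have h3 : 4 ∣ J.relIndex R := by
      rw [hk] at hcon ⊢
      have h4 : 2 ≤ k := by
        by_contra h5
        interval_cases k <;> omega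
      exact (by norm_num : (4 : ℕ) = 2 ^ 2) ▸ pow_dvd_pow 2 h4
    refine h3.trans ?_
    let φ : R →* MulAut K₁ := (K₁.normalizerMonoidHom).comp (inclusion (hRz.trans b.Kn))
    have h4 : ((MulAut.conj : K₁ →* MulAut K₁).range).comap φ ≤ J.subgroupOf R := by
      rintro ⟨r, hr⟩ ⟨⟨m, hm⟩, hmr⟩
      rw [mem_subgroupOf]
      have h5 : ∀ x ∈ K₁, m * x * m⁻¹ = r * x * r⁻¹ := by
        intro x hx
        have h6 : (MulAut.conj (⟨m, hm⟩ : K₁)) ⟨x, hx⟩ = φ ⟨r, hr⟩ ⟨x, hx⟩ := by rw [hmr]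
        exact congrArg Subtype.val h6
      have h6 : m⁻¹ * r ∈ Q := by
        rw [← b.cent]
        refine ⟨mem_centralizer_iff.2 fun x hx => ?_,
          Subgroup.mul_mem _ (Subgroup.inv_mem _ (b.K₁C hm)) (hRz hr)⟩
        have h3 := h5 x hx
        calc x * (m⁻¹ * r) = m⁻¹ * (m * x * m⁻¹) * r := by group
          _ = m⁻¹ * (r * x * r⁻¹) * r := by rw [h3]
          _ = m⁻¹ * r * x := by group
      have h7 : r = m * (m⁻¹ * r) := by group
      change r ∈ J
      rw [h7]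
      exact J.mul_mem ((le_sup_left : K₁ ≤ J) hm) ((le_sup_right : Q ≤ J) h6)
    have h5 : J.relIndex R ∣ (((MulAut.conj : K₁ →* MulAut K₁).range).comap φ).index := index_dvd_of_le h4
    rw [index_comap] at h5
    have hn : ((MulAut.conj : K₁ →* MulAut K₁).range).Normal := by
      refine ⟨?_⟩
      rintro _ ⟨k, rfl⟩ β
      refine ⟨β k, ?_⟩
      ext x
      simp
    exact h5.trans (relIndex_dvd_index_of_normal _ _)
  have h3 : K₁.relIndex (J ⊓ R) * J.relIndex R = (K₁ ⊓ J).relIndex R := relIndex_inf_mul_relIndex _ _ _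
  rw [inf_eq_left.2 (le_sup_left : K₁ ≤ J)] at h3
  have h4 : K₁.relIndex (J ⊓ R) ≤ K₁.relIndex J :=
    relIndex_le_of_le_right inf_le_left (by
      have : K₁.relIndex J ≠ 0 := index_ne_zero_of_finite
      exact this)
  calc K₁.relIndex R = K₁.relIndex (J ⊓ R) * J.relIndex R := h3.symm
    _ ≤ 8 * 2 := Nat.mul_le_mul (h4.trans h1) h2
    _ = 16 := by norm_num

theorem relIndex_le' (b : Base z Q K₁) (h8 : Nat.card Q = 8)
    (hout : ¬ 4 ∣ (MulAut.conj : K₁ →* MulAut K₁).range.index) {L : Subgroup G} (hL : L ∈ cls Q)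
    {R : Subgroup G} (hR : IsPGroup 2 R) (hRz : R ≤ centralizer {zz L}) : (Kc Q K₁ L).relIndex R ≤ 16 := by
  obtain ⟨g, rfl⟩ := hL
  rw [b.Kc_cj]
  have h1 : (cj g K₁).relIndex R = K₁.relIndex (cj g⁻¹ R) := by
    rw [← relIndex_cj g⁻¹, cj_inv_cj]
  rw [h1]
  refine b.relIndex_le h8 hout (isPGroup_cj hR) ?_
  intro x hx
  rw [mem_cj, inv_inv] at hx
  have h2 := mem_centralizer_singleton_iff.1 (hRz hx)
  rw [b.hyp.zz_cj (self_mem_cls Q), b.zz_eq] at h2
  rw [mem_centralizer_singleton_iff]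
  calc x * z = g⁻¹ * (g * x * g⁻¹ * (g * z * g⁻¹)) * g := by group
    _ = g⁻¹ * (g * z * g⁻¹ * (g * x * g⁻¹)) * g := by rw [h2]
    _ = z * x := by group

/-- **`KTwo`** -/
theorem kill_two (b : Base z Q K₁) (h8 : Nat.card Q = 8) (S : Sylow 2 G) (hQS : Q ≤ (S : Subgroup G))
    (hne : ∃ L ∈ OmS (cls Q) (S : Subgroup G), L ≠ Q) {V : Subgroup ↥K₁}
    (hK : KTwo (((S : Subgroup G) ⊓ K₁).subgroupOf K₁) V) : False := by
  classical
  have h2p : Fact (Nat.Prime 2) := ⟨Nat.prime_two⟩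
  have q := b.qk
  have hKS : Q ∈ OmS (cls Q) (S : Subgroup G) := mem_OmS_of_le (self_mem_cls Q) (syl_self b.two) hQS
  obtain ⟨w, -, hw1, hww, hwK, hwS, hwt, hfix, -, hex⟩ := q.exists_w hKS hne
  rw [b.Kc_self] at hwK
  simp only [b.zz_eq] at hwt hfix
  set T := (S : Subgroup G) ⊓ K₁ with hT
  have hT2 : IsPGroup 2 T := S.isPGroup'.to_le inf_le_left
  have hTz : ∀ t ∈ T, t * z = z * t := fun t ht => mem_centralizer_singleton_iff.1 (b.K₁C ht.2)
  set U := T.subgroupOf K₁ with hU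
  have hmemU : ∀ u : K₁, u ∈ U ↔ (u : G) ∈ T := fun u => mem_subgroupOf
  set V' : Subgroup G := V.map K₁.subtype with hV'
  have hmemV : ∀ (x : G) (hx : x ∈ K₁), x ∈ V' ↔ (⟨x, hx⟩ : K₁) ∈ V := by
    intro x hx
    rw [hV', mem_map]
    constructor
    · rintro ⟨y, hy, rfl⟩; exact hy
    · intro h; exact ⟨_, h, rfl⟩
  have hVK : V' ≤ K₁ := map_subtype_le _
  have hVT : V' ≤ T := by
    rintro _ ⟨y, hy, rfl⟩
    exact (hmemU y).1 (hK.le hy)
  have hV2 : ∀ x ∈ V', x * x = 1 := by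
    rintro _ ⟨y, hy, rfl⟩
    exact congrArg Subtype.val (hK.sq y hy)
  have hVc : ∀ x ∈ V', ∀ y ∈ V', x * y = y * x := by
    intro x hx y hy
    have h1 := hV2 _ (V'.mul_mem hx hy)
    have h2 : x⁻¹ = x := inv_eq_of_mul_eq_one_left (hV2 x hx)
    have h3 : y⁻¹ = y := inv_eq_of_mul_eq_one_left (hV2 y hy)
    calc x * y = (x * y)⁻¹ := (inv_eq_of_mul_eq_one_left h1).symm
      _ = y⁻¹ * x⁻¹ := mul_inv_rev _ _
      _ = y * x := by rw [h2, h3]
  have hVcard : Nat.card V' ≤ 16 := by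
    rw [hV', card_map_of_injective K₁.subtype_injective]
    exact hK.card
  obtain ⟨w₀, hw₀V, hw₀1, hw₀u, r, hrV, hrw⟩ := hK.w
  -- the elements of `Ω₁(Z(T))`
  have hXZ : ∀ x, x ∈ T → x * x = 1 → (∀ t ∈ T, t * x = x * t) → x = 1 ∨ x = w₀ := by
    intro x hx hx2 hxt
    rcases hw₀u ⟨x, hx.2⟩ ⟨(hmemU _).2 hx, Subtype.ext hx2,
      fun u hu => Subtype.ext (hxt u ((hmemU u).1 hu))⟩ with h | h
    · exact Or.inl (congrArg Subtype.val h)
    · exact Or.inr (congrArg Subtype.val h)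
  have hww₀ : w = w₀ := (hXZ w ⟨hwS, hwK⟩ hww fun t ht => hwt t ht.1 (hTz t ht)).resolve_left hw1
  have hwV : w ∈ V' := by rw [hww₀]; exact ⟨w₀, hw₀V, rfl⟩
  have hnT := fun {t : G} (ht : t ∈ (S : Subgroup G)) (htz : t * z = z * t) => b.norm_T ht htz
  -- elements of `S` commuting with `z` normalise `V'`
  have hnV : ∀ t ∈ (S : Subgroup G), t * z = z * t → ∀ x ∈ V', t * x * t⁻¹ ∈ V' := by
    intro t ht htz x hx
    have h1 := hK.inv (K₁.normalizerMonoidHom ⟨t, b.Kn (mem_centralizer_singleton_iff.2 htz)⟩)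
      (fun u hu => (hmemU _).2 (hnT ht htz u ((hmemU u).1 hu))) ⟨x, hVK hx⟩ ((hmemV x (hVK hx)).1 hx)
    exact (hmemV _ _).2 h1
  -- some member acts nontrivially on `V'`
  have hDV : ¬ DD (cls Q) (S : Subgroup G) ≤ centralizer (V' : Set G) := by
    intro hD
    apply hrw
    have h1 := hfix (V' : Set G) hwV hD r (mem_centralizer_singleton_iff.1 (b.K₁C r.2)) (by
      intro x hx
      have h2 := hrV ⟨x, hVK hx⟩ ((hmemV x (hVK hx)).1 hx)
      exact (hmemV _ (K₁.mul_mem (K₁.mul_mem r.2 (hVK hx)) (K₁.inv_mem r.2))).2 h2)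
    rw [hww₀] at h1
    exact Subtype.ext h1
  rw [DD_le_iff] at hDV
  push Not at hDV
  obtain ⟨L, hL, hLV⟩ := hDV
  obtain ⟨y, hy, hyV⟩ := SetLike.not_le_iff_exists.1 hLV
  have hLQ : L ≠ Q := by
    rintro rfl
    apply hyV
    rw [mem_centralizer_iff]
    intro x hx
    exact b.comm (hVK hx) hy.1
  have bL := b.of_mem hL.1
  have hLS : L ≤ (S : Subgroup G) := q.le_S hL
  have hcz : ∀ M ∈ OmS (cls Q) (S : Subgroup G), M ≠ Q → ∀ x ∈ M, x * z = z * x := fun M hM hMQ x hx =>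
    (q.comm_members hKS hM hMQ.symm z b.zQ x hx).symm
  have hLz : ∀ x ∈ L, x * z = z * x := hcz L hL hLQ
  have hLnV : L ≤ normalizer (V' : Set G) := by
    intro x hx
    have h1 : x⁻¹ ∈ L := L.inv_mem hx
    rw [mem_normalizer_iff]
    intro v
    refine ⟨hnV x (hLS hx) (hLz x hx) v, fun hv => ?_⟩
    have h2 := hnV x⁻¹ (hLS h1) (hLz _ h1) _ hv
    have h3 : x⁻¹ * (x * v * x⁻¹) * x⁻¹⁻¹ = v := by group
    rwa [h3] at h2
  have hLV' : ¬ ∀ v ∈ V', ∀ x ∈ L, v * x = x * v := by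
    intro h
    apply hyV
    rw [mem_centralizer_iff]
    exact fun v hv => h v hv y hy.1
  have hzL : zz L ∈ V' := by
    by_contra hz
    apply hLV'
    intro v hv x hx
    exact (b.hyp.lemma_one hL.1 bL.two (hT2.to_le hVT) hLnV hz x hx v hv).symm
  -- the orbit
  set O : Set G := {x | ∃ t ∈ T, x = t * zz L * t⁻¹} with hO
  have hOV : O ⊆ V' := by
    rintro _ ⟨t, ht, rfl⟩
    exact hnV t ht.1 (hTz t ht) _ hzL
  have hTQ : ∀ t ∈ T, cj t Q = Q := fun t ht =>
    mem_normalizer_iff_cj.1 (b.Qn (mem_centralizer_singleton_iff.2 (hTz t ht)))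
  have hOE : O ⊆ Orb.ZE (cls Q) (S : Subgroup G) Q := by
    rintro _ ⟨t, ht, rfl⟩
    refine ⟨cj t L, cj_mem_OmS' b.hyp.conj (le_normalizer ht.1) hL, ?_, (b.hyp.zz_cj hL.1 t).symm⟩
    intro h
    apply hLQ
    rw [← hTQ t ht, cj_inj] at h
    exact h
  have hself : zz L ∈ O := ⟨1, T.one_mem, by group⟩
  -- independence
  have hind : ∀ x ∈ Orb.ZE (cls Q) (S : Subgroup G) Q, x ∉ closure (Orb.ZE (cls Q) (S : Subgroup G) Q \ {x}) := by
    rintro _ ⟨M, hM, hMQ, rfl⟩ hc
    apply q.ntr M hM.1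
    have h3 : closure (Orb.ZE (cls Q) (S : Subgroup G) Q \ {zz M}) ≤ Kc Q K₁ M := by
      rw [Subgroup.closure_le]
      rintro x ⟨⟨N, hN, -, rfl⟩, hx⟩
      have hNM : N ≠ M := fun hh => hx (by rw [hh]; rfl)
      exact q.mem_Kc hM hN hNM.symm
    exact h3 hc
  -- the product of the orbit is `w`, so `O = E`
  have hEO : Orb.ZE (cls Q) (S : Subgroup G) Q ⊆ O := by
    obtain ⟨u, hu, hufix, huex, -⟩ := exists_prod O (Set.toFinite O)
      (fun x hx y hy => hVc x (hOV hx) y (hOV hy))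
    have huV : u ∈ V' := (Subgroup.closure_le V').2 hOV hu
    have hu1 : u ≠ 1 := by
      rintro rfl
      have h1 := huex _ hself
      rw [mul_one] at h1
      have hsub : O \ {zz L} ⊆ Orb.ZE (cls Q) (S : Subgroup G) Q \ {zz L} := Set.diff_subset_diff_left hOE
      have h3 := Subgroup.inv_mem _ h1
      rw [inv_inv] at h3
      exact hind _ (hOE hself) (Subgroup.closure_mono hsub h3)
    have huw : u = w₀ := by
      refine (hXZ u (hVT huV) (hV2 u huV) fun t ht => ?_).resolve_left hu1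
      have h1 := hufix (MulAut.conj t).toMonoidHom (MulAut.conj t).injective (by
        rintro _ ⟨s, hs, rfl⟩
        refine ⟨t * s, T.mul_mem ht hs, ?_⟩
        change t * (s * zz L * s⁻¹) * t⁻¹ = t * s * zz L * (t * s)⁻¹
        group)
      have h2 : t * u * t⁻¹ = u := h1
      exact mul_inv_eq_iff_eq_mul.1 h2
    intro e he
    by_contra heO
    have h1 := hex e he
    have h2 : w ∈ closure (Orb.ZE (cls Q) (S : Subgroup G) Q \ {e}) := by
      rw [hww₀, ← huw]
      have hsub : O ⊆ Orb.ZE (cls Q) (S : Subgroup G) Q \ {e} := by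
        intro x hx
        refine ⟨hOE hx, ?_⟩
        rintro rfl
        exact heO hx
      exact Subgroup.closure_mono hsub hu
    have h3 := Subgroup.mul_mem _ h1 (Subgroup.inv_mem _ h2)
    rw [mul_inv_cancel_right] at h3
    exact hind e he (by
      have := Subgroup.inv_mem _ h3
      rwa [inv_inv] at this)
  have hOeq : O = Orb.ZE (cls Q) (S : Subgroup G) Q := hOE.antisymm hEO
  -- `|O| ≤ 3`
  set T₀ := T ⊓ centralizer {zz L} with hT₀
  have hcardO : Nat.card O = T₀.relIndex T := card_orbit T (zz L)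
  have hle3 : Nat.card O ≤ 3 := by
    have h1 := two_pow_le (Set.toFinite O).toFinset (by
      intro x hx
      rw [Set.Finite.coe_toFinset, hOeq]
      exact hind x (hOE ((Set.Finite.mem_toFinset _).1 hx)))
    rw [Set.Finite.coe_toFinset] at h1
    have h2 : (Set.toFinite O).toFinset.card = Nat.card O := by
      rw [Nat.card_coe_set_eq, Set.ncard_eq_toFinset_card _ (Set.toFinite O)]
    rw [h2] at h1
    have h3 : closure O ≤ V' := (Subgroup.closure_le V').2 hOV
    by_contra hcon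
    have h4 : 2 ^ 4 ≤ Nat.card (closure O) := (Nat.pow_le_pow_right (by norm_num) (by omega)).trans h1
    have h5 : closure O = V' := Subgroup.eq_of_le_of_card_ge h3 (by omega)
    apply hLV'
    intro v hv x hx
    rw [← h5] at hv
    have h6 : closure O ≤ centralizer {x} := by
      rw [Subgroup.closure_le]
      intro o ho
      obtain ⟨M, hM, -, rfl⟩ := hOE ho
      by_cases hML : M = L
      · subst hML
        exact mem_centralizer_singleton_iff.2 (b.hyp.comm_zz hM.1 (le_normalizer hx)).symm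
      · exact mem_centralizer_singleton_iff.2 (q.comm_members hM hL hML _ (q.hyp.zz_mem hM.1) x hx)
    exact mem_centralizer_singleton_iff.1 (h6 hv)
  have hle2 : T₀.relIndex T ≤ 2 := by
    obtain ⟨k, hk⟩ : ∃ k, T₀.relIndex T = 2 ^ k := by
      obtain ⟨k, hk⟩ := hT2.index (T₀.subgroupOf T)
      exact ⟨k, hk⟩
    rw [hcardO, hk] at hle3
    rw [hk]
    have h4 : k < 2 := by
      by_contra h5
      have : 2 ^ 2 ≤ 2 ^ k := Nat.pow_le_pow_right (by norm_num) (by omega)
      omega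
    interval_cases k <;> norm_num
  -- the second member
  obtain ⟨M, hM, hMQ, hcov⟩ : ∃ M ∈ OmS (cls Q) (S : Subgroup G), M ≠ Q ∧
      ∀ N ∈ OmS (cls Q) (S : Subgroup G), N ≠ Q → N = L ∨ N = M := by
    by_cases hall : ∀ N ∈ OmS (cls Q) (S : Subgroup G), N ≠ Q → N = L
    · exact ⟨L, hL, hLQ, fun N hN hNQ => Or.inl (hall N hN hNQ)⟩
    push Not at hall
    obtain ⟨M, hM, hMQ, hML⟩ := hall
    refine ⟨M, hM, hMQ, fun N hN hNQ => ?_⟩
    by_contra hcon
    push Not at hcon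
    have hz : ∀ A ∈ OmS (cls Q) (S : Subgroup G), A ≠ Q → zz A ∈ O := fun A hA hAQ => hEO ⟨A, hA, hAQ, rfl⟩
    have hzne : ∀ A ∈ OmS (cls Q) (S : Subgroup G), ∀ B ∈ OmS (cls Q) (S : Subgroup G), A ≠ B → zz A ≠ zz B :=
      fun A hA B hB hAB h => hAB (q.one A hA.1 B hB.1 h)
    have h5 : ({zz L, zz M, zz N} : Finset G).card = 3 := by
      rw [Finset.card_eq_three]
      exact ⟨zz L, zz M, zz N, hzne L hL M hM (Ne.symm hML), hzne L hL N hN (Ne.symm hcon.1),
        hzne M hM N hN (Ne.symm hcon.2), rfl⟩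
    have h6 : (({zz L, zz M, zz N} : Finset G) : Set G) ⊆ O := by
      intro x hx
      simp only [Finset.coe_insert, Finset.coe_singleton, Set.mem_insert_iff, Set.mem_singleton_iff] at hx
      rcases hx with rfl | rfl | rfl
      · exact hself
      · exact hz M hM hMQ
      · exact hz N hN hNQ
    have h7 := Set.ncard_le_ncard h6 (Set.toFinite O)
    rw [Set.ncard_coe_finset, h5, ← Nat.card_coe_set_eq, hcardO] at h7
    omega
  have bM := b.of_mem hM.1
  -- `T₀` centralises `zz M`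
  have hT₀L : T₀ ≤ centralizer {zz L} := inf_le_right
  have hperm : ∀ t ∈ T, (cj t L = L ∨ cj t L = M) ∧ (cj t M = L ∨ cj t M = M) := by
    intro t ht
    have h1 : ∀ A ∈ OmS (cls Q) (S : Subgroup G), A ≠ Q → cj t A = L ∨ cj t A = M := by
      intro A hA hAQ
      refine hcov _ (cj_mem_OmS' b.hyp.conj (le_normalizer ht.1) hA) fun h => hAQ ?_
      rw [← hTQ t ht, cj_inj] at h
      exact h
    exact ⟨h1 L hL hLQ, h1 M hM hMQ⟩
  have hT₀cj : ∀ t ∈ T₀, cj t L = L := fun t ht => mem_normalizer_iff_cj.1 (bL.Qn ht.2)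
  have hT₀M : T₀ ≤ centralizer {zz M} := by
    intro t ht
    have h1 : cj t M = M := by
      rcases (hperm t ht.1).2 with h | h
      · have h2 := hT₀cj t ht
        rw [← h2, cj_inj] at h
        rw [h, h2]
      · exact h
    have h2 := b.hyp.zz_cj hM.1 t
    rw [h1, eq_mul_inv_iff_mul_eq] at h2
    exact mem_centralizer_singleton_iff.2 h2.symm
  -- `N`
  set N := Kc Q K₁ L ⊓ Kc Q K₁ M ⊓ T₀ with hN
  have hNT : N ≤ T := inf_le_right.trans inf_le_left
  have hwL : w ∉ Kc Q K₁ L := by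
    intro h
    apply q.ntr L hL.1
    have h1 := hex _ ⟨L, hL, hLQ, rfl⟩
    have h3 : closure (Orb.ZE (cls Q) (S : Subgroup G) Q \ {zz L}) ≤ Kc Q K₁ L := by
      rw [Subgroup.closure_le]
      rintro x ⟨⟨A, hA, -, rfl⟩, hx⟩
      have hAL : A ≠ L := fun hh => hx (by rw [hh]; rfl)
      exact q.mem_Kc hL hA hAL.symm
    have h4 := (Kc Q K₁ L).mul_mem (h3 h1) ((Kc Q K₁ L).inv_mem h)
    rw [mul_inv_cancel_right] at h4
    exact (inv_mem_iff).1 h4
  have hNn : ∀ t ∈ T, ∀ x ∈ N, t * x * t⁻¹ ∈ N := by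
    intro t ht x hx
    have h1 : ∀ A ∈ cls Q, x ∈ Kc Q K₁ A → t * x * t⁻¹ ∈ Kc Q K₁ (cj t A) := by
      intro A hA hxA
      rw [b.Kc_conj hA]
      exact conj_mem_cj hxA
    have h2 := h1 L hL.1 hx.1.1
    have h3 := h1 M hM.1 hx.1.2
    have h4 : ∀ A ∈ cls Q, x * zz A = zz A * x → t * x * t⁻¹ * zz (cj t A) = zz (cj t A) * (t * x * t⁻¹) := by
      intro A hA hxA
      rw [b.hyp.zz_cj hA]
      calc t * x * t⁻¹ * (t * zz A * t⁻¹) = t * (x * zz A) * t⁻¹ := by group
        _ = t * (zz A * x) * t⁻¹ := by rw [hxA]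
        _ = _ := by group
    have h5 := h4 L hL.1 (mem_centralizer_singleton_iff.1 (hT₀L hx.2))
    have h6 := h4 M hM.1 (mem_centralizer_singleton_iff.1 (hT₀M hx.2))
    have h7 : t * x * t⁻¹ ∈ T := T.mul_mem (T.mul_mem ht (hNT hx)) (T.inv_mem ht)
    rcases (hperm t ht).1 with h8 | h8
    · have h9 : cj t M = M := by
        rcases (hperm t ht).2 with h | h
        · rw [← h8, cj_inj] at h
          rw [h, h8]
        · exact h
      rw [h8] at h2 h5
      rw [h9] at h3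
      exact ⟨⟨h2, h3⟩, h7, mem_centralizer_singleton_iff.2 h5⟩
    · have h9 : cj t M = L := by
        rcases (hperm t ht).2 with h | h
        · exact h
        · have h10 : cj t L = cj t M := by rw [h8, h]
          rw [cj_inj] at h10
          rw [← h10, h8, ← h10]
      rw [h8] at h2
      rw [h9] at h3 h6
      exact ⟨⟨h3, h2⟩, h7, mem_centralizer_singleton_iff.2 h6⟩
  have hNbot : N = ⊥ := by
    by_contra hNb
    have hnor : (N.subgroupOf T).Normal := by
      refine ⟨fun x hx t => ?_⟩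
      rw [mem_subgroupOf] at hx ⊢
      exact hNn t t.2 x hx
    have hnt : N.subgroupOf T ≠ ⊥ := by
      intro h
      apply hNb
      rw [← map_subgroupOf_eq_of_le hNT, h, Subgroup.map_bot]
    have : Group.IsNilpotent T := hT2.isNilpotent
    have h2 := Lib.NormalAbelian.normal_inf_center_ne_bot (N.subgroupOf T) hnt
    obtain ⟨⟨⟨x, hxT⟩, hxN, hxc⟩, hx1⟩ := (Subgroup.ne_bot_iff_exists_ne_one).1 h2
    have hx1' : x ≠ 1 := fun h => hx1 (Subtype.ext (Subtype.ext h))
    have hxN' : x ∈ N := hxN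
    have hxc' : ∀ t ∈ T, t * x = x * t := fun t ht => congrArg Subtype.val (mem_center_iff.1 hxc ⟨t, ht⟩)
    -- a power of `x` is an involution
    obtain ⟨k, hk⟩ := hT2 ⟨x, hxT⟩
    have hk' : x ^ 2 ^ k = 1 := congrArg Subtype.val hk
    obtain ⟨k, hk, hmin⟩ : ∃ k, x ^ 2 ^ k = 1 ∧ ∀ j < k, x ^ 2 ^ j ≠ 1 := by
      have hex' : ∃ k, x ^ 2 ^ k = 1 := ⟨k, hk'⟩
      exact ⟨Nat.find hex', Nat.find_spec hex', fun j hj => Nat.find_min hex' hj⟩
    have hk0 : k ≠ 0 := by
      rintro rfl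
      apply hx1'
      simpa using hk
    obtain ⟨j, rfl⟩ : ∃ j, k = j + 1 := ⟨k - 1, by omega⟩
    have h3 := hmin j (by omega)
    have h4 : x ^ 2 ^ j * x ^ 2 ^ j = 1 := by
      rw [← pow_add, ← two_mul, ← pow_succ', hk]
    have h5 := (hXZ (x ^ 2 ^ j) (T.pow_mem hxT _) h4 fun t ht =>
      ((show Commute t x from hxc' t ht).pow_right _)).resolve_left h3
    apply hwL
    rw [hww₀, ← h5]
    exact (Kc Q K₁ L).pow_mem hxN'.1.1 _
  -- the order of `T`
  have h1 : (⊥ : Subgroup G).relIndex T ≤ 512 := by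
    rw [← hNbot]
    have h2 : N.relIndex T₀ * T₀.relIndex T = N.relIndex T :=
      relIndex_mul_relIndex _ _ _ inf_le_right inf_le_left
    have h3 : N.relIndex T₀ ≤ 256 := by
      rw [hN, inf_relIndex_right]
      calc (Kc Q K₁ L ⊓ Kc Q K₁ M).relIndex T₀ ≤ (Kc Q K₁ L).relIndex T₀ * (Kc Q K₁ M).relIndex T₀ :=
            relIndex_inf_le
        _ ≤ 16 * 16 := Nat.mul_le_mul
            (b.relIndex_le' h8 hK.out hL.1 (hT2.to_le inf_le_left) hT₀L)
            (b.relIndex_le' h8 hK.out hM.1 (hT2.to_le inf_le_left) hT₀M)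
        _ = 256 := by norm_num
    calc N.relIndex T = N.relIndex T₀ * T₀.relIndex T := h2.symm
      _ ≤ 256 * 2 := Nat.mul_le_mul h3 hle2
      _ = 512 := by norm_num
  rw [relIndex_bot_left] at h1
  have h2 := hK.big
  have h3 : Nat.card (T.subgroupOf K₁) = Nat.card T :=
    Nat.card_congr (subgroupOfEquivOfLe (inf_le_right : T ≤ K₁)).toEquiv
  have h4 : 512 < Nat.card (T.subgroupOf K₁) := h2
  omega

end Base

end Cfsg.Agent.OddHalf.Quat
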