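import Cfsg.Agent.OddHalf.Quat.Kill
import Cfsg.Agent.PermutationGroups.AutQuaternion

/-!
# Node Q: the kill for `KZ`

An element of order prime to 6 which commutes with `zz L` centralises `L ≅ Q₈`; and `L` acts faithfully on `K₁`.
-/

set_option autoImplicit false

namespace Cfsg.Agent.OddHalf.Quat

open Subgroup Cfsg Cfsg.Agent.Cit

variable {G : Type*} [Group G]

theorem orderOf_act_dvd {K : Subgroup G} {x : G} (hx : x ∈ normalizer (K : Set G)) :
    orderOf (K.normalizerMonoidHom ⟨x, hx⟩) ∣ orderOf x := by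
  have h1 := orderOf_map_dvd K.normalizerMonoidHom ⟨x, hx⟩
  rwa [Subgroup.orderOf_mk] at h1

/-- an element of order prime to `|Aut K|` normalising `K` centralises `K` -/
theorem comm_of_coprime_aut {K : Subgroup G} {x : G} (hx : x ∈ normalizer (K : Set G))
    (hc : Nat.Coprime (orderOf x) (Nat.card (MulAut K))) : ∀ k ∈ K, x * k = k * x := by
  intro k hk
  have h1 : orderOf (K.normalizerMonoidHom ⟨x, hx⟩) = 1 :=
    Nat.eq_one_of_dvd_coprimes hc (orderOf_act_dvd hx) (orderOf_dvd_natCard _)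
  rw [orderOf_eq_one_iff] at h1
  have h2 : K.normalizerMonoidHom ⟨x, hx⟩ ⟨k, hk⟩ = ⟨k, hk⟩ := by rw [h1]; rfl
  have h3 : x * k * x⁻¹ = k := congrArg Subtype.val h2
  exact mul_inv_eq_iff_eq_mul.1 h3

namespace Base

variable [Finite G] {z : G} {Q K₁ : Subgroup G}

theorem equiv_quat (b : Base z Q K₁) (h8 : Nat.card Q = 8) : Nonempty (Q ≃* QuaternionGroup 2) := by
  obtain ⟨n, ⟨e⟩⟩ := b.gq
  have h1 := Nat.card_congr e.toEquiv
  have : NeZero (2 ^ (n + 1)) := ⟨by positivity⟩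
  rw [h8, Nat.card_eq_fintype_card, QuaternionGroup.card] at h1
  have h2 : 2 ^ (n + 1) = 2 := by omega
  have h3 : n = 0 := by
    have h4 : 2 ^ (n + 1) = 2 ^ 1 := by rw [h2]; norm_num
    have := Nat.pow_right_injective (le_refl 2) h4
    omega
  subst h3
  exact ⟨e⟩

/-- `L ⊓ Q = 1` for different members -/
theorem inf_eq_one (b : Base z Q K₁) {L : Subgroup G} (hL : L ∈ cls Q) (hne : L ≠ Q) {x : G} (hx : x ∈ L)
    (hxQ : x ∈ Q) : x = 1 := by
  have bL := b.of_mem hL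
  refine b.hyp.eq_one_of_mem hL bL.two ?_ hx hxQ
  intro h
  have h1 := b.eq_z h bL.mul_self bL.ne_one
  exact hne (b.qk.one L hL Q (self_mem_cls Q) (by rw [h1, b.zz_eq]))

/-- **`KZ`** -/
theorem kill_z (b : Base z Q K₁) (h8 : Nat.card Q = 8)
    (hn : ∃ L ∈ cls Q, L ≠ Q ∧ ∀ x ∈ Q, ∀ y ∈ L, x * y = y * x) (hK : KZ ↥K₁) : False := by
  obtain ⟨L, hL, hne, hc⟩ := hn
  have q := b.qk
  have bL := b.of_mem hL
  have hzK : zz L ∈ K₁ := by
    have := q.mem Q (self_mem_cls Q) L hL hne.symm hc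
    rwa [b.Kc_self] at this
  have hL8 : Nat.card L = 8 := by
    obtain ⟨g, rfl⟩ := hL
    rw [card_cj, h8]
  obtain ⟨e⟩ := bL.equiv_quat hL8
  have ho : orderOf (⟨zz L, hzK⟩ : K₁) = 2 := by
    rw [Subgroup.orderOf_mk]; exact bL.zo
  obtain ⟨⟨x, hx⟩, hxz, hcop, hno⟩ := hK ⟨zz L, hzK⟩ ho
  have hxz' : x * zz L = zz L * x := congrArg Subtype.val hxz
  rw [Subgroup.orderOf_mk] at hcop
  have hxL : x ∈ normalizer (L : Set G) := bL.Qn (mem_centralizer_singleton_iff.2 hxz')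
  have h24 : Nat.card (MulAut L) = 24 := by
    rw [← PermutationGroups.AutQuaternion.card_mulAut]
    exact Nat.card_congr (MulAut.congr e).toEquiv
  have h1 := comm_of_coprime_aut hxL (by
    rw [h24]
    have h2 : Nat.Coprime (orderOf x) 2 := hcop.coprime_dvd_right (by norm_num)
    have h3 : Nat.Coprime (orderOf x) 3 := hcop.coprime_dvd_right (by norm_num)
    have h4 : (24 : ℕ) = 2 ^ 3 * 3 := by norm_num
    rw [h4]
    exact Nat.Coprime.mul_right (Nat.Coprime.pow_right 3 h2) h3)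
  -- `L` acts on `K₁`
  have hLz : L ≤ centralizer {z} := by
    intro y hy
    rw [mem_centralizer_singleton_iff]
    exact (hc z b.zQ y hy).symm
  have hLK : L ≤ normalizer (K₁ : Set G) := hLz.trans b.Kn
  let f : L →* MulAut K₁ := (K₁.normalizerMonoidHom).comp (inclusion hLK)
  have hf : ∀ (y : L) (k : K₁), ((f y k : K₁) : G) = y * k * (y : G)⁻¹ := fun _ _ => rfl
  have hinj : Function.Injective f := by
    rw [injective_iff_map_eq_one]
    rintro ⟨y, hy⟩ hfy
    have h2 : y ∈ centralizer (K₁ : Set G) := by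
      rw [mem_centralizer_iff]
      intro k hk
      have h3 := hf ⟨y, hy⟩ ⟨k, hk⟩
      rw [hfy] at h3
      have h4 : k = y * k * y⁻¹ := h3
      rw [eq_mul_inv_iff_mul_eq] at h4
      exact h4
    have h3 : y ∈ Q := by rw [← b.cent]; exact ⟨h2, hLz hy⟩
    exact Subtype.ext (b.inf_eq_one hL hne hy h3)
  refine hno f.range ?_ ⟨(MonoidHom.ofInjective hinj).symm.trans e⟩
  rintro _ ⟨⟨y, hy⟩, rfl⟩
  apply Subtype.ext
  rw [hf]
  change y * x * y⁻¹ = x
  rw [← h1 y hy, mul_inv_cancel_right]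

end Base

end Cfsg.Agent.OddHalf.Quat
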