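import Cfsg.Agent.OddHalf.Quat.NoThreeTools

/-!
# Node Q: `NoThree`, criteria

* `of_three_power` : enough to consider automorphisms of 3-power order;
* `of_characteristic` : `K` and a subgroup `H = N_K(H)` which is determined up to conjugation;
* `of_centralizer` : the case `H = C_K(t)`;
* `of_quotient` : passage from `C / Q` to `C`.
-/

set_option autoImplicit false

namespace Cfsg.Agent.OddHalf.Quat.NoThreeCrit

open Subgroup

variable {K : Type*} [Group K]

theorem finite_aut [Finite K] : Finite (MulAut K) :=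
  Finite.of_injective (fun σ : MulAut K => (σ : K → K)) DFunLike.coe_injective

/-- an automorphism `α` with `α ^ 3` inner is inner if its 3-part is inner -/
theorem mem_of_three_part [Finite K] {α : MulAut K} (h3 : α * α * α ∈ (MulAut.conj : K →* MulAut K).range)
    (h : ∀ n : ℕ, (∃ k : ℕ, (α ^ n) ^ (3 ^ k) = 1) → α ^ n ∈ (MulAut.conj : K →* MulAut K).range) : α ∈ (MulAut.conj : K →* MulAut K).range := by
  have hfin := finite_aut (K := K)
  have hpos : orderOf α ≠ 0 := (orderOf_pos α).ne'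
  obtain ⟨k, m, hm, he⟩ := Nat.exists_eq_pow_mul_and_not_dvd hpos 3 (by norm_num)
  have h1 : (α ^ m) ^ (3 ^ k) = 1 := by
    rw [← pow_mul, mul_comm, ← he, pow_orderOf_eq_one]
  exact NoThree.of_pow_apply hm h3 (h m ⟨k, h1⟩)

theorem of_three_power [Finite K] (h : ∀ α : MulAut K, (∃ k : ℕ, α ^ (3 ^ k) = 1) → α ∈ (MulAut.conj : K →* MulAut K).range) : NoThree K :=
  fun _ hα => mem_of_three_part hα fun _ hk => h _ hk

theorem odd_of_three_power {A : Type*} [Group A] {a : A} {k : ℕ} (h : a ^ (3 ^ k) = 1) : Odd (orderOf a) :=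
  Odd.of_dvd_nat (Odd.pow (by decide)) (orderOf_dvd_of_pow_eq_one h)

/-- automorphisms of odd order are inner -/
theorem of_odd [Finite K] (h : ∀ α : MulAut K, Odd (orderOf α) → α ∈ (MulAut.conj : K →* MulAut K).range) : NoThree K :=
  of_three_power fun α ⟨_, hk⟩ => h α (odd_of_three_power hk)

/-- cubes modulo inner automorphisms -/
theorem cube_mem {α β : MulAut K} (h : ∃ g : K, α = MulAut.conj g * β) (h3 : α * α * α ∈ (MulAut.conj : K →* MulAut K).range) :
    β * β * β ∈ (MulAut.conj : K →* MulAut K).range := by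
  have hn := NoThree.normal_inn (K := K)
  obtain ⟨g, rfl⟩ := h
  have hg : MulAut.conj g ∈ (MulAut.conj : K →* MulAut K).range := ⟨g, rfl⟩
  have e : ((MulAut.conj g * β : MulAut K) : MulAut K ⧸ (MulAut.conj : K →* MulAut K).range) =
      (β : MulAut K ⧸ (MulAut.conj : K →* MulAut K).range) := by
    rw [QuotientGroup.mk_mul, (QuotientGroup.eq_one_iff _).2 hg, one_mul]
  rw [← QuotientGroup.eq_one_iff] at h3 ⊢
  rw [QuotientGroup.mk_mul, QuotientGroup.mk_mul, e] at h3
  rw [QuotientGroup.mk_mul, QuotientGroup.mk_mul, h3]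

theorem mem_of_mul {β : MulAut K} {g : K} (h : β ∈ (MulAut.conj : K →* MulAut K).range) :
    MulAut.conj g * β ∈ (MulAut.conj : K →* MulAut K).range :=
  (MulAut.conj : K →* MulAut K).range.mul_mem ⟨g, rfl⟩ h

/-- the restriction of an automorphism to an invariant subgroup of a finite group -/
theorem exists_res [Finite K] {H : Subgroup K} {β : MulAut K} (h : ∀ x ∈ H, β x ∈ H) :
    ∃ γ : MulAut H, ∀ x : H, ((γ x : H) : K) = β x := by
  let f : H →* H := (β.toMonoidHom.comp H.subtype).codRestrict H fun x => h x x.2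
  have hinj : Function.Injective f := by
    intro a b hab
    apply Subtype.ext
    exact β.injective (congrArg (fun y : H => (y : K)) hab)
  exact ⟨MulEquiv.ofBijective f ⟨hinj, Finite.surjective_of_injective hinj⟩, fun x => rfl⟩

/-- **Criterion with a subgroup `H` determined up to conjugation.** -/
theorem of_stable [Finite K] (H : Subgroup K) (hN : ∀ g : K, (∀ x ∈ H, g * x * g⁻¹ ∈ H) → g ∈ H)
    (hst : ∀ α : MulAut K, ∃ g : K, ∀ x ∈ H, g * α x * g⁻¹ ∈ H) (hH : NoThree H)
    (hfix : ∀ δ : MulAut K, (∃ k : ℕ, δ ^ (3 ^ k) = 1) → (∀ x ∈ H, δ x = x) → δ ∈ (MulAut.conj : K →* MulAut K).range) : NoThree K := by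
  intro α hα
  obtain ⟨g, hg⟩ := hst α
  set β : MulAut K := MulAut.conj g * α with hβ
  have hαβ : α = MulAut.conj g⁻¹ * β := by rw [hβ, map_inv, inv_mul_cancel_left]
  have hβ3 : β * β * β ∈ (MulAut.conj : K →* MulAut K).range := cube_mem ⟨g⁻¹, hαβ⟩ hα
  rw [hαβ]
  apply mem_of_mul
  have hβH : ∀ x ∈ H, β x ∈ H := fun x hx => by
    rw [hβ, MulAut.mul_apply, MulAut.conj_apply]
    exact hg x hx
  obtain ⟨γ, hγ⟩ := exists_res hβH
  obtain ⟨c, hc⟩ := hβ3
  have hcH : c ∈ H := by
    apply hN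
    intro x hx
    have h1 : (MulAut.conj c) x = β (β (β x)) := by rw [hc]; rfl
    rw [MulAut.conj_apply] at h1
    rw [h1]
    exact hβH _ (hβH _ (hβH _ hx))
  have hγ3 : γ * γ * γ ∈ (MulAut.conj : H →* MulAut H).range := by
    refine ⟨⟨c, hcH⟩, ?_⟩
    ext x
    have h1 : (MulAut.conj c) (x : K) = β (β (β x)) := by rw [hc]; rfl
    rw [MulAut.conj_apply] at h1
    show c * x * c⁻¹ = ((γ (γ (γ x)) : H) : K)
    rw [hγ, hγ, hγ, h1]
  obtain ⟨a, ha⟩ := hH γ hγ3
  have ha' : ∀ x ∈ H, β x = a * x * (a : K)⁻¹ := by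
    intro x hx
    rw [← hγ ⟨x, hx⟩, ← ha]
    rfl
  set δ : MulAut K := MulAut.conj (a : K)⁻¹ * β with hδ
  have hβδ : β = MulAut.conj (a : K) * δ := by rw [hδ, map_inv, mul_inv_cancel_left]
  have hδ3 : δ * δ * δ ∈ (MulAut.conj : K →* MulAut K).range := cube_mem ⟨_, hβδ⟩ ⟨c, hc⟩
  have hδH : ∀ x ∈ H, δ x = x := by
    intro x hx
    rw [hδ, MulAut.mul_apply, MulAut.conj_apply, ha' x hx]
    group
  rw [hβδ]
  apply mem_of_mul
  refine mem_of_three_part hδ3 fun n hn => hfix _ hn ?_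
  intro x hx
  have : ∀ n : ℕ, (δ ^ n) x = x := by
    intro n
    induction n with
    | zero => rfl
    | succ n ih => rw [pow_succ, MulAut.mul_apply, hδH x hx, ih]
  exact this n

/-- **Criterion with a centralizer.** -/
theorem of_centralizer [Finite K] (t : K) (hst : ∀ α : MulAut K, ∃ g : K, g * α t * g⁻¹ = t)
    (hZ : ∀ g : K, (∀ x : K, x * t = t * x → (g * x * g⁻¹) * t = t * (g * x * g⁻¹)) → g * t = t * g)
    (hH : NoThree (centralizer ({t} : Set K)))
    (hfix : ∀ δ : MulAut K, (∃ k : ℕ, δ ^ (3 ^ k) = 1) → (∀ x, x * t = t * x → δ x = x) → δ ∈ (MulAut.conj : K →* MulAut K).range) :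
    NoThree K := by
  refine of_stable (centralizer ({t} : Set K)) ?_ ?_ hH ?_
  · intro g hg
    rw [mem_centralizer_singleton_iff]
    apply hZ
    intro x hx
    exact mem_centralizer_singleton_iff.1 (hg x (mem_centralizer_singleton_iff.2 hx))
  · intro α
    obtain ⟨g, hg⟩ := hst α
    refine ⟨g, fun x hx => ?_⟩
    rw [mem_centralizer_singleton_iff] at hx ⊢
    have h1 : α x * α t = α t * α x := by rw [← map_mul, hx, map_mul]
    calc g * α x * g⁻¹ * t = g * α x * g⁻¹ * (g * α t * g⁻¹) := by rw [hg]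
      _ = g * (α x * α t) * g⁻¹ := by group
      _ = g * (α t * α x) * g⁻¹ := by rw [h1]
      _ = (g * α t * g⁻¹) * (g * α x * g⁻¹) := by group
      _ = t * (g * α x * g⁻¹) := by rw [hg]
  · intro δ hk hδ
    exact hfix δ hk fun x hx => hδ x (mem_centralizer_singleton_iff.2 hx)

/-- **Passage from `C / Q` to `C`**: `π : C →* L` onto with invariant kernel, `NoThree L`, and the automorphisms which
are trivial on `L` have 2-power order modulo inner ones. -/
theorem of_quotient {C L : Type*} [Group C] [Group L] (π : C →* L) (hπ : Function.Surjective π)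
    (hker : ∀ γ : MulAut C, ∀ c, π c = 1 → π (γ c) = 1) (hL : NoThree L)
    (htriv : ∀ δ : MulAut C, (∀ c, π (δ c) = π c) →
      ∃ n : ℕ, ¬ 3 ∣ n ∧ δ ^ n ∈ (MulAut.conj : C →* MulAut C).range) : NoThree C := by
  intro γ hγ
  -- the induced automorphism
  have hker' : ∀ c, π (γ c) = 1 → π c = 1 := fun c h => by
    have h1 := hker γ⁻¹ _ h
    rwa [MulAut.inv_apply_self] at h1
  have hwd : ∀ (γ' : MulAut C) (c d : C), π c = π d → π (γ' c) = π (γ' d) := by
    intro γ' c d h
    have h1 : π (c * d⁻¹) = 1 := by rw [map_mul, map_inv, h, mul_inv_cancel]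
    have h2 := hker γ' _ h1
    rw [map_mul, map_mul, map_inv, map_inv, mul_inv_eq_one] at h2
    exact h2
  let s : L → C := Function.surjInv hπ
  have hs : ∀ l, π (s l) = l := Function.surjInv_eq hπ
  let α : MulAut L :=
    { toFun := fun l => π (γ (s l))
      invFun := fun l => π (γ⁻¹ (s l))
      left_inv := fun l => by
        show π (γ⁻¹ (s (π (γ (s l))))) = l
        rw [hwd γ⁻¹ _ (γ (s l)) (hs _), MulAut.inv_apply_self, hs]
      right_inv := fun l => by
        show π (γ (s (π (γ⁻¹ (s l))))) = l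
        rw [hwd γ _ (γ⁻¹ (s l)) (hs _), MulAut.apply_inv_self, hs]
      map_mul' := fun a b => by
        rw [← map_mul, ← map_mul]
        apply hwd γ
        rw [hs, map_mul, hs, hs] }
  have hα : ∀ c, α (π c) = π (γ c) := fun c => hwd γ _ _ (hs _)
  obtain ⟨c, hc⟩ := hγ
  have hα3 : α * α * α ∈ (MulAut.conj : L →* MulAut L).range := by
    refine ⟨π c, ?_⟩
    ext l
    obtain ⟨d, rfl⟩ := hπ l
    have h1 : (MulAut.conj c) d = γ (γ (γ d)) := by rw [hc]; rfl
    show π c * π d * (π c)⁻¹ = α (α (α (π d)))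
    rw [hα, hα, hα, ← h1, MulAut.conj_apply, map_mul, map_mul, map_inv]
  obtain ⟨l, hl⟩ := hL α hα3
  obtain ⟨a, rfl⟩ := hπ l
  set δ : MulAut C := MulAut.conj a⁻¹ * γ with hδ
  have hγδ : γ = MulAut.conj a * δ := by rw [hδ, map_inv, mul_inv_cancel_left]
  have hδπ : ∀ x, π (δ x) = π x := by
    intro x
    have h1 : π (γ x) = π a * π x * (π a)⁻¹ := by rw [← hα, ← hl]; rfl
    rw [hδ, MulAut.mul_apply, MulAut.conj_apply, map_mul, map_mul, h1, map_inv, inv_inv]
    group
  obtain ⟨n, hn, hδn⟩ := htriv δ hδπ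
  have hδ3 : δ * δ * δ ∈ (MulAut.conj : C →* MulAut C).range := cube_mem ⟨a, hγδ⟩ ⟨c, hc⟩
  rw [hγδ]
  exact mem_of_mul (NoThree.of_pow_apply hn hδ3 hδn)

end Cfsg.Agent.OddHalf.Quat.NoThreeCrit
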