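import Cfsg.Agent.OddHalf.Quat.Tau0
import Cfsg.Agent.SylowSp4.Hyps
import Cfsg.Agent.OddHalf.Small.Plug
import Cfsg.Agent.OddHalf.Soft
import Cfsg.Agent.Cit.Nil.End

/-!
# Node Q: `|Om(S)| = 1` does not occur

`OneExt` : the external inputs of THEOREM N1 (`Cit.Nil.End.main`): S1173, S1171 (Goldschmidt), S0506, S0507, S0523,
S1742.
`not_one` : in a counterexample to S1765 the class of a quaternion normal 2-subgroup `Q` of `C(z)` does not satisfy
`One (cls Q)`.
-/

set_option autoImplicit false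
set_option linter.style.haveILetI false

namespace Cfsg.Agent.OddHalf.Quat

open Subgroup Cfsg Cfsg.Agent.Cit Cfsg.Agent.OddHalf.Iface

universe u

/-- the external inputs of THEOREM N1 -/
structure OneExt : Prop where
  /-- S1173 -/
  p1173 : ∀ (G : Type u) [Group G] [Finite G], oddCore G = ⊥ → OneF.H1173 G
  /-- S1171 -/
  p1171 : ∀ (G : Type u) [Group G] [Finite G], OneF.H1171 G
  p0506 : Nil.NoHomo.S0506Stmt.{u}
  p0507 : ∀ (G : Type u) [Group G] [Finite G] [IsSimpleGroup G], Nil.Ident.St0507 G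
  p0523 : ∀ (G : Type u) [Group G] [Finite G] [IsSimpleGroup G], Nil.Ident.St0523 G
  p1742 : ∀ (G : Type u) [Group G] [Finite G] [IsSimpleGroup G], Nil.Ident.St1742 G

theorem nilOm_of_two {G : Type*} [Group G] [Finite G] {Q : Subgroup G} (h : IsPGroup 2 Q) : Nil.NilOm (cls Q) := by
  rintro _ ⟨g, rfl⟩ R hR
  have h2 : IsPGroup 2 ↥(cj g Q) := h.map _
  have h3 : R = cj g Q := hR.eq_of_le hR.1 le_rfl h2
  rw [← h3]
  exact le_sup_right

/-- **`|Om(S)| = 1` does not occur** -/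
theorem not_one (hGW : SylowSp4.Hyps.GW.{u}) (E : OneExt.{u}) (R : Small.Excl.Rows) {G : Type u} [Group G]
    (C : Ctx G) {z : G} {Q : Subgroup G} (b : Base0 z Q) : ¬ One (cls Q) := by
  haveI := C.fin
  haveI := C.simple
  intro h1
  have hna := C.na
  have e : ↥(generalizedFittingSubgroup G) ≃* G := Soft.fstarEquiv hna
  have hs : IsSimpleGroup ↥(generalizedFittingSubgroup G) := Known.isSimple_congr e.symm inferInstance
  have hna' : ¬ IsMulCommutative ↥(generalizedFittingSubgroup G) := by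
    intro h
    apply hna
    refine ⟨⟨fun a b => ?_⟩⟩
    obtain ⟨a, rfl⟩ := e.surjective a
    obtain ⟨b, rfl⟩ := e.surjective b
    rw [← map_mul, ← map_mul, h.is_comm.comm a b]
  have heven : 2 ∣ Nat.card ↥(generalizedFittingSubgroup G) := by
    rw [Nat.card_congr e.toEquiv, ← b.zo]
    exact orderOf_dvd_natCard z
  have hO : oddCore G = ⊥ := Soft.oddCore_eq_bot (even_iff_two_dvd.2 (by
    rw [← b.zo]
    exact orderOf_dvd_natCard z))
  have h0483 : Nil.Ident.St0483 ↥(generalizedFittingSubgroup G) := by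
    intro S n hn2 hS
    haveI : Group.IsPerfect ↥(generalizedFittingSubgroup G) := ⟨Nil.End.commutator_eq_top hs hna'⟩
    exact hGW _ S n hn2 hS
  have key := Nil.End.main hs hna' heven (E.p1173 G hO) (E.p1171 G) E.p0506 h0483
    (E.p0507 ↥(generalizedFittingSubgroup G)) (E.p0523 ↥(generalizedFittingSubgroup G))
    (E.p1742 ↥(generalizedFittingSubgroup G)) h1 ⟨Q, self_mem_cls Q⟩ (nilOm_of_two b.two)
  apply C.nc
  rcases key with ⟨p, hp, hp2, h⟩ | ⟨⟨f⟩⟩ | ⟨⟨f⟩⟩
  · exact Small.Plug.of_quat R C.notTwo (Or.inl ⟨p, hp, hp2, Small.Plug.isLieTypeChar_congr e h⟩)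
  · exact Small.Plug.of_quat R C.notTwo (Or.inr (Or.inl ⟨e.symm.trans f⟩))
  · exact Small.Plug.of_quat R C.notTwo (Or.inr (Or.inr (Or.inl ⟨e.symm.trans f⟩)))

end Cfsg.Agent.OddHalf.Quat
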