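import Cfsg.Agent.OddHalf.Quat.Big
import Cfsg.Agent.KFacts.RgdAutCent
import Cfsg.Agent.KFacts.RgdAutFacts

/-!
# Node Q: `KBig U` over a root group datum of characteristic 2

`U = Sup X Pos`. If no root group has an element `≠ 1` centralised by `T` and the central involutions of `U` lie in
`[U,U,U]`, then `KBig U`.
-/

set_option autoImplicit false
set_option linter.unusedSectionVars false

namespace Cfsg.Agent.OddHalf.Quat.OfRgd

open CoxeterSystem Cfsg.Agent.ChevalleyStructure.CoxeterGeom Cfsg.Agent.Tits.Roots Cfsg.Agent.Tits.Core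
  Cfsg.Agent.Tits.RootComb Cfsg.Agent.Tits.Exchange Cfsg.Agent.Nodes.Reps Cfsg.Agent.Nodes.BNOf
  Cfsg.Agent.Nodes.StabComb Cfsg.Agent.Nodes.Bruhat Cfsg.Agent.Nodes.OppDec Cfsg.Agent.Nodes.LeviDec
  Cfsg.Agent.Nodes.NormX Cfsg.Agent.Nodes.Coroot Cfsg.Agent.KFacts.RgdPar Cfsg.Agent.KFacts.RgdSL
  Cfsg.Agent.KFacts.RgdTI Cfsg.Agent.KFacts.RgdCent Cfsg.Agent.KFacts.RgdOdd Cfsg.Agent.KFacts.RgdEx
  Cfsg.Agent.KFacts.RgdVJ Cfsg.Agent.KFacts.RgdCharP Cfsg.Agent.KFacts.RgdAutFacts Cfsg.Agent.KFacts.RgdAutCent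
open scoped commutatorElement

variable {I W Y : Type*} [Fintype I] [DecidableEq I] [Group W] [Group Y] {M : CoxeterMatrix I}
  {cs : CoxeterSystem M W} {A : I → I → ℤ} {h : IsCartan M A} {T : Subgroup Y} {n : I → Y}
  {X : (I → ℤ) → Subgroup Y}

theorem kbig (R : RGD cs h 2 T n X) [Finite W] [Finite Y] (hG : GG cs h T X = ⊤)
    (hCT : ∀ x, IsRoot cs h x → ∀ z ∈ X x, (∀ t ∈ T, t * z = z * t) → z = 1)
    (h3 : ∀ x ∈ RGD.Sup X (RGD.Pos cs h), x * x = 1 → (∀ u ∈ RGD.Sup X (RGD.Pos cs h), u * x = x * u) →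
      x ∈ ⁅⁅RGD.Sup X (RGD.Pos cs h), RGD.Sup X (RGD.Pos cs h)⁆, RGD.Sup X (RGD.Pos cs h)⁆) :
    ∃ U : Sylow 2 Y, KBig (U : Subgroup Y) := by
  have : Fact (Nat.Prime 2) := ⟨Nat.prime_two⟩
  obtain ⟨S, hS⟩ := exists_sylow R hG
  refine ⟨S, ?_⟩
  rw [hS]
  refine KBig.of_three R.isPGroup_Upos (fun x hx => h3 x hx.1 hx.2.1 hx.2.2) fun w hw hw1 => ?_
  by_contra hcon
  push Not at hcon
  refine hw1 (cent_U_T R hCT hw.1 fun t ht => ?_)
  exact (hcon t (R.T_le_normalizer_U ht)).symm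

end Cfsg.Agent.OddHalf.Quat.OfRgd
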