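import Cfsg.Agent.OddHalf.Quat.KF

/-!
# Node Q: `KBig U` from the action of `N_K(U)` (helper341)

`KBig.of_torus`: `U` a Sylow 2-subgroup of `K`, `X = Ω₁(Z(U))` generated by subgroups `X i` on which `N_K(U)` is
transitive and which are the fixed points of an element of `N_K(U)` on `X`; if every element of odd order of
`N_K(U)`, nontrivial on `X`, centralises no subgroup of index `≤ 16` of `U`, and no involution of `Z(U)` is central in
`N_K(U)`, then `KBig U`.
-/

set_option autoImplicit false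
set_option linter.style.haveILetI false

namespace Cfsg.Agent.OddHalf.Quat

open Subgroup

variable {K : Type*} [Group K]

/-- `Ω₁(Z(U))` as a subgroup -/
def XS (U : Subgroup K) : Subgroup K where
  carrier := XZ U
  one_mem' := ⟨one_mem _, mul_one _, fun u _ => by rw [mul_one, one_mul]⟩
  mul_mem' := by
    rintro a b ⟨ha, ha2, hac⟩ ⟨hb, hb2, hbc⟩
    refine ⟨mul_mem ha hb, ?_, ?_⟩
    · calc a * b * (a * b) = a * (b * a) * b := by group
        _ = a * (a * b) * b := by rw [hac b hb]
        _ = (a * a) * (b * b) := by group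
        _ = 1 := by rw [ha2, hb2, mul_one]
    · intro u hu
      calc u * (a * b) = (u * a) * b := by group
        _ = a * (u * b) := by rw [hac u hu]; group
        _ = a * b * u := by rw [hbc u hu]; group
  inv_mem' := by
    rintro a ⟨ha, ha2, hac⟩
    have h1 : a⁻¹ = a := inv_eq_of_mul_eq_one_left ha2
    show a⁻¹ ∈ XZ U
    rw [h1]; exact ⟨ha, ha2, hac⟩

theorem mem_XS {U : Subgroup K} {x : K} : x ∈ XS U ↔ x ∈ XZ U := Iff.rfl

/-- `N(U)` acts on `XZ U` -/
theorem conj_mem_XZ {U : Subgroup K} {r : K} (hr : r ∈ normalizer (U : Set K)) {x : K} (hx : x ∈ XZ U) :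
    r * x * r⁻¹ ∈ XZ U := by
  obtain ⟨h1, h2, h3⟩ := hx
  refine ⟨(mem_normalizer_iff.1 hr x).1 h1, ?_, ?_⟩
  · calc r * x * r⁻¹ * (r * x * r⁻¹) = r * (x * x) * r⁻¹ := by group
      _ = 1 := by rw [h2]; group
  · intro u hu
    have h4 : r⁻¹ * u * r ∈ U := by
      have := (mem_normalizer_iff.1 (inv_mem hr) u).1 hu
      rwa [inv_inv] at this
    calc u * (r * x * r⁻¹) = r * ((r⁻¹ * u * r) * x) * r⁻¹ := by group
      _ = r * (x * (r⁻¹ * u * r)) * r⁻¹ := by rw [h3 _ h4]
      _ = r * x * r⁻¹ * u := by group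

/-- a 2-automorphism acting on a finite group with elements of order 2 has a nontrivial fixed point -/
theorem exists_fix [Finite K] {α : MulAut K} (hα : IsPGroup 2 (zpowers α)) {Y : Subgroup K}
    (hY : ∀ x ∈ Y, α x ∈ Y) (h2 : ∀ x ∈ Y, x * x = 1) (hne : ∃ x ∈ Y, x ≠ 1) : ∃ x ∈ Y, x ≠ 1 ∧ α x = x := by
  classical
  haveI : Fintype Y := Fintype.ofFinite _
  haveI : Fact (Nat.Prime 2) := ⟨Nat.prime_two⟩
  obtain ⟨n, hn⟩ := hα ⟨α, mem_zpowers α⟩
  have hn' : α ^ 2 ^ n = 1 := congrArg Subtype.val hn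
  let f : Y → Y := fun y => ⟨α y, hY y y.2⟩
  have hf : Function.Injective f := fun a b h => Subtype.ext (α.injective (congrArg Subtype.val h))
  let σ : Equiv.Perm Y := Equiv.ofBijective f (Finite.injective_iff_bijective.1 hf)
  have hσ : ∀ (m : ℕ) (y : Y), ((σ ^ m) y : K) = (α ^ m) y := by
    intro m
    induction m with
    | zero => intro y; rfl
    | succ m ih =>
      intro y
      rw [pow_succ, pow_succ, Equiv.Perm.mul_apply, ih]
      rfl
  have hσ1 : σ ^ 2 ^ n = 1 := by
    ext y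
    rw [hσ, hn']; rfl
  have hdvd : 2 ∣ Fintype.card Y := by
    obtain ⟨x, hx, hx1⟩ := hne
    rw [← Nat.card_eq_fintype_card]
    have h1 : orderOf (⟨x, hx⟩ : Y) = 2 :=
      orderOf_eq_prime (by rw [pow_two]; exact Subtype.ext (h2 x hx)) (fun h => hx1 (congrArg Subtype.val h))
    rw [← h1]
    exact orderOf_dvd_natCard _
  obtain ⟨b, hb, hb1⟩ := Equiv.Perm.exists_fixed_point_of_prime' (p := 2) (n := n) hdvd hσ1 (a := 1)
    (Subtype.ext (map_one α))
  exact ⟨b, b.2, fun h => hb1 (Subtype.ext h), congrArg Subtype.val hb⟩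

/-- an element of `N(U)` whose odd part centralises `x ∈ XZ U` centralises `x` -/
theorem comm_of_odd_part [Finite K] (U : Sylow 2 K) {b : K} (hb : b ∈ normalizer ((U : Subgroup K) : Set K)) :
    ∃ n, Odd (orderOf (b ^ n)) ∧ ∀ x ∈ XZ (U : Subgroup K), b ^ n * x = x * b ^ n → b * x = x * b := by
  haveI : Fact (Nat.Prime 2) := ⟨Nat.prime_two⟩
  have h0 : orderOf b ≠ 0 := (orderOf_pos b).ne'
  obtain ⟨k, m, hm, hkm⟩ := Nat.exists_eq_two_pow_mul_odd h0
  refine ⟨2 ^ k, ?_, ?_⟩
  · rw [orderOf_pow' b (by positivity), hkm, Nat.gcd_eq_right (Dvd.intro m rfl),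
      Nat.mul_div_cancel_left m (by positivity)]
    exact hm
  · intro x hx h
    -- `b ^ m ∈ U`
    have h1 : b ^ m ∈ (U : Subgroup K) := by
      have h2 : IsPGroup 2 (zpowers (b ^ m)) := by
        rw [IsPGroup.iff_card]
        refine ⟨k, ?_⟩
        rw [Nat.card_zpowers, orderOf_pow' b hm.pos.ne', hkm, Nat.gcd_eq_right (Dvd.intro_left (2 ^ k) rfl),
          Nat.mul_div_cancel _ hm.pos]
      have h3 := h2.inf_normalizer_sylow U
      have h4 : b ^ m ∈ zpowers (b ^ m) ⊓ normalizer ((U : Subgroup K) : Set K) :=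
        ⟨mem_zpowers _, pow_mem hb m⟩
      have h5 : b ^ m ∈ zpowers (b ^ m) ⊓ (U : Subgroup K) := by
        rw [← h3]; exact h4
      exact h5.2
    have h2 : b ^ m * x = x * b ^ m := hx.2.2 _ h1
    have hc : Nat.Coprime (2 ^ k) m := Nat.Coprime.pow_left k ((Nat.coprime_two_left).2 hm)
    have h3 : b = (b ^ 2 ^ k) ^ (Nat.gcdA (2 ^ k) m) * (b ^ m) ^ (Nat.gcdB (2 ^ k) m) := by
      have h4 := Nat.gcd_eq_gcd_ab (2 ^ k) m
      rw [hc] at h4
      rw [← zpow_natCast, ← zpow_natCast b m, ← zpow_mul, ← zpow_mul, ← zpow_add, ← h4]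
      simp
    have e1 : Commute (b ^ 2 ^ k) x := h
    have e2 : Commute (b ^ m) x := h2
    have e3 : Commute b x := by
      rw [h3]
      exact (e1.zpow_left _).mul_left (e2.zpow_left _)
    exact e3

/-- **`KBig` from the action of `N_K(U)`.** -/
theorem KBig.of_torus [Finite K] (U : Sylow 2 K) {ι : Type*} (X : ι → Subgroup K)
    (hX : ∀ i, ∀ x ∈ X i, x ∈ XZ (U : Subgroup K)) (hgen : ∀ x ∈ XZ (U : Subgroup K), x ∈ ⨆ i, X i)
    (htr : ∀ i, ∀ x ∈ X i, ∀ y ∈ X i, x ≠ 1 → y ≠ 1 →
      ∃ r ∈ normalizer ((U : Subgroup K) : Set K), r * x * r⁻¹ = y)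
    (hsep : ∀ i, ∃ r ∈ normalizer ((U : Subgroup K) : Set K), ∀ x ∈ XZ (U : Subgroup K), r * x = x * r ↔ x ∈ X i)
    (hmv : ∀ w ∈ XZ (U : Subgroup K), w ≠ 1 → ∃ r ∈ normalizer ((U : Subgroup K) : Set K), r * w ≠ w * r)
    (hbig : ∀ b ∈ normalizer ((U : Subgroup K) : Set K), Odd (orderOf b) →
      (∃ x ∈ XZ (U : Subgroup K), b * x ≠ x * b) → ∀ C : Subgroup K, C ≤ U → (∀ u ∈ C, b * u = u * b) →
        16 < C.relIndex U) : KBig (U : Subgroup K) where
  mv := hmv
  act := by
    intro α hα hαU hx C hCU hC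
    by_contra hle
    push Not at hle
    -- `α` on `U` and its normalizer
    have hαU' : ∀ u ∈ (U : Subgroup K), ∃ w ∈ (U : Subgroup K), α w = u := by
      intro u hu
      let f : ↥(U : Subgroup K) → ↥(U : Subgroup K) := fun y => ⟨α y, hαU y y.2⟩
      have hf : Function.Injective f := fun a b h => Subtype.ext (α.injective (congrArg Subtype.val h))
      obtain ⟨w, hw⟩ := (Finite.injective_iff_surjective.1 hf) ⟨u, hu⟩
      exact ⟨w, w.2, congrArg Subtype.val hw⟩
    have hαN : ∀ r ∈ normalizer ((U : Subgroup K) : Set K), α r ∈ normalizer ((U : Subgroup K) : Set K) := by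
      intro r hr
      apply mem_normalizer_fintype
      intro u hu
      obtain ⟨w, hw, rfl⟩ := hαU' u hu
      rw [← map_inv, ← map_mul, ← map_mul]
      exact hαU _ ((mem_normalizer_iff.1 hr w).1 hw)
    have hαX : ∀ x ∈ XZ (U : Subgroup K), α x ∈ XZ (U : Subgroup K) := by
      rintro x ⟨h1, h2, h3⟩
      refine ⟨hαU x h1, by rw [← map_mul, h2, map_one], ?_⟩
      intro u hu
      obtain ⟨w, hw, rfl⟩ := hαU' u hu
      rw [← map_mul, h3 w hw, map_mul]
    -- `α(r) r⁻¹` is trivial on `X`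
    have key1 : ∀ r ∈ normalizer ((U : Subgroup K) : Set K), ∀ x ∈ XZ (U : Subgroup K),
        (α r * r⁻¹) * x = x * (α r * r⁻¹) := by
      intro r hr x hx
      have hb : α r * r⁻¹ ∈ normalizer ((U : Subgroup K) : Set K) := mul_mem (hαN r hr) (inv_mem hr)
      set b := α r * r⁻¹ with hbdef
      set D : Subgroup K := C ⊓ C.map (MulAut.conj r).toMonoidHom with hD
      have hDU : D ≤ U := inf_le_left.trans hCU
      have hDb : ∀ u ∈ D, b * u = u * b := by
        rintro u ⟨hu, w, hw, hwu⟩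
        have h1 : r * w * r⁻¹ = u := hwu
        have h2 : w = r⁻¹ * u * r := by rw [← h1]; group
        have h3 : α w = w := hC w hw
        have h4 : α u = u := hC u hu
        have h5 : α r * w * (α r)⁻¹ = u := by rw [← h3, ← map_inv, ← map_mul, ← map_mul, h1, h4]
        have h6 : b * u * b⁻¹ = u := by
          calc b * u * b⁻¹ = α r * (r⁻¹ * u * r) * (α r)⁻¹ := by rw [hbdef]; group
            _ = u := by rw [← h2, h5]
        exact mul_inv_eq_iff_eq_mul.1 h6
      have hmap : (U : Subgroup K).map (MulAut.conj r).toMonoidHom = U := by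
        ext y
        constructor
        · rintro ⟨w, hw, rfl⟩
          exact (mem_normalizer_iff.1 hr w).1 hw
        · intro hy
          refine ⟨r⁻¹ * y * r, ?_, ?_⟩
          · have := (mem_normalizer_iff.1 (inv_mem hr) y).1 hy
            rwa [inv_inv] at this
          · show r * (r⁻¹ * y * r) * r⁻¹ = y
            group
      have hrel : (C.map (MulAut.conj r).toMonoidHom).relIndex U = C.relIndex U := by
        conv_lhs => rw [← hmap]
        exact relIndex_map_map_of_injective _ _ (MulAut.conj r).injective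
      have hDle : D.relIndex U ≤ 16 := by
        refine relIndex_inf_le.trans ?_
        rw [hrel]
        calc C.relIndex U * C.relIndex U ≤ 4 * 4 := Nat.mul_le_mul hle hle
          _ = 16 := rfl
      obtain ⟨n, hn, hn'⟩ := comm_of_odd_part U hb
      apply hn' x hx
      by_contra hne
      have h1 := hbig (b ^ n) (pow_mem hb n) hn ⟨x, hx, hne⟩ D hDU (fun u hu => by
        have h2 : Commute b u := hDb u hu
        exact (h2.pow_left n))
      omega
    -- `α` commutes with the action of `N(U)` on `X`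
    have key2 : ∀ r ∈ normalizer ((U : Subgroup K) : Set K), ∀ x ∈ XZ (U : Subgroup K),
        α (r * x * r⁻¹) = r * α x * r⁻¹ := by
      intro r hr x hx
      have h1 := key1 r hr (r * α x * r⁻¹) (conj_mem_XZ hr (hαX x hx))
      calc α (r * x * r⁻¹) = (α r * r⁻¹) * (r * α x * r⁻¹) * (α r * r⁻¹)⁻¹ := by
            rw [map_mul, map_mul, map_inv]; group
        _ = r * α x * r⁻¹ := by rw [h1]; group
    -- `X i` is invariant
    have key3 : ∀ i, ∀ x ∈ X i, α x ∈ X i := by
      intro i x hx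
      obtain ⟨r, hr, hrx⟩ := hsep i
      have h1 := (hrx x (hX i x hx)).2 hx
      have h2 := key2 r hr x (hX i x hx)
      have h3 : r * x * r⁻¹ = x := by rw [h1]; group
      rw [h3] at h2
      apply (hrx (α x) (hαX x (hX i x hx))).1
      calc r * α x = (r * α x * r⁻¹) * r := by group
        _ = α x * r := by rw [← h2]
    -- `α` is trivial on `X i`
    have key4 : ∀ i, ∀ x ∈ X i, α x = x := by
      intro i x hx
      by_cases hx1 : x = 1
      · rw [hx1, map_one]
      obtain ⟨y, hy, hy1, hαy⟩ := exists_fix hα (Y := X i) (key3 i) (fun y hy => (hX i y hy).2.1) ⟨x, hx, hx1⟩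
      obtain ⟨r, hr, rfl⟩ := htr i y hy x hx hy1 hx1
      rw [key2 r hr y (hX i y hy), hαy]
    obtain ⟨x, hxX, hxα⟩ := hx
    apply hxα
    let N : Subgroup K :=
      { carrier := {x | α x = x}
        one_mem' := map_one α
        mul_mem' := fun {a b} ha hb => by
          show α (a * b) = a * b
          rw [map_mul, show α a = a from ha, show α b = b from hb]
        inv_mem' := fun {a} ha => by
          show α a⁻¹ = a⁻¹
          rw [map_inv, show α a = a from ha] }
    have h1 : (⨆ i, X i) ≤ N := iSup_le fun i y hy => key4 i y hy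
    exact h1 (hgen x hxX)

end Cfsg.Agent.OddHalf.Quat
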