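import Cfsg.Agent.Cit.WeakCl

/-!
# Node Q (quaternion centralizer): the fixed product

`exists_prod`: the product of a finite set of commuting elements is fixed by every automorphism permuting the set.

`Orb.exists_w`: `Hyp Om`, `S` Sylow in `G`, `K ∈ Om(S)` the only member with its involution. There is `w` in the group
generated by the `zz L`, `L ∈ Om(S)`, `L ≠ K`, such that: if `D(S)` centralises a set `A ∋ w` and `r ∈ C(zz K)` maps
`A` into itself, then `r` commutes with `w`.
-/

set_option autoImplicit false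

namespace Cfsg.Agent.OddHalf.Quat

open Subgroup Cfsg Cfsg.Agent.Cit

theorem exists_prod {G : Type*} [Group G] (E : Set G) (hE : E.Finite)
    (hc : ∀ x ∈ E, ∀ y ∈ E, x * y = y * x) :
    ∃ w ∈ closure E, (∀ f : G →* G, Function.Injective f → (∀ x ∈ E, f x ∈ E) → f w = w) ∧
      (∀ x ∈ E, x⁻¹ * w ∈ closure (E \ {x})) ∧ ((∃ x, E = {x}) → w ∈ E) := by
  classical
  set F : Finset G := hE.toFinset with hF
  have hmem : ∀ x, x ∈ F ↔ x ∈ E := fun x => hE.mem_toFinset
  have hcomm : (F : Set G).Pairwise (Function.onFun Commute (id : G → G)) := by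
    intro x hx y hy _
    exact hc x ((hmem x).1 hx) y ((hmem y).1 hy)
  refine ⟨F.noncommProd id hcomm, ?_, ?_, ?_, ?_⟩
  · exact Subgroup.noncommProd_mem _ _ fun x hx => subset_closure ((hmem x).1 hx)
  · intro f hf hfE
    rw [Finset.map_noncommProd]
    have h1 : F.val.map f = F.val := by
      have h2 : (F.image f).val = F.val.map f := Finset.image_val_of_injOn hf.injOn
      rw [← h2]
      congr 1
      apply Finset.eq_of_subset_of_card_le
      · intro y hy
        obtain ⟨x, hx, rfl⟩ := Finset.mem_image.1 hy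
        exact (hmem _).2 (hfE x ((hmem x).1 hx))
      · rw [Finset.card_image_of_injective _ hf]
    have h3 : ∀ (s t : Multiset G) (hs) (ht), s = t → s.noncommProd hs = t.noncommProd ht := by
      rintro s t hs ht rfl
      rfl
    unfold Finset.noncommProd
    apply h3
    simpa using h1
  · intro x hx
    have h1 : F.noncommProd id hcomm = x * (F.erase x).noncommProd id
        (fun a ha b hb => hcomm (Finset.mem_of_mem_erase ha) (Finset.mem_of_mem_erase hb)) := by
      have hne : x ∉ F.erase x := Finset.notMem_erase x F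
      have h2 : insert x (F.erase x) = F := Finset.insert_erase ((hmem x).2 hx)
      have h3 := Finset.noncommProd_insert_of_notMem (F.erase x) x (id : G → G)
        (by rw [h2]; exact hcomm) hne
      rw [← Finset.noncommProd_congr h2 (fun _ _ => rfl) (by rw [h2]; exact hcomm)] 
      exact h3
    rw [h1, inv_mul_cancel_left]
    refine Subgroup.noncommProd_mem _ _ fun y hy => subset_closure ?_
    obtain ⟨h4, h5⟩ := Finset.mem_erase.1 hy
    exact ⟨(hmem y).1 h5, h4⟩
  · rintro ⟨x, hx⟩
    have h1 : F = {x} := by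
      ext y
      rw [hmem, hx]; simp
    rw [Finset.noncommProd_congr h1 (fun _ _ => rfl) hcomm, Finset.noncommProd_singleton, hx]
    rfl

namespace Orb

variable {G : Type*} [Group G] [Finite G] {Om : Set (Subgroup G)}

/-- the involutions of the other members of `Om(S)` -/
def ZE (Om : Set (Subgroup G)) (S K : Subgroup G) : Set G := {x | ∃ L ∈ OmS Om S, L ≠ K ∧ x = zz L}

theorem exists_w (h : Hyp Om) (S : Sylow 2 G) {K : Subgroup G} (hK : K ∈ OmS Om (S : Subgroup G))
    (h1 : ∀ L ∈ Om, zz L = zz K → L = K) :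
    ∃ w ∈ closure (ZE Om (S : Subgroup G) K),
      (∀ A : Set G, w ∈ A → DD Om (S : Subgroup G) ≤ centralizer A → ∀ r : G, r * zz K = zz K * r →
        (∀ a ∈ A, r * a * r⁻¹ ∈ A) → r * w = w * r) ∧
      (∀ x ∈ ZE Om (S : Subgroup G) K, x⁻¹ * w ∈ closure (ZE Om (S : Subgroup G) K \ {x})) ∧
      ((∃ x, ZE Om (S : Subgroup G) K = {x}) → w ∈ ZE Om (S : Subgroup G) K) := by
  have hcomm : ∀ x ∈ ZE Om (S : Subgroup G) K, ∀ y ∈ ZE Om (S : Subgroup G) K, x * y = y * x := by
    rintro x ⟨L, hL, -, rfl⟩ y ⟨M, hM, -, rfl⟩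
    by_cases hLM : L = M
    · rw [hLM]
    · exact h.comm S.isPGroup' hL hM hLM (h.zz_mem_inf S.isPGroup' hL) (h.zz_mem_inf S.isPGroup' hM)
  obtain ⟨w, hw, hfix, hex, hone⟩ := exists_prod (ZE Om (S : Subgroup G) K) (Set.toFinite _) hcomm
  refine ⟨w, hw, ?_, hex, hone⟩
  intro A hwA hDA r hr hrA
  obtain ⟨c, hc, hn⟩ := control h.conj S (A := insert (zz K) A) (g := r) (by
      intro d hd
      rw [mem_centralizer_iff]
      rintro a (rfl | ha)
      · exact (mem_centralizer_singleton_iff.1 (h.DD_le_centralizer S.isPGroup' hK hd)).symm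
      · exact mem_centralizer_iff.1 (hDA hd) a ha) (by
      rintro a (rfl | ha) d hd
      · rw [hr, mul_inv_cancel_right]
        exact h.DD_le_centralizer S.isPGroup' hK hd
      · rw [mem_centralizer_singleton_iff]
        exact (mem_centralizer_iff.1 (hDA hd) _ (hrA a ha)).symm)
  rw [mem_centralizer_iff] at hc
  have hcK : zz K * c = c * zz K := hc _ (Set.mem_insert _ _)
  have hcw : w * c = c * w := hc _ (Set.mem_insert_of_mem _ hwA)
  set n := r * c with hn'
  have hnK : n * zz K * n⁻¹ = zz K := by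
    rw [mul_inv_eq_iff_eq_mul, hn']
    calc r * c * zz K = r * (zz K * c) := by rw [hcK]; group
      _ = (r * zz K) * c := by group
      _ = zz K * (r * c) := by rw [hr]; group
  have hnD : cj n (DD Om (S : Subgroup G)) ≤ (S : Subgroup G) := by
    rw [mem_normalizer_iff_cj.1 hn]; exact DD_le
  have h5 : ∀ x ∈ ZE Om (S : Subgroup G) K, n * x * n⁻¹ ∈ ZE Om (S : Subgroup G) K := by
    rintro x ⟨L, hL, hne, rfl⟩
    refine ⟨cj n L, cj_mem_of_cj_DD_le h.conj hnD hL, ?_, (h.zz_cj hL.1 n).symm⟩
    intro hh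
    apply hne
    have h6 : cj n K = K := h1 _ (h.conj K hK.1 n) (by rw [h.zz_cj hK.1, hnK])
    exact cj_inj.1 (hh.trans h6.symm)
  have h7 := hfix (MulAut.conj n).toMonoidHom (MulAut.conj n).injective (fun x hx => by simpa using h5 x hx)
  have h8 : n * w * n⁻¹ = w := by simpa using h7
  rw [mul_inv_eq_iff_eq_mul, hn'] at h8
  have h9 : r * w * c = w * r * c := by
    calc r * w * c = r * (w * c) := by group
      _ = r * c * w := by rw [hcw]; group
      _ = w * r * c := by rw [h8]; group
  exact mul_right_cancel h9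

end Orb

end Cfsg.Agent.OddHalf.Quat
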