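import Cfsg.Agent.OddHalf.Quat.Dquat
import Cfsg.Agent.OddHalf.Quat.NotOne
import Cfsg.Agent.OddHalf.Quat.EvenCov
import Cfsg.Agent.OddHalf.Quat.GoodAll
import Cfsg.Agent.OddHalf.Quat.GoodOdd
import Cfsg.Agent.OddHalf.D9.L34.RowAny
import Cfsg.Agent.OddHalf.D9.G24.Final

/-!
# Node Q: the plug

`nodeQ` : `Iface.NodeQ` from the listed statements (`SylowSp4.Hyps.GW`, `OneExt`, `FT`, `Main.Known`), the multipliers
(`D9.Cut.Mult`), `D5cover`, `U2`, the nodes `NI.NoBig`, `NI3.NoThree`, `NI3.F13` and the row `RowO83` (`PΩ⁺₈(3)`).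
-/

set_option autoImplicit false
set_option linter.style.haveILetI false

namespace Cfsg.Agent.OddHalf.Quat.Plug

open Subgroup Cfsg Cfsg.Agent.Cit Cfsg.Agent.OddHalf.Iface

universe u

/-- `Z(K) = 1` -/
theorem simple0 (hB : NI.NoBig.{u}) (h3 : NI3.NoThree.{u}) (hF : NI3.F13.{u}) (h8 : RowO83.{u}) :
    Simple0.{u} := by
  intro G _ C K S hz hl
  have e := Main.quoEquiv hz
  rcases Known.classify S.quo_na S.known with h | ⟨p, hp, hp2, h⟩ | h | h
  · exact good_alt (Known.isAlternating_congr e h)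
  · by_cases ha : IsAlternating ↥K
    · exact good_alt ha
    · exact good_odd hB h3 hF h8 C S hz ⟨p, hp, hp2, Known.isLieTypeChar_congr e h⟩ ha
  · by_cases ha : IsAlternating ↥K
    · exact good_alt ha
    by_cases ho : LieOdd ↥K
    · exact good_odd hB h3 hF h8 C S hz ho ha
    · exact good_two hz ⟨h.imp (Known.isLieTypeChar_congr e) (Known.isoTits_congr e), ha, ho⟩ hl
  · exact good_spor (Known.isSporadic_congr e h)

/-- `Z(K) ≠ 1`, characteristic 2 or sporadic -/
theorem even0 (M : D9.Cut.Mult.{u}) (ft : D9.KillAnyRow.FT.{u}) : Even0.{u} := by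
  intro G _ _ _ C K S hz ht hl z Q f h1
  exact f.false_even M C.na h1 hz (D4.Cut.quasisimple S) ht hl
    (fun h => D9.L34.RowAny.row_any G C K S h) (fun h => D9.G24.Final.g24_any ft G C K S h)

/-- the inputs of node Q -/
structure In : Prop where
  gw : SylowSp4.Hyps.GW.{u}
  one : OneExt.{u}
  ft : D9.KillAnyRow.FT.{u}
  known : Main.Known.{u}
  mult : D9.Cut.Mult.{u}
  d5cover : D5cover.{u}
  u2 : U2.{u}
  noBig : NI.NoBig.{u}
  noThree : NI3.NoThree.{u}
  f13 : NI3.F13.{u}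
  rowO83 : RowO83.{u}

/-- **node Q** -/
theorem nodeQ (I : In.{u}) : NodeQ.{u} :=
  nodeQ_of I.gw I.known I.d5cover I.u2
    (fun _ _ _ _ C _ _ b => not_one I.gw I.one I.known.rows C b)
    (simple0 I.noBig I.noThree I.f13 I.rowO83) (even0 I.mult I.ft)

end Cfsg.Agent.OddHalf.Quat.Plug
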