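import Cfsg.Agent.OddHalf.Quat.OfRgd
import Cfsg.Agent.OddHalf.Quat.BigMap
import Cfsg.Agent.KFacts.F4Perf

/-!
# Node Q: `KBig U` for `F₄(q)`, `q ≥ 4` even

`Z(U) ≤ X_ρ X_σ`; `ρ = a + b`, `a = c + d` with all of `a, b, c, d` positive and long, `σ` likewise with short roots.
-/

set_option autoImplicit false

namespace Cfsg.Agent.OddHalf.Quat.RowF4

open CoxeterSystem Cfsg.Agent.ChevalleyStructure.CoxeterGeom Cfsg.Agent.Tits.Roots Cfsg.Agent.Tits.Core
open Cfsg.Lie Cfsg.Agent.ChevalleyStructure Cfsg.Agent.ChevalleyStructure.Elts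
  Cfsg.Agent.ChevalleyStructure.RootVec Cfsg.Agent.ChevalleyStructure.CoxeterGeomTypes
open Cfsg.Agent.Nodes Cfsg.Agent.Nodes.Reps Cfsg.Agent.Nodes.BNOf Cfsg.Agent.Nodes.RGDChev Cfsg.Agent.Nodes.Coroot
  Cfsg.Agent.Nodes.KindF Cfsg.Agent.Nodes.Bruhat Cfsg.Agent.KFacts.ChevTwo Cfsg.Agent.KFacts.ChevTwoTab
  Cfsg.Agent.KFacts.ChevTwoInst Cfsg.Agent.KFacts.RgdTI
  Cfsg.Agent.KFacts.F4Star Cfsg.Agent.KFacts.F4Cent Cfsg.Agent.KFacts.F4Pair Cfsg.Agent.KFacts.F4Torus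
  Cfsg.Agent.KFacts.F4Perf
open scoped commutatorElement

universe u

variable {K : Type u} [Field K] [Finite K] [CharP K 2] {W : Type*} [Group W]
  (cs : CoxeterSystem CoxeterMatrix.F₄ W)

/-- `c = a + b`, `a, b` positive, of the same length as `c` -/
def good (c a b : ℕ) : Bool := Nat.ble 24 a && Nat.blt a 48 && Nat.ble 24 b && Nat.blt b 48 &&
  decide (carB chevF4 a b = -1) && decide (carB chevF4 b a = -1) && lin 1 c 1 a 1 b

theorem good_ok : (good 44 34 39 && good 34 27 33 && good 47 26 45 && good 26 24 25) = true := by decide +kernel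

theorem eq_comm_of_good {c a b : ℕ} (h : good c a b = true) :
    v a ∈ RGD.Pos cs isType.isCartan ∧ v b ∈ RGD.Pos cs isType.isCartan ∧ ∀ t : K, eF K (v c) t = ⁅eF K (v a) t, eF K (v b) 1⁆ := by
  have hW : Finite W := finite_W isType cs
  simp only [good, Bool.and_eq_true, Nat.ble_eq, Nat.blt_eq, decide_eq_true_eq] at h
  obtain ⟨⟨⟨⟨⟨⟨h1, h2⟩, h3⟩, h4⟩, h5⟩, h6⟩, h7⟩ := h
  refine ⟨(mem_pos_iff cs h2).2 h1, (mem_pos_iff cs h4).2 h3, fun t => ?_⟩
  have D := (sysF (K := K) cs).data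
  rw [D.comm1 (v a) (v b) (isRoot_v cs h2) (isRoot_v cs h4) (by rw [cpr_v cs h4 h2]; exact h6)
    (by rw [cpr_v cs h2 h4]; exact h5), mul_one, ← lin_one h7]

theorem mem_three {c a b a' b' : ℕ} (h : good c a b = true) (h' : good a a' b' = true) (t : K) :
    eF K (v c) t ∈ ⁅⁅RGD.Sup (XF K) (RGD.Pos cs isType.isCartan), RGD.Sup (XF K) (RGD.Pos cs isType.isCartan)⁆,
      RGD.Sup (XF K) (RGD.Pos cs isType.isCartan)⁆ := by
  obtain ⟨-, h2, h3⟩ := eq_comm_of_good (K := K) cs h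
  obtain ⟨h4, h5, h6⟩ := eq_comm_of_good (K := K) cs h'
  rw [h3 t, h6 t]
  exact Subgroup.commutator_mem_commutator
    (Subgroup.commutator_mem_commutator (e_mem cs h4.1 h4 t) (e_mem cs h5.1 h5 1)) (e_mem cs h2.1 h2 1)

include cs in
theorem tor_cent (hK : 4 ≤ Nat.card K) {x : Fin 4 → ℤ} (hx : IsRoot cs isType.isCartan x) {z : ↥(chevF4.group K)}
    (hz : z ∈ XF K x) (ht : ∀ t ∈ TF K, t * z = z * t) : z = 1 := by
  classical
  have hW : Finite W := finite_W isType cs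
  have := Fintype.ofFinite K
  obtain ⟨u, rfl⟩ := (mem_XF_iff cs hx).1 hz
  have D := (sysF (K := K) cs).data
  obtain ⟨c, hc0, hc1⟩ : ∃ c : K, c ≠ 0 ∧ c ≠ 1 := by
    have h1 : 2 < Fintype.card K := by rw [← Nat.card_eq_fintype_card]; omega
    obtain ⟨c, hc⟩ := Finset.exists_mem_notMem_of_card_lt_card
      (s := ({0, 1} : Finset K)) (t := Finset.univ) (lt_of_le_of_lt Finset.card_le_two (by rwa [Finset.card_univ]))
    simp only [Finset.mem_insert, Finset.mem_singleton, not_or] at hc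
    exact ⟨c, hc.2.1, hc.2.2⟩
  have h1 := ht _ (hel_mem cs hx hc0)
  have h2 : hel (eF K) x c * eF K x u * (hel (eF K) x c)⁻¹ = eF K x u := by rw [h1]; group
  rw [D.hel_conj hx hx hc0, cpr_self cs _ hx] at h2
  have h3 := D.injective hx h2
  have h4 : u = 0 := by
    by_contra h0
    have h5 : c ^ (2 : ℤ) = 1 := mul_right_cancel₀ h0 (by rw [one_mul]; exact h3)
    have h6 : (c - 1) * (c - 1) = 0 := by
      have h7 : c * c = 1 := by rw [← h5, zpow_two]
      have h8 : (2 : K) = 0 := CharTwo.two_eq_zero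
      linear_combination h7 - (c - 1) * h8
    rcases mul_eq_zero.1 h6 with h7 | h7 <;> exact hc1 (sub_eq_zero.1 h7)
  rw [h4]
  have h5 := D.add x hx 0 0
  rw [add_zero] at h5
  exact left_eq_mul.1 h5

theorem exists_kbig (hK : 4 ≤ Nat.card K) : ∃ U : Sylow 2 ↥(chevF4.group K), KBig (U : Subgroup ↥(chevF4.group K)) := by
  obtain cs : CoxeterSystem CoxeterMatrix.F₄ CoxeterMatrix.F₄.Group := CoxeterMatrix.F₄.toCoxeterSystem
  have hW : Finite CoxeterMatrix.F₄.Group := finite_W isType cs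
  have hgood := good_ok
  simp only [Bool.and_eq_true] at hgood
  obtain ⟨⟨⟨g1, g2⟩, g3⟩, g4⟩ := hgood
  have hGG : GG cs isType.isCartan (TF K) (XF K) = ⊤ := by
    rw [eq_top_iff, ← (G1_eq_top isType cs : RGDLib.G1 cs isType.isCartan (XF K) = ⊤)]
    exact RGD.Sup_le fun x hx => X_le_GG (X := XF K) hx
  refine OfRgd.kbig (rgd (K := K) isType cs 2) hGG (fun x hx z hz => tor_cent cs hK hx hz) ?_
  intro x hx _ hxc
  have h1 : x ∈ RGD.Sup (XF K) {v 47, v 44} := by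
    refine cent_pos cs fun c hc => ?_
    have D := (sysF (K := K) cs).data
    have hm : eF K c 1 ∈ XF K c := (mem_XF_iff cs hc.1).2 ⟨1, rfl⟩
    exact ⟨eF K c 1, hm, fun h => one_ne_zero (D.inj c hc.1 1 h), (hxc _ (RGD.le_Sup hc hm)).symm⟩
  have h2 : RGD.Sup (XF K) {v 47, v 44} ≤ ⁅⁅RGD.Sup (XF K) (RGD.Pos cs isType.isCartan),
      RGD.Sup (XF K) (RGD.Pos cs isType.isCartan)⁆, RGD.Sup (XF K) (RGD.Pos cs isType.isCartan)⁆ := by
    refine RGD.Sup_le fun c hc z hz => ?_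
    rcases hc with rfl | hc
    · obtain ⟨t, rfl⟩ := (mem_XF_iff cs (isRoot_v cs (by norm_num))).1 hz
      exact mem_three cs g3 g4 t
    · rw [Set.mem_singleton_iff] at hc
      subst hc
      obtain ⟨t, rfl⟩ := (mem_XF_iff cs (isRoot_v cs (by norm_num))).1 hz
      exact mem_three cs g1 g2 t
  exact h2 h1

/-- `KBig` for `F₄(2^a)`, `a ≥ 2`, in the form of `D9.Cut` -/
theorem main {F : Type u} {L : Type*} [Field F] [Fintype F] [Group L] {r : ℕ} (hr : 2 ≤ r)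
    (hF : Fintype.card F = 2 ^ r) (e : L ≃* ↥(chevF4.group F)) : ∃ U : Sylow 2 L, KBig (U : Subgroup L) := by
  have : Fact (Nat.Prime 2) := ⟨Nat.prime_two⟩
  have : CharP F 2 := charP_of_card_eq_prime_pow (f := r) hF
  refine exists_kbig_of_equiv e.symm (exists_kbig (K := F) ?_)
  rw [Nat.card_eq_fintype_card, hF]
  exact Nat.pow_le_pow_right (n := 2) (by norm_num) hr

end Cfsg.Agent.OddHalf.Quat.RowF4
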