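import Cfsg.Agent.OddHalf.Quat.Orb

/-!
# Node Q: the members `K` of `Om` are quaternion 2-groups, `Kc K` is the standard component

`QK Om Kc`: every member `K` is a 2-group, the only member with its involution; `Kc K` commutes with `K` and is normal
in `C(zz K)`; `zz K ∉ Kc K`; LEMMA B': `zz L ∈ Kc K` for commuting members `K ≠ L`.

`QK.exists_w`: the product `w` of the other involutions of `Om(S)`.
`QK.dichotomy`: if `X ≤ Z(S ⊓ Kc K)` is elementary abelian, `C_S(zz K)`-invariant, contains `w`, and some element of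
`C(zz K)` normalises `X` and moves `w`, then some `L ∈ Om(S)` with `zz L ∈ X` acts nontrivially on `X`.
-/

set_option autoImplicit false

namespace Cfsg.Agent.OddHalf.Quat

open Subgroup Cfsg Cfsg.Agent.Cit

variable {G : Type*} [Group G]

/-- node Q -/
structure QK (Om : Set (Subgroup G)) (Kc : Subgroup G → Subgroup G) : Prop where
  hyp : Hyp Om
  two : ∀ K ∈ Om, IsPGroup 2 K
  one : ∀ K ∈ Om, ∀ L ∈ Om, zz K = zz L → K = L
  comm : ∀ K ∈ Om, ∀ x ∈ Kc K, ∀ y ∈ K, x * y = y * x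
  nor : ∀ K ∈ Om, ∀ g, g * zz K = zz K * g → ∀ x ∈ Kc K, g * x * g⁻¹ ∈ Kc K
  ntr : ∀ K ∈ Om, zz K ∉ Kc K
  mem : ∀ K ∈ Om, ∀ L ∈ Om, K ≠ L → (∀ x ∈ K, ∀ y ∈ L, x * y = y * x) → zz L ∈ Kc K

namespace QK

variable [Finite G] {Om : Set (Subgroup G)} {Kc : Subgroup G → Subgroup G} {S : Sylow 2 G} {K L : Subgroup G}

/-- the members of `Om(S)` lie in `S` -/
theorem le_S (q : QK Om Kc) (hK : K ∈ OmS Om (S : Subgroup G)) : K ≤ (S : Subgroup G) := by
  have h1 := (q.two K hK.1)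
  have h2 : Syl K K := ⟨le_rfl, h1, by rw [relIndex_self]; omega⟩
  have h3 := (syl_inf S.isPGroup' hK).eq_of_le inf_le_left le_rfl h1
  rw [← h3]
  exact inf_le_right

theorem norm_of_comm (q : QK Om Kc) (hK : K ∈ Om) {g : G} (hg : g * zz K = zz K * g) :
    g ∈ normalizer (K : Set G) := by
  rw [mem_normalizer_iff_cj]
  apply q.one _ (q.hyp.conj K hK g) _ hK
  rw [q.hyp.zz_cj hK, hg, mul_inv_cancel_right]

theorem comm_members (q : QK Om Kc) (hK : K ∈ OmS Om (S : Subgroup G)) (hL : L ∈ OmS Om (S : Subgroup G))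
    (hne : K ≠ L) : ∀ x ∈ K, ∀ y ∈ L, x * y = y * x := fun _ hx _ hy =>
  q.hyp.comm S.isPGroup' hK hL hne ⟨hx, q.le_S hK hx⟩ ⟨hy, q.le_S hL hy⟩

theorem mem_Kc (q : QK Om Kc) (hK : K ∈ OmS Om (S : Subgroup G)) (hL : L ∈ OmS Om (S : Subgroup G))
    (hne : K ≠ L) : zz L ∈ Kc K := q.mem K hK.1 L hL.1 hne (q.comm_members hK hL hne)

theorem closure_le (q : QK Om Kc) (hK : K ∈ OmS Om (S : Subgroup G)) :
    closure (Orb.ZE Om (S : Subgroup G) K) ≤ Kc K := by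
  rw [Subgroup.closure_le]
  rintro x ⟨L, hL, hne, rfl⟩
  exact q.mem_Kc hK hL hne.symm

theorem D_centralizes (q : QK Om Kc) (hL : L ∈ OmS Om (S : Subgroup G)) {d : G}
    (hd : d ∈ DD Om (S : Subgroup G)) : d * zz L = zz L * d :=
  mem_centralizer_singleton_iff.1 (q.hyp.DD_le_centralizer S.isPGroup' hL hd)

/-- **the product of the other involutions** -/
theorem exists_w (q : QK Om Kc) (hK : K ∈ OmS Om (S : Subgroup G))
    (hne : ∃ L ∈ OmS Om (S : Subgroup G), L ≠ K) :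
    ∃ w ∈ closure (Orb.ZE Om (S : Subgroup G) K), w ≠ 1 ∧ w * w = 1 ∧ w ∈ Kc K ∧ w ∈ (S : Subgroup G) ∧
      (∀ t ∈ (S : Subgroup G), t * zz K = zz K * t → t * w = w * t) ∧
      (∀ A : Set G, w ∈ A → DD Om (S : Subgroup G) ≤ centralizer A → ∀ r : G, r * zz K = zz K * r →
        (∀ a ∈ A, r * a * r⁻¹ ∈ A) → r * w = w * r) ∧
      ((∃ x, Orb.ZE Om (S : Subgroup G) K = {x}) → w ∈ Orb.ZE Om (S : Subgroup G) K) ∧
      (∀ x ∈ Orb.ZE Om (S : Subgroup G) K, x⁻¹ * w ∈ closure (Orb.ZE Om (S : Subgroup G) K \ {x})) := by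
  obtain ⟨w, hw, hfix, hex, hone⟩ := Orb.exists_w q.hyp S hK (fun L hL h => q.one L hL K hK.1 h)
  have hEE : ∀ x ∈ Orb.ZE Om (S : Subgroup G) K, ∀ y ∈ Orb.ZE Om (S : Subgroup G) K, x * y = y * x := by
    rintro x ⟨L, hL, -, rfl⟩ y ⟨M, hM, -, rfl⟩
    by_cases hLM : L = M
    · rw [hLM]
    · exact q.comm_members hL hM hLM _ (q.hyp.zz_mem hL.1) _ (q.hyp.zz_mem hM.1)
  have hsq : ∀ x ∈ closure (Orb.ZE Om (S : Subgroup G) K), x * x = 1 := by
    intro x hx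
    have hab : ∀ y ∈ closure (Orb.ZE Om (S : Subgroup G) K), ∀ z ∈ closure (Orb.ZE Om (S : Subgroup G) K),
        y * z = z * y := by
      have h1 : IsMulCommutative (closure (Orb.ZE Om (S : Subgroup G) K)) :=
        isMulCommutative_closure fun x hx y hy => hEE x hx y hy
      intro y hy z hz
      have h2 := h1.1.comm (⟨y, hy⟩ : closure (Orb.ZE Om (S : Subgroup G) K)) ⟨z, hz⟩
      exact congrArg Subtype.val h2
    induction hx using Subgroup.closure_induction with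
    | mem x hx =>
      obtain ⟨L, hL, -, rfl⟩ := hx
      exact q.hyp.zz_mul hL.1
    | one => simp
    | mul a b ha hb iha ihb =>
      calc a * b * (a * b) = a * (b * a) * b := by group
        _ = (a * a) * (b * b) := by rw [hab b hb a ha]; group
        _ = 1 := by rw [iha, ihb, one_mul]
    | inv a ha iha =>
      rw [← mul_inv_rev, iha, inv_one]
  have hclS : closure (Orb.ZE Om (S : Subgroup G) K) ≤ (S : Subgroup G) := by
    rw [Subgroup.closure_le]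
    rintro x ⟨L, hL, -, rfl⟩
    exact q.le_S hL (q.hyp.zz_mem hL.1)
  refine ⟨w, hw, ?_, hsq w hw, q.closure_le hK hw, hclS hw, ?_, hfix, hone, hex⟩
  · intro h1
    obtain ⟨L, hL, hLK⟩ := hne
    have h2 := hex (zz L) ⟨L, hL, hLK, rfl⟩
    rw [h1, mul_one] at h2
    have h3 : closure (Orb.ZE Om (S : Subgroup G) K \ {zz L}) ≤ Kc L := by
      rw [Subgroup.closure_le]
      rintro x ⟨⟨M, hM, -, rfl⟩, hx⟩
      have hML : M ≠ L := fun hh => hx (by rw [hh]; rfl)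
      exact q.mem_Kc hL hM hML.symm
    exact q.ntr L hL.1 ((inv_mem_iff).1 (h3 h2))
  · intro t ht htK
    refine hfix (closure (Orb.ZE Om (S : Subgroup G) K) : Set G) hw ?_ t htK ?_
    · intro d hd
      rw [mem_centralizer_iff]
      intro a ha
      have h4 : closure (Orb.ZE Om (S : Subgroup G) K) ≤ centralizer {d} := by
        rw [Subgroup.closure_le]
        rintro x ⟨L, hL, -, rfl⟩
        exact mem_centralizer_singleton_iff.2 (q.D_centralizes hL hd).symm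
      exact (mem_centralizer_singleton_iff.1 (h4 ha))
    · intro a ha
      have h5 : (closure (Orb.ZE Om (S : Subgroup G) K)).map (MulAut.conj t).toMonoidHom ≤
          closure (Orb.ZE Om (S : Subgroup G) K) := by
        rw [MonoidHom.map_closure, Subgroup.closure_le]
        rintro x ⟨y, ⟨L, hL, hLK, rfl⟩, rfl⟩
        apply Subgroup.subset_closure
        refine ⟨cj t L, cj_mem_OmS' q.hyp.conj (le_normalizer ht) hL, ?_, ?_⟩
        · intro hh
          apply hLK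
          apply cj_inj.1 (hh.trans (mem_normalizer_iff_cj.1 (q.norm_of_comm hK.1 htK)).symm)
        · rw [q.hyp.zz_cj hL.1]; rfl
      exact h5 ⟨a, ha, rfl⟩

/-- **LEMMA ORB** -/
theorem dichotomy (q : QK Om Kc) (hK : K ∈ OmS Om (S : Subgroup G)) {w : G}
    (hfix : ∀ A : Set G, w ∈ A → DD Om (S : Subgroup G) ≤ centralizer A → ∀ r : G, r * zz K = zz K * r →
        (∀ a ∈ A, r * a * r⁻¹ ∈ A) → r * w = w * r) {X : Subgroup G}
    (hXK : X ≤ Kc K) (hX2 : ∀ x ∈ X, x * x = 1)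
    (hXZ : ∀ x ∈ X, ∀ t ∈ (S : Subgroup G), t ∈ Kc K → x * t = t * x)
    (hXS : ∀ x ∈ X, ∀ t ∈ (S : Subgroup G), t * zz K = zz K * t → t * x * t⁻¹ ∈ X)
    (hw : w ∈ X) {r : G} (hr : r * zz K = zz K * r) (hrX : ∀ x ∈ X, r * x * r⁻¹ ∈ X) (hrw : r * w ≠ w * r) :
    ∃ L ∈ OmS Om (S : Subgroup G), L ≠ K ∧ zz L ∈ X ∧ ¬ L ≤ Kc K ∧ (∃ y ∈ L, ∃ x ∈ X, y * x ≠ x * y) ∧
      (∀ t ∈ (S : Subgroup G), t ∈ Kc K → ∀ y ∈ L, t * y * t⁻¹ * y⁻¹ ∈ L ⊓ Kc K) := by
  have h1 : ¬ DD Om (S : Subgroup G) ≤ centralizer (X : Set G) := by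
    intro hD
    exact hrw (hfix (X : Set G) hw hD r hr hrX)
  rw [DD_le_iff] at h1
  push Not at h1
  obtain ⟨L, hL, hLX⟩ := h1
  obtain ⟨y, hy, hyX⟩ := SetLike.not_le_iff_exists.1 hLX
  rw [mem_centralizer_iff] at hyX
  push Not at hyX
  obtain ⟨x, hx, hxy⟩ := hyX
  have hyL := hy.1
  have hLK : L ≠ K := by
    rintro rfl
    exact hxy (q.comm L hL.1 x (hXK hx) y hyL)
  have hzS : zz L ∈ (S : Subgroup G) := q.le_S hL (q.hyp.zz_mem hL.1)
  have hzK : zz L ∈ Kc K := q.mem_Kc hK hL hLK.symm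
  have hyK : ∀ y ∈ L, y * zz K = zz K * y := fun y hy =>
    (q.comm_members hK hL hLK.symm _ (q.hyp.zz_mem hK.1) y hy).symm
  have hTL : ∀ t ∈ (S : Subgroup G), t ∈ Kc K → (∀ x ∈ X, x * t = t * x) := fun t ht htK x hx => hXZ x hx t ht htK
  -- the commutator
  have hcX : x * y * x⁻¹ * y⁻¹ ∈ X := by
    have h2 := hXS x⁻¹ (X.inv_mem hx) y hy.2 (hyK y hyL)
    have h3 := X.mul_mem hx h2
    have h4 : x * (y * x⁻¹ * y⁻¹) = x * y * x⁻¹ * y⁻¹ := by group
    rwa [h4] at h3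
  have hxL : x ∈ normalizer (L : Set G) := q.norm_of_comm hL.1 (hXZ x hx _ hzS hzK)
  have hcL : x * y * x⁻¹ * y⁻¹ ∈ L :=
    L.mul_mem ((mem_normalizer_iff.1 hxL y).1 hyL) (L.inv_mem hyL)
  have hc1 : x * y * x⁻¹ * y⁻¹ ≠ 1 := by
    intro hh
    rw [mul_inv_eq_one, mul_inv_eq_iff_eq_mul] at hh
    exact hxy hh
  have hz : x * y * x⁻¹ * y⁻¹ = zz L := q.hyp.eq_zz hL.1 hcL (hX2 _ hcX) hc1
  have hzX : zz L ∈ X := hz ▸ hcX
  refine ⟨L, hL, hLK, hzX, ?_, ⟨y, hyL, x, hx, fun hh => hxy hh.symm⟩, ?_⟩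
  · intro hle
    exact hxy (hXZ x hx y hy.2 (hle hyL))
  · intro t ht htK y hy
    have h2 : t ∈ normalizer (L : Set G) := q.norm_of_comm hL.1 (hXZ _ hzX t ht htK).symm
    refine ⟨L.mul_mem ((mem_normalizer_iff.1 h2 y).1 hy) (L.inv_mem hy), ?_⟩
    have h3 := q.nor K hK.1 y (hyK y hy) t⁻¹ ((Kc K).inv_mem htK)
    have h4 := (Kc K).mul_mem htK h3
    have h5 : t * (y * t⁻¹ * y⁻¹) = t * y * t⁻¹ * y⁻¹ := by group
    rwa [h5] at h4

end QK

end Cfsg.Agent.OddHalf.Quat
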